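import Cfsg.Agent.Lib.OstromWagner.SpreadQuadratic

/-!
# A finite spread set closed under inversion is a field
-/

namespace CfsgLib.OstromWagner

variable {A : Type*} [Ring A] [Nontrivial A] [Finite A] {p : ℕ}

/-- The spread set is a field. -/
theorem Spread.exists_field (D : Spread A p) :
    ∃ R : Subring A, D.InS R ∧ ∀ x ∈ D.S, x ∈ R := by
  classical
  obtain ⟨R, hR, hcent⟩ := D.exists_maximal
  refine ⟨R, hR, ?_⟩
  letI : CommRing R := { (inferInstance : Ring R) with
    mul_comm := fun a b => Subtype.ext (hR.2 _ a.2 _ b.2) }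
  haveI : NoZeroDivisors R := ⟨fun {a b} h =>
    (D.inS_mul_eq_zero hR a.2 (congrArg Subtype.val h)).imp Subtype.ext Subtype.ext⟩
  haveI : IsDomain R := NoZeroDivisors.to_isDomain R
  letI : Fintype R := Fintype.ofFinite R
  letI : Field R := Fintype.fieldOfDomain R
  haveI : Fact p.Prime := ⟨D.prime⟩
  have hp0 : (p : R) = 0 := Subtype.ext (by simpa using D.char)
  haveI : CharP R p := (CharP.charP_iff_prime_eq_zero D.prime).2 hp0
  letI : Fintype (RingAut R) := @Fintype.ofFinite _ finite_aut
  let ι : R →+* A := R.subtype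
  obtain ⟨g, hg⟩ := exists_isGen (K := R)
  have M : MaxField D ι g :=
    { mem := fun f => hR.1 f.2
      cent := fun y hy hyc => by
        refine ⟨⟨y, hcent y hy fun f hf => ?_⟩, rfl⟩
        exact (hyc ⟨f, hf⟩).symm
      gen := hg }
  intro x hx
  have hsum := sum_proj ι hg x
  have hzero : ∀ σ : RingAut R, σ ≠ 1 → proj ι g σ x = 0 := by
    intro σ hσ1
    by_contra hne
    have hu := proj_mem ι (p := p) hg σ x
    have hw := proj_mem ι (p := p) hg σ⁻¹ x
    have hpair := fun ν => M.pair_mem hx σ ν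
    by_cases h2 : σ⁻¹ = σ
    · -- an involutory component lies in `S`
      obtain ⟨ν, hν⟩ : ∃ ν : R, ν + σ ν ≠ 0 := by
        by_contra hc
        push Not at hc
        refine hσ1 (RingEquiv.ext fun ν => ?_)
        show σ ν = ν
        have e1 := hc 1
        rw [map_one] at e1
        have e2 : ν + ν = 0 := by rw [← two_mul, ← one_add_one_eq_two, e1, zero_mul]
        rw [eq_neg_of_add_eq_zero_right (hc ν)]
        exact (eq_neg_of_add_eq_zero_right e2).symm
      have hσσ : σ (σ ν) = ν :=
        (congrArg (fun τ : RingAut R => τ (σ ν)) h2).symm.trans (σ.symm_apply_apply ν)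
      have h := hpair (ν / (ν + σ ν))
      rw [h2, ← add_mul, ← map_add, map_div₀, map_add σ ν (σ ν), hσσ, add_comm (σ ν) ν, ← add_div,
        div_self hν, map_one, one_mul] at h
      exact hne (M.pure_eq_zero hσ1 h hu)
    · set u := proj ι g σ x with hudef
      set w := proj ι g σ⁻¹ x with hwdef
      obtain ⟨a, b, ha, hb⟩ := M.pair_products h2 hu hw hpair
      by_cases h0 : a = 0 ∧ b = 0
      · exact hne (M.pair_orth h2 hu hw hpair (by rw [← ha, h0.1, map_zero])
          (by rw [← hb, h0.2, map_zero]))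
      · have hub : ι (σ b) * u = ι a * u := by rw [← hu, hb, ha, mul_assoc]
        have hab : a = σ b := by
          by_contra e
          have h1 : ι (σ b - a) * u = 0 := by rw [map_sub, sub_mul, hub, sub_self]
          exact hne (((IsUnit.mk0 _ (sub_ne_zero.2 (Ne.symm e))).map ι).mul_right_eq_zero.1 h1)
        have hb0 : b ≠ 0 := fun e => h0 ⟨by rw [hab, e, map_zero], e⟩
        have ha0 : a ≠ 0 := fun e => hb0 ((map_eq_zero σ).1 (hab.symm.trans e))
        have h1 : u * (w * ι a⁻¹) = 1 := by
          rw [← mul_assoc, ← ha, ← map_mul, mul_inv_cancel₀ ha0, map_one]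
        have h3 : ι b⁻¹ * w * u = 1 := by
          rw [mul_assoc, ← hb, ← map_mul, inv_mul_cancel₀ hb0, map_one]
        obtain ⟨U, hU⟩ : IsUnit u := isUnit_iff_exists_and_exists.2 ⟨⟨_, h1⟩, ⟨_, h3⟩⟩
        have hwU : w = ι b * ((U⁻¹ : Aˣ) : A) := by
          rw [hb, ← hU, Units.mul_inv_cancel_right]
        refine M.no_skew h2 hb0 (hU ▸ hu) fun ν => ?_
        rw [hU, ← hwU]
        exact hpair ν
  rw [Finset.sum_eq_single 1 (fun σ _ h => hzero σ h) (by simp)] at hsum
  obtain ⟨f, hf⟩ := M.proj_one_mem hx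
  rw [← hsum, ← hf]
  exact f.2

/-- Products and commutativity in the spread set. -/
theorem Spread.mul_mem_and_comm (D : Spread A p) {a b : A} (ha : a ∈ D.S) (hb : b ∈ D.S) :
    a * b ∈ D.S ∧ a * b = b * a := by
  obtain ⟨R, hR, hall⟩ := D.exists_field
  exact ⟨hR.1 (R.mul_mem (hall a ha) (hall b hb)), hR.2 a (hall a ha) b (hall b hb)⟩

end CfsgLib.OstromWagner
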