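import Cfsg.Agent.Lib.OstromWagner.Frame
import Cfsg.Agent.Lib.OstromWagner.SpreadField

/-!
# The Ostrom–Wagner theorem
-/

namespace CfsgLib.OstromWagner

open Configuration Configuration.ProjectivePlane MulAction Projectivization

universe u v w

variable {G : Type u} {P : Type v} {L : Type w} [Group G] [Membership P L] [MulAction G P] [MulAction G L]
  [ProjectivePlane P L] [Finite P] [Finite L] [IsColl G P L] [Finite G]

namespace Frame

variable (c : Frame G P L)

lemma x0_nontrivial : Nontrivial (Additive c.X0) := by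
  have : Nat.card (Additive c.X0) = order P L := c.x0_card
  exact Finite.one_lt_card_iff_nontrivial.1 (by rw [this]; exact two_le_order)

lemma dirs_card : Nat.card c.Dirs = order P L := by
  have h1 : Nat.card c.Dirs = ({Q : P | Q ∈ c.linf} \ {c.Cinf}).ncard := Nat.card_coe_set_eq _
  rw [h1, Set.ncard_sdiff_singleton_of_mem (show c.Cinf ∈ {Q : P | Q ∈ c.linf} from c.hCinf),
    ← Nat.card_coe_set_eq]
  have : Nat.card ↥{Q : P | Q ∈ c.linf} = order P L + 1 := card_on c.linf
  rw [this, Nat.add_sub_cancel]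

/-- Coordinates of points, incidence with lines, over a field. -/
theorem exists_coordinates (c : Frame G P L) :
    ∃ (K : Type u) (_ : Field K) (_ : Finite K) (crd : P → Fin 3 → K), Nat.card K = order P L ∧
      (∀ Q, crd Q ≠ 0) ∧ (∀ Q Q' : P, ∀ t : K, t • crd Q' = crd Q → Q = Q') ∧
      ∀ m : L, ∃ w : Fin 3 → K, w ≠ 0 ∧
        ∀ Q : P, Q ∈ m ↔ w 0 * crd Q 0 + w 1 * crd Q 1 + w 2 * crd Q 2 = 0 := by
  classical
  set X := Additive c.X0
  set Y := Additive c.swap.X0
  haveI : Nontrivial X := c.x0_nontrivial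
  haveI : Finite (AddMonoid.End X) :=
    Finite.of_injective (fun f : AddMonoid.End X => (f : X → X)) DFunLike.coe_injective
  haveI : Nontrivial (AddMonoid.End X) := by
    obtain ⟨x, hx⟩ := exists_ne (0 : X)
    exact ⟨1, 0, fun h => hx (DFunLike.congr_fun h x)⟩
  obtain ⟨q, hq, hcardT, hTcard, hexp, -⟩ := elat_full c.two c.linf
  have hqX : ∀ x : X, q • x = 0 := fun x =>
    Additive.toMul.injective (Subtype.ext (show ((x.toMul ^ q : c.X0) : G) = 1 from by
      rw [SubmonoidClass.coe_pow]; exact hexp _ (c.x0_mem x.toMul.2)))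
  -- a unit slope
  obtain ⟨C1, hC1, hC10, hC1i⟩ := exists_ne_ne_on c.C0 c.Cinf c.linf
  let e : X ≃+ Y := AddEquiv.ofBijective (c.slope ⟨C1, hC1, hC1i⟩)
    ((Nat.bijective_iff_injective_and_card _).2 ⟨c.slope_injective _ hC10,
      c.x0_card.trans c.swap.x0_card.symm⟩)
  have he : ∀ x, e x = c.slope ⟨C1, hC1, hC1i⟩ x := fun x => rfl
  let m : c.Dirs → AddMonoid.End X := fun C => (e.symm : Y →+ X).comp (c.slope C)
  have hm : ∀ C x, m C x = e.symm (c.slope C x) := fun C x => rfl
  let m' : c.swap.Dirs → AddMonoid.End X := fun C =>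
    (c.swap.slope C : Y →+ X).comp (e : X →+ Y)
  have hm' : ∀ C x, m' C x = c.swap.slope C (e x) := fun C x => rfl
  have hm0 : m ⟨c.C0, c.hC0, c.hne⟩ = 0 := AddMonoidHom.ext fun x => by
    show e.symm (c.slope _ x) = _
    rw [c.slope_C0, AddMonoidHom.zero_apply, map_zero]
    rfl
  have hm'0 : m' ⟨c.Cinf, c.hCinf, c.hne.symm⟩ = 0 := AddMonoidHom.ext fun x => by
    show c.swap.slope ⟨c.Cinf, c.hCinf, c.hne.symm⟩ (e x) = _
    rw [c.swap.slope_C0]
    rfl
  have hm1 : m ⟨C1, hC1, hC1i⟩ = 1 := AddMonoidHom.ext fun x => e.symm_apply_apply x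
  have hneg : ∀ a : AddMonoid.End X, -a = (q - 1) • a := by
    intro a
    rw [neg_eq_iff_add_eq_zero]
    refine AddMonoidHom.ext fun x => ?_
    show a x + (q - 1) • (a x) = 0
    rw [add_comm, ← succ_nsmul, Nat.sub_add_cancel hq.one_le, hqX]
  let S : AddSubgroup (AddMonoid.End X) :=
    { carrier := Set.range m
      zero_mem' := ⟨_, hm0⟩
      add_mem' := by
        rintro _ _ ⟨C, rfl⟩ ⟨C', rfl⟩
        obtain ⟨C'', h⟩ := c.slope_add C C'
        refine ⟨C'', AddMonoidHom.ext fun x => ?_⟩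
        show e.symm (c.slope C'' x) = e.symm (c.slope C x) + e.symm (c.slope C' x)
        rw [h, AddMonoidHom.add_apply, map_add]
      neg_mem' := by
        rintro _ ⟨C, rfl⟩
        rw [hneg]
        induction (q - 1) with
        | zero => rw [zero_nsmul]; exact ⟨_, hm0⟩
        | succ k ih =>
          rw [succ_nsmul]
          obtain ⟨C', hC'⟩ := ih
          obtain ⟨C'', h⟩ := c.slope_add C' C
          refine ⟨C'', AddMonoidHom.ext fun x => ?_⟩
          rw [← hC']
          show e.symm (c.slope C'' x) = e.symm (c.slope C' x) + e.symm (c.slope C x)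
          rw [h, AddMonoidHom.add_apply, map_add] }
  let S' : AddSubgroup (AddMonoid.End X) :=
    { carrier := Set.range m'
      zero_mem' := ⟨_, hm'0⟩
      add_mem' := by
        rintro _ _ ⟨C, rfl⟩ ⟨C', rfl⟩
        obtain ⟨C'', h⟩ := c.swap.slope_add C C'
        refine ⟨C'', AddMonoidHom.ext fun x => ?_⟩
        show c.swap.slope C'' (e x) = c.swap.slope C (e x) + c.swap.slope C' (e x)
        rw [h]
        rfl
      neg_mem' := by
        rintro _ ⟨C, rfl⟩
        rw [hneg]
        induction (q - 1) with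
        | zero => rw [zero_nsmul]; exact ⟨_, hm'0⟩
        | succ k ih =>
          rw [succ_nsmul]
          obtain ⟨C', hC'⟩ := ih
          obtain ⟨C'', h⟩ := c.swap.slope_add C' C
          refine ⟨C'', AddMonoidHom.ext fun x => ?_⟩
          rw [← hC']
          show c.swap.slope C'' (e x) = c.swap.slope C' (e x) + c.swap.slope C (e x)
          rw [h]
          rfl }
  have hunit : ∀ a : AddMonoid.End X, Function.Injective a → IsUnit a := by
    intro a ha
    let ae : X ≃+ X := AddEquiv.ofBijective a (Finite.injective_iff_bijective.1 ha)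
    exact ⟨⟨a, (ae.symm : X →+ X), AddMonoidHom.ext fun x => ae.apply_symm_apply x,
      AddMonoidHom.ext fun x => ae.symm_apply_apply x⟩, rfl⟩
  have hswap2 : ∀ (C : c.Dirs) (hC : C.1 ≠ c.C0) (y : Y),
      c.slope C (c.swap.slope ⟨C.1, C.2.1, hC⟩ y) = y := fun C hC y =>
    c.swap.slope_swap ⟨C.1, C.2.1, hC⟩ C.2.2 y
  have hinvS : ∀ (C : c.Dirs) (hC : C.1 ≠ c.C0),
      m' ⟨C.1, C.2.1, hC⟩ * m C = 1 ∧ m C * m' ⟨C.1, C.2.1, hC⟩ = 1 := by
    intro C hC
    refine ⟨AddMonoidHom.ext fun x => ?_, AddMonoidHom.ext fun x => ?_⟩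
    · show c.swap.slope _ (e (e.symm (c.slope C x))) = x
      rw [e.apply_symm_apply]
      exact c.slope_swap C hC x
    · show e.symm (c.slope C (c.swap.slope _ (e x))) = x
      rw [hswap2 C hC, e.symm_apply_apply]
  have hq0 : ((q : ℕ) : AddMonoid.End X) = 0 := AddMonoidHom.ext fun x => by
    show (q : AddMonoid.End X) x = 0
    rw [AddMonoid.End.natCast_apply, hqX]
  let D : Spread (AddMonoid.End X) q :=
    { S := S
      S' := S'
      one_mem := ⟨_, hm1⟩
      isUnit := by
        rintro _ ⟨C, rfl⟩ h0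
        exact hunit _ fun x y h => c.slope_injective C
          (fun e' => h0 (by rw [show C = ⟨c.C0, c.hC0, c.hne⟩ from Subtype.ext e']; exact hm0))
          (e.symm.injective h)
      isUnit' := by
        rintro _ ⟨C, rfl⟩ h0
        exact hunit _ fun x y h => e.injective (c.swap.slope_injective C
          (fun e' => h0 (by
            rw [show C = ⟨c.Cinf, c.hCinf, c.hne.symm⟩ from Subtype.ext e']; exact hm'0)) h)
      inv_mem := by
        intro u
        constructor
        · rintro ⟨C, hC⟩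
          have h0 : C.1 ≠ c.C0 := fun e' => u.ne_zero (by
            rw [← hC, show C = ⟨c.C0, c.hC0, c.hne⟩ from Subtype.ext e', hm0])
          refine ⟨⟨C.1, C.2.1, h0⟩, ?_⟩
          have h2 := (hinvS C h0).2
          rw [hC] at h2
          exact Units.eq_inv_of_mul_eq_one_left h2
        · rintro ⟨C, hC⟩
          have h0 : C.1 ≠ c.Cinf := fun e' => u⁻¹.ne_zero (by
            rw [← hC, show C = ⟨c.Cinf, c.hCinf, c.hne.symm⟩ from Subtype.ext e', hm'0])
          refine ⟨⟨C.1, C.2.1, h0⟩, ?_⟩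
          have h2 := (hinvS ⟨C.1, C.2.1, h0⟩ C.2.2).2
          rw [show m' ⟨C.1, C.2.1, C.2.2⟩ = ((u⁻¹ : (AddMonoid.End X)ˣ) : AddMonoid.End X)
            from hC, Units.mul_inv_eq_one] at h2
          exact h2
      prime := hq
      char := hq0 }
  obtain ⟨R, hR, hall⟩ := D.exists_field
  letI : CommRing R := { (inferInstance : Ring R) with
    mul_comm := fun a b => Subtype.ext (hR.2 _ a.2 _ b.2) }
  haveI : NoZeroDivisors R := ⟨fun {a b} h =>
    (D.inS_mul_eq_zero hR a.2 (congrArg Subtype.val h)).imp Subtype.ext Subtype.ext⟩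
  haveI : IsDomain R := NoZeroDivisors.to_isDomain R
  letI : Fintype R := Fintype.ofFinite R
  letI : Field R := Fintype.fieldOfDomain R
  -- the slope of a direction, as a field element
  let σ : c.Dirs → R := fun C => ⟨m C, hall _ ⟨C, rfl⟩⟩
  have hσ : Function.Bijective σ := by
    refine ⟨fun C C' h => c.slope_inj (AddMonoidHom.ext fun x => ?_), fun r => ?_⟩
    · have := DFunLike.congr_fun (congrArg Subtype.val h) x
      exact e.symm.injective this
    · obtain ⟨C, hC⟩ := hR.1 r.2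
      exact ⟨C, Subtype.ext hC⟩
  have hKcard : Nat.card R = order P L := by
    rw [← Nat.card_eq_of_bijective σ hσ, c.dirs_card]
  obtain ⟨x₀, hx₀⟩ := exists_ne (0 : X)
  let ev : R →+ X :=
    AddMonoidHom.mk' (fun r => (r : AddMonoid.End X) x₀) (fun _ _ => rfl)
  have hev : Function.Injective ev := by
    refine (injective_iff_map_eq_zero _).2 fun r hr => ?_
    by_contra h
    obtain ⟨u, hu⟩ := D.isUnit _ (hR.1 r.2) (fun h' => h (Subtype.ext h'))
    have hr' : (r : AddMonoid.End X) x₀ = 0 := hr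
    have := DFunLike.congr_fun u.inv_mul x₀
    rw [hu] at this
    change ((u⁻¹ : (AddMonoid.End X)ˣ) : AddMonoid.End X) ((r : AddMonoid.End X) x₀) = x₀ at this
    rw [hr', map_zero] at this
    exact hx₀ this.symm
  have hcardRX : Nat.card R = Nat.card X := hKcard.trans c.x0_card.symm
  let ψ : X ≃+ R := (AddEquiv.ofBijective ev
    ((Nat.bijective_iff_injective_and_card _).2 ⟨hev, hcardRX⟩)).symm
  have hψ : ∀ x, (ψ x : AddMonoid.End X) x₀ = x := fun x =>
    (AddEquiv.ofBijective ev ((Nat.bijective_iff_injective_and_card _).2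
      ⟨hev, hcardRX⟩)).apply_symm_apply x
  have hslope : ∀ (C : c.Dirs) (x : X), ψ (e.symm (c.slope C x)) = σ C * ψ x := by
    intro C x
    refine hev ?_
    show (ψ (e.symm (c.slope C x)) : AddMonoid.End X) x₀
      = m C ((ψ x : AddMonoid.End X) x₀)
    rw [hψ, hψ, hm]
  -- affine points
  let f : Elat G P c.linf → {Q : P // Q ∉ c.linf} := fun τ => ⟨(τ : G) • c.O, fun h =>
    c.hO ((smul_mem_iff (τ : G) c.O c.linf).1 (by rw [axial_line τ.2.1]; exact h))⟩
  have hf : Function.Bijective f := by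
    refine (Nat.bijective_iff_injective_and_card f).2 ⟨fun a b h => ?_, by rw [hTcard, card_off]⟩
    have h' : (a : G) • c.O = (b : G) • c.O := congrArg Subtype.val h
    exact Subtype.ext (inv_mul_eq_one.1 (elat_free (mul_mem (inv_mem a.2) b.2) c.hO
      (by rw [mul_smul, ← h', inv_smul_smul])))
  have hsplit : ∀ Q : {Q : P // Q ∉ c.linf}, ∃ (a : X) (b : Y),
      ((a.toMul : G) * (b.toMul : G)) • c.O = Q.1 := by
    intro Q
    obtain ⟨τ, hτ⟩ := hf.2 Q
    obtain ⟨x, hx, y, hy, hxy⟩ := c.decomp τ.2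
    exact ⟨Additive.ofMul ⟨x, hx⟩, Additive.ofMul ⟨y, hy⟩,
      by rw [← hτ]; exact congrArg (· • c.O) hxy.symm⟩
  choose pa pb hpab using hsplit
  -- incidence of affine points
  have hinc : ∀ (k : L) (D : P), D ∈ k → D ∈ c.linf → k ≠ c.linf →
      ∀ (τ τ₀ : G), τ ∈ Elat G P c.linf → τ₀ ∈ Elat G P c.linf → τ₀ • c.O ∈ k →
      (τ • c.O ∈ k ↔ τ * τ₀⁻¹ ∈ TDir G c.linf D) := by
    intro k D hDk hD hk τ τ₀ hτ hτ₀ hQ
    have hd := mul_mem hτ (inv_mem hτ₀)
    have hmove : (τ * τ₀⁻¹) • (τ₀ • c.O) = τ • c.O := by rw [← mul_smul, inv_mul_cancel_right]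
    refine ⟨fun h => ?_, fun h => ?_⟩
    · obtain ⟨ha, E, hE, hdE⟩ := hd
      by_cases h1 : τ * τ₀⁻¹ = 1
      · rw [h1]; exact one_mem _
      obtain ⟨l, hEl, hQl⟩ := exists_line_through (L := L) E (τ₀ • c.O)
      have h2 : τ • c.O ∈ l := hmove ▸ smul_mem_of_fixed (hdE l hEl) hQl
      have hne : τ₀ • c.O ≠ τ • c.O := fun e' => h1 (elat_free ⟨ha, E, hE, hdE⟩
        (fun hc => c.hO ((smul_mem_iff τ₀ c.O c.linf).1
          (by rw [axial_line hτ₀.1]; exact hc))) (hmove.trans e'.symm))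
      have hlk : l = k := line_unique hne hQl h2 hQ h
      exact ⟨ha, point_unique hk (hlk ▸ hEl) hE hDk hD ▸ hdE⟩
    · rw [← hmove]
      exact smul_mem_of_fixed (h.2 k hDk) hQ
  -- coordinates
  let crd : P → Fin 3 → R := fun Q =>
    if hQ : Q ∈ c.linf then
      if hC : Q = c.Cinf then ![0, 0, 1] else ![0, 1, σ ⟨Q, hQ, hC⟩]
    else ![1, ψ (pa ⟨Q, hQ⟩), ψ (e.symm (pb ⟨Q, hQ⟩))]
  have hcrdI : crd c.Cinf = ![0, 0, 1] := by simp only [crd, dif_pos c.hCinf, dif_pos]
  have hcrdD : ∀ C : c.Dirs, crd C.1 = ![0, 1, σ C] := fun C => by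
    simp only [crd, dif_pos C.2.1, dif_neg C.2.2]
  have hcrdA : ∀ Q : {Q : P // Q ∉ c.linf},
      crd Q.1 = ![1, ψ (pa Q), ψ (e.symm (pb Q))] := fun Q => by
    simp only [crd, dif_neg Q.2]
  refine ⟨R, inferInstance, inferInstance, crd, hKcard, ?_, ?_, ?_⟩
  · intro Q h
    by_cases hQ : Q ∈ c.linf
    · by_cases hC : Q = c.Cinf
      · rw [hC, hcrdI] at h
        exact one_ne_zero (congrFun h 2)
      · rw [hcrdD ⟨Q, hQ, hC⟩] at h
        exact one_ne_zero (congrFun h 1)
    · rw [hcrdA ⟨Q, hQ⟩] at h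
      exact one_ne_zero (congrFun h 0)
  · intro Q Q' t h
    have h0 : t * crd Q' 0 = crd Q 0 := congrFun h 0
    have h1 : t * crd Q' 1 = crd Q 1 := congrFun h 1
    have h2 : t * crd Q' 2 = crd Q 2 := congrFun h 2
    by_cases hQ : Q ∈ c.linf <;> by_cases hQ' : Q' ∈ c.linf
    · by_cases hC : Q = c.Cinf <;> by_cases hC' : Q' = c.Cinf
      · rw [hC, hC']
      · exfalso
        rw [hC, hcrdI, hcrdD ⟨Q', hQ', hC'⟩] at h1 h2
        simp only [Matrix.cons_val_one, Matrix.cons_val_zero, mul_one] at h1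
        rw [h1, zero_mul] at h2
        exact zero_ne_one h2
      · exfalso
        rw [hC', hcrdI, hcrdD ⟨Q, hQ, hC⟩] at h1
        simp at h1
      · rw [hcrdD ⟨Q, hQ, hC⟩, hcrdD ⟨Q', hQ', hC'⟩] at h1 h2
        simp only [Matrix.cons_val_one, Matrix.cons_val_zero, mul_one] at h1
        rw [h1, one_mul] at h2
        exact (congrArg Subtype.val (hσ.1 h2)).symm
    · exfalso
      by_cases hC : Q = c.Cinf
      · rw [hC, hcrdI, hcrdA ⟨Q', hQ'⟩] at h0 h2
        simp only [Matrix.cons_val_zero, mul_one] at h0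
        rw [h0, zero_mul] at h2
        exact zero_ne_one h2
      · rw [hcrdD ⟨Q, hQ, hC⟩, hcrdA ⟨Q', hQ'⟩] at h0 h1
        simp only [Matrix.cons_val_zero, mul_one] at h0
        rw [h0, zero_mul] at h1
        exact zero_ne_one h1
    · exfalso
      by_cases hC : Q' = c.Cinf
      · rw [hC, hcrdI, hcrdA ⟨Q, hQ⟩] at h0
        simp at h0
      · rw [hcrdD ⟨Q', hQ', hC⟩, hcrdA ⟨Q, hQ⟩] at h0
        simp at h0
    · rw [hcrdA ⟨Q, hQ⟩, hcrdA ⟨Q', hQ'⟩] at h0 h1 h2
      simp only [Matrix.cons_val_zero, mul_one] at h0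
      rw [h0, one_mul] at h1 h2
      have ea : pa ⟨Q', hQ'⟩ = pa ⟨Q, hQ⟩ := ψ.injective h1
      have eb : pb ⟨Q', hQ'⟩ = pb ⟨Q, hQ⟩ := e.symm.injective (ψ.injective h2)
      rw [← show _ = Q from hpab ⟨Q, hQ⟩, ← show _ = Q' from hpab ⟨Q', hQ'⟩, ea, eb]
  · intro k
    by_cases hk : k = c.linf
    · refine ⟨![1, 0, 0], fun h => one_ne_zero (congrFun h 0), fun Q => ?_⟩
      subst hk
      by_cases hQ : Q ∈ c.linf
      · refine iff_of_true hQ ?_
        by_cases hC : Q = c.Cinf
        · rw [hC, hcrdI]; simp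
        · rw [hcrdD ⟨Q, hQ, hC⟩]; simp
      · refine iff_of_false hQ ?_
        rw [hcrdA ⟨Q, hQ⟩]
        simp
    obtain ⟨D₀, hD₀k, hD₀⟩ := exists_meet (P := P) k c.linf
    obtain ⟨Q₀, hQ₀k, hQ₀D⟩ := exists_ne_on D₀ k
    have hQ₀ : Q₀ ∉ c.linf := fun h => hQ₀D (point_unique hk hQ₀k h hD₀k hD₀)
    set a₀ := pa ⟨Q₀, hQ₀⟩ with ha₀
    set b₀ := pb ⟨Q₀, hQ₀⟩ with hb₀
    have hτ₀ : ((a₀.toMul : G) * (b₀.toMul : G)) ∈ Elat G P c.linf :=
      mul_mem (c.x0_mem a₀.toMul.2) (c.swap.x0_mem b₀.toMul.2)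
    have hdiff : ∀ (a : X) (b : Y), ((a.toMul : G) * (b.toMul : G)) *
        ((a₀.toMul : G) * (b₀.toMul : G))⁻¹ = ((a - a₀).toMul : G) * ((b - b₀).toMul : G) := by
      intro a b
      rw [toMul_sub, toMul_sub, Subgroup.coe_div, Subgroup.coe_div, div_eq_mul_inv, div_eq_mul_inv,
        mul_inv_rev, ← mul_assoc, mul_assoc (a.toMul : G),
        c.comm (mul_mem (c.x0_mem a₀.toMul.2) (one_mem _) |> fun _ =>
          mul_mem (c.swap.x0_mem b.toMul.2) (inv_mem (c.swap.x0_mem b₀.toMul.2)))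
          (inv_mem (c.x0_mem a₀.toMul.2)) |> fun h => (mul_assoc _ _ _).trans
            (congrArg ((a.toMul : G) * ·) h)]
      rw [mul_assoc]
    by_cases hDI : D₀ = c.Cinf
    · refine ⟨![-ψ a₀, 1, 0], fun h => one_ne_zero (congrFun h 1), fun Q => ?_⟩
      by_cases hQ : Q ∈ c.linf
      · by_cases hC : Q = c.Cinf
        · refine iff_of_true (hC ▸ hDI ▸ hD₀k) ?_
          rw [hC, hcrdI]; simp
        · refine iff_of_false (fun h => hC ((point_unique hk h hQ hD₀k hD₀).trans hDI)) ?_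
          rw [hcrdD ⟨Q, hQ, hC⟩]; simp
      · set a := pa ⟨Q, hQ⟩
        set b := pb ⟨Q, hQ⟩
        have hτ : ((a.toMul : G) * (b.toMul : G)) ∈ Elat G P c.linf :=
          mul_mem (c.x0_mem a.toMul.2) (c.swap.x0_mem b.toMul.2)
        have key := hinc k D₀ hD₀k hD₀ hk _ _ hτ hτ₀ (by rw [hpab]; exact hQ₀k)
        rw [hpab, hdiff] at key
        rw [key, hcrdA ⟨Q, hQ⟩, hDI]
        simp only [Matrix.cons_val_zero, Matrix.cons_val_one, Matrix.cons_val_two,
          Matrix.tail_cons, Matrix.head_cons, mul_one, one_mul, zero_mul, add_zero]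
        constructor
        · intro h
          have := (c.decomp_unique (a - a₀).toMul.2 (one_mem _) (b - b₀).toMul.2 (x' := 1) h
            (one_mul _).symm).1
          have ha : a = a₀ := sub_eq_zero.1 (Additive.toMul.injective (Subtype.ext this))
          rw [show pa ⟨Q, hQ⟩ = a₀ from ha, neg_add_cancel]
        · intro h
          have ha : a = a₀ := ψ.injective (sub_eq_zero.1 (by rw [sub_eq_add_neg, add_comm]; exact h))
          rw [ha, sub_self, toMul_zero, OneMemClass.coe_one, one_mul]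
          exact (b - b₀).toMul.2
    · set C : c.Dirs := ⟨D₀, hD₀, hDI⟩ with hC0
      refine ⟨![ψ (e.symm b₀) - σ C * ψ a₀, σ C, -1],
        fun h => neg_ne_zero.2 one_ne_zero (congrFun h 2), fun Q => ?_⟩
      by_cases hQ : Q ∈ c.linf
      · by_cases hC : Q = c.Cinf
        · refine iff_of_false (fun h => hDI ((point_unique hk hD₀k hD₀ h hQ).trans hC)) ?_
          rw [hC, hcrdI]; simp
        · rw [hcrdD ⟨Q, hQ, hC⟩]
          simp only [Matrix.cons_val_zero, Matrix.cons_val_one, Matrix.cons_val_two,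
            Matrix.tail_cons, Matrix.head_cons, mul_zero, zero_add, mul_one, neg_mul, one_mul,
            ← sub_eq_add_neg, sub_eq_zero]
          constructor
          · intro h
            exact congrArg σ (Subtype.ext (point_unique hk hD₀k hD₀ h hQ))
          · intro h
            have e' : D₀ = Q := congrArg Subtype.val (hσ.1 h)
            exact e' ▸ hD₀k
      · set a := pa ⟨Q, hQ⟩
        set b := pb ⟨Q, hQ⟩
        have hτ : ((a.toMul : G) * (b.toMul : G)) ∈ Elat G P c.linf :=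
          mul_mem (c.x0_mem a.toMul.2) (c.swap.x0_mem b.toMul.2)
        have key := hinc k D₀ hD₀k hD₀ hk _ _ hτ hτ₀ (by rw [hpab]; exact hQ₀k)
        rw [hpab, hdiff] at key
        rw [key, hcrdA ⟨Q, hQ⟩]
        simp only [Matrix.cons_val_zero, Matrix.cons_val_one, Matrix.cons_val_two,
          Matrix.tail_cons, Matrix.head_cons, mul_one, neg_mul, one_mul]
        constructor
        · intro h
          have h1 : c.slope C (a - a₀) = b - b₀ := c.slope_eq C h
          have h2 := hslope C (a - a₀)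
          rw [h1, map_sub, map_sub, map_sub] at h2
          linear_combination -h2
        · intro h
          have h1 : c.slope C (a - a₀) = b - b₀ := by
            refine e.symm.injective (ψ.injective ?_)
            rw [hslope, map_sub, map_sub, map_sub]
            linear_combination h
          exact h1 ▸ c.slope_spec C (a - a₀)

end Frame

/-- Finite two-transitive planes are Desarguesian. -/
theorem desarguesian (h2 : TwoTrans G P) :
    ∃ (F : Type) (_ : Field F) (_ : Fintype F) (φ : P ≃ Projectivization F (Fin 3 → F)),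
      (∀ l : L, ∃ W : Submodule F (Fin 3 → F), Module.finrank F W = 2 ∧
          ∀ p : P, p ∈ l ↔ (φ p).submodule ≤ W) ∧
      (∀ W : Submodule F (Fin 3 → F), Module.finrank F W = 2 →
          ∃ l : L, ∀ p : P, p ∈ l ↔ (φ p).submodule ≤ W) := by
  classical
  obtain ⟨p₀, -⟩ := @ProjectivePlane.exists_config P L _ _
  obtain ⟨linf, hlinf⟩ := Nondegenerate.exists_line (L := L) p₀
  obtain ⟨C0, hC0, -⟩ := exists_ne_on p₀ linf
  obtain ⟨Cinf, hCinf, hne⟩ := exists_ne_on C0 linf
  obtain ⟨K, _, _, crd, hK, hcrd0, hcrdinj, hlines⟩ :=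
    (⟨h2, linf, C0, Cinf, p₀, hC0, hCinf, hne.symm, hlinf⟩ : Frame G P L).exists_coordinates
  cases nonempty_fintype K
  obtain ⟨q, hqK⟩ := CharP.exists K
  obtain ⟨s, hq, hs⟩ := FiniteField.card K q
  haveI : Fact q.Prime := ⟨hq⟩
  let F := GaloisField q s
  letI : Fintype F := Fintype.ofFinite F
  have hFK : Fintype.card K = Fintype.card F := by
    rw [hs, ← Nat.card_eq_fintype_card, GaloisField.card q s s.ne_zero]
  let ρ : K ≃+* F := FiniteField.ringEquivOfCardEq hFK
  let v : P → Fin 3 → F := fun Q i => ρ (crd Q i)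
  have hv : ∀ Q, v Q ≠ 0 := fun Q h => hcrd0 Q (funext fun i =>
    ρ.injective ((congrFun h i).trans (map_zero ρ).symm))
  let φ₀ : P → Projectivization F (Fin 3 → F) := fun Q => Projectivization.mk F (v Q) (hv Q)
  have hφinj : Function.Injective φ₀ := by
    intro Q Q' h
    obtain ⟨t, ht⟩ := (Projectivization.mk_eq_mk_iff' F _ _ (hv Q) (hv Q')).1 h
    refine hcrdinj Q Q' (ρ.symm t) (funext fun i => ρ.injective ?_)
    show ρ (ρ.symm t * crd Q' i) = ρ (crd Q i)
    rw [map_mul, ρ.apply_symm_apply]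
    exact congrFun ht i
  have hcard : Nat.card P = Nat.card (Projectivization F (Fin 3 → F)) := by
    rw [Projectivization.card_of_finrank F _ (Module.finrank_fin_fun F), card_pts (L := L), ← hK,
      Nat.card_eq_fintype_card (α := K), hFK, Nat.card_eq_fintype_card (α := F)]
    simp [Finset.sum_range_succ]
    ring
  let φ : P ≃ Projectivization F (Fin 3 → F) :=
    Equiv.ofBijective φ₀ ((Nat.bijective_iff_injective_and_card φ₀).2 ⟨hφinj, hcard⟩)
  have hsub : ∀ Q, (φ Q).submodule = F ∙ v Q := fun Q => Projectivization.submodule_mk _ (hv Q)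
  have hline : ∀ l : L, ∃ W : Submodule F (Fin 3 → F), Module.finrank F W = 2 ∧
      ∀ p : P, p ∈ l ↔ (φ p).submodule ≤ W := by
    intro l
    obtain ⟨w, hw, hwl⟩ := hlines l
    let Λ : (Fin 3 → F) →ₗ[F] F := ρ (w 0) • LinearMap.proj 0 + ρ (w 1) • LinearMap.proj 1
      + ρ (w 2) • LinearMap.proj 2
    have hΛ : ∀ x, Λ x = ρ (w 0) * x 0 + ρ (w 1) * x 1 + ρ (w 2) * x 2 := fun x => by simp [Λ]
    refine ⟨LinearMap.ker Λ, ?_, fun p => ?_⟩
    · have hrange : LinearMap.range Λ = ⊤ := by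
        have hne : Λ ≠ 0 := by
          intro h
          refine hw (funext fun i => ρ.injective ?_)
          have h1 := LinearMap.congr_fun h (Pi.single i 1)
          rw [hΛ, LinearMap.zero_apply] at h1
          rw [Pi.zero_apply, map_zero]
          fin_cases i <;> simpa using h1
        obtain ⟨x, hx⟩ : ∃ x, Λ x ≠ 0 := by
          by_contra hc
          push Not at hc
          exact hne (LinearMap.ext hc)
        refine LinearMap.range_eq_top.2 fun y => ⟨(y / Λ x) • x, ?_⟩
        rw [map_smul, smul_eq_mul, div_mul_cancel₀ _ hx]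
      have h1 := LinearMap.finrank_range_add_finrank_ker Λ
      rw [hrange, finrank_top, Module.finrank_self, Module.finrank_fin_fun] at h1
      omega
    · rw [hsub, Submodule.span_singleton_le_iff_mem, LinearMap.mem_ker, hΛ, hwl]
      show _ ↔ ρ (w 0) * ρ (crd p 0) + ρ (w 1) * ρ (crd p 1) + ρ (w 2) * ρ (crd p 2) = 0
      rw [← map_mul, ← map_mul, ← map_mul, ← map_add, ← map_add, map_eq_zero_iff ρ ρ.injective]
  refine ⟨F, inferInstance, inferInstance, φ, hline, fun W hW => ?_⟩
  let B := Module.finBasisOfFinrankEq F W hW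
  have hB : ∀ i, ((B i : W) : Fin 3 → F) ≠ 0 := fun i h =>
    B.ne_zero i (Subtype.ext h)
  let Q : Fin 2 → P := fun i => φ.symm (Projectivization.mk F _ (hB i))
  have hQ : ∀ i, (φ (Q i)).submodule = F ∙ ((B i : W) : Fin 3 → F) := fun i => by
    rw [show φ (Q i) = Projectivization.mk F _ (hB i) from φ.apply_symm_apply _,
      Projectivization.submodule_mk]
  obtain ⟨l, h0, h1⟩ := exists_line_through (L := L) (Q 0) (Q 1)
  obtain ⟨W', hW', hl⟩ := hline l
  have hle : W ≤ W' := by
    intro x hx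
    have hmem : ∀ i, ((B i : W) : Fin 3 → F) ∈ W' := by
      intro i
      have : Q i ∈ l := by fin_cases i <;> assumption
      have h2 := (hl _).1 this
      rwa [hQ, Submodule.span_singleton_le_iff_mem] at h2
    have h3 := congrArg Subtype.val (B.sum_repr ⟨x, hx⟩)
    simp only [AddSubmonoidClass.coe_finsetSum, SetLike.val_smul] at h3
    rw [← h3]
    exact Submodule.sum_mem _ fun i _ => Submodule.smul_mem _ _ (hmem i)
  have heq : W = W' := Submodule.eq_of_le_of_finrank_eq hle (hW.trans hW'.symm)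
  exact ⟨l, fun p => heq ▸ hl p⟩

end CfsgLib.OstromWagner
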