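import Mathlib

/-!
# Orbit counting for subgroups
-/

namespace CfsgLib.OstromWagner

open MulAction

variable {G X : Type*} [Group G] [MulAction G X]

/-- Burnside, with `Nat.card`. -/
lemma sum_fixed_eq [Fintype G] [Finite X] :
    ∑ g : G, Nat.card {x : X // g • x = x} = Nat.card (orbitRel.Quotient G X) * Nat.card G := by
  classical
  cases nonempty_fintype X
  have : Fintype (Quotient (orbitRel G X)) := Fintype.ofFinite _
  rw [Nat.card_eq_fintype_card, Nat.card_eq_fintype_card,
    ← sum_card_fixedBy_eq_card_orbits_mul_card_group G X]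
  exact Finset.sum_congr rfl fun g _ => Nat.card_eq_fintype_card

/-- Burnside on one orbit. -/
lemma sum_fixed_orbit [Finite X] (S : Subgroup G) [Fintype S] (x : X) :
    ∑ g : S, {y : X | y ∈ orbit S x ∧ g • y = y}.ncard = Nat.card S := by
  have h := sum_fixed_eq (G := S) (X := orbit S x)
  have : Unique (orbitRel.Quotient S (orbit S x)) :=
    { default := Quotient.mk'' ⟨x, mem_orbit_self x⟩
      uniq := fun a => Quotient.inductionOn' a fun y => Quotient.sound' (by
        obtain ⟨g, hg⟩ := y.2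
        exact ⟨g, Subtype.ext hg⟩) }
  rw [Nat.card_unique, one_mul] at h
  rw [← h]
  refine Finset.sum_congr rfl fun g _ => ?_
  rw [← Nat.card_coe_set_eq]
  exact Nat.card_congr
    { toFun := fun y => ⟨⟨y.1, y.2.1⟩, Subtype.ext y.2.2⟩
      invFun := fun y => ⟨y.1.1, y.1.2, congrArg Subtype.val y.2⟩
      left_inv := fun _ => rfl
      right_inv := fun _ => rfl }

/-- If there are at most two orbits, an invariant proper nonempty set is one orbit. -/
lemma exists_smul_of_two_orbits [Finite X] (h : Nat.card (orbitRel.Quotient G X) ≤ 2)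
    {Q : X → Prop} (hinv : ∀ (g : G) x, Q x → Q (g • x)) {y : X} (hy : ¬ Q y) {a b : X}
    (ha : Q a) (hb : Q b) : ∃ g : G, g • a = b := by
  classical
  by_contra hc
  push Not at hc
  cases nonempty_fintype (orbitRel.Quotient G X)
  let q : X → orbitRel.Quotient G X := fun x => Quotient.mk'' x
  have hq : ∀ u v : X, q u = q v → ∃ g : G, g • v = u := fun u v e =>
    orbitRel_apply.1 (Quotient.exact' e)
  have h1 : q a ≠ q b := fun e => by
    obtain ⟨g, hg⟩ := hq _ _ e
    exact hc g⁻¹ (by rw [inv_smul_eq_iff, hg])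
  have h2 : ∀ u, Q u → q y ≠ q u := fun u hu e => by
    obtain ⟨g, hg⟩ := hq _ _ e
    exact hy (hg ▸ hinv g u hu)
  have h3 := Finset.card_le_univ ({q a, q b, q y} : Finset (orbitRel.Quotient G X))
  rw [Finset.card_insert_of_notMem (by simp [h1, (h2 a ha).symm]),
    Finset.card_pair (h2 b hb).symm, ← Nat.card_eq_fintype_card] at h3
  omega

/-- Orbit-stabiliser for a subgroup. -/
lemma ncard_orbit_mul [Finite G] (K : Subgroup G) (x : X) :
    (orbit K x).ncard * Nat.card (K ⊓ stabilizer G x : Subgroup G) = Nat.card K := by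
  have h1 : stabilizer K x = ((K ⊓ stabilizer G x : Subgroup G)).subgroupOf K := by
    ext g
    simp [Subgroup.mem_subgroupOf, Subgroup.smul_def]
  have h2 := (stabilizer K x).card_mul_index
  rw [index_stabilizer, h1,
    Nat.card_congr (Subgroup.subgroupOfEquivOfLe (inf_le_left : K ⊓ stabilizer G x ≤ K)).toEquiv]
    at h2
  rw [mul_comm]
  exact h2

/-- Orbits of a Sylow subgroup of `K` are divisible by the `p`-part of the `K`-orbit. -/
lemma sylow_orbit_dvd [Finite G] {p : ℕ} [hp : Fact p.Prime] {S K : Subgroup G} (hSK : S ≤ K)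
    (hS : IsPGroup p S) (hmax : ¬ p ∣ S.relIndex K) (x : X) {a : ℕ}
    (ha : p ^ a ∣ (orbit K x).ncard) : p ^ a ∣ (orbit S x).ncard := by
  have hK := ncard_orbit_mul K x
  have hSx := ncard_orbit_mul S x
  have hd : Nat.card (S ⊓ stabilizer G x : Subgroup G) ∣
      Nat.card (K ⊓ stabilizer G x : Subgroup G) :=
    Subgroup.card_dvd_of_le (inf_le_inf_right _ hSK)
  obtain ⟨b, hb⟩ := IsPGroup.iff_card.1 (hS.to_le (inf_le_left : S ⊓ stabilizer G x ≤ S))
  have hr : Nat.card S * S.relIndex K = Nat.card K := by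
    rw [Subgroup.relIndex, ← Nat.card_congr (Subgroup.subgroupOfEquivOfLe hSK).toEquiv,
      Subgroup.card_mul_index]
  have h1 : p ^ (a + b) ∣ Nat.card S * S.relIndex K := by
    rw [hr, ← hK, pow_add, ← hb]
    exact mul_dvd_mul ha hd
  have h2 : p ^ (a + b) ∣ Nat.card S :=
    (Nat.Coprime.pow_left _ (hp.out.coprime_iff_not_dvd.2 hmax)).dvd_of_dvd_mul_right h1
  rw [← hSx, hb, pow_add] at h2
  exact Nat.dvd_of_mul_dvd_mul_right (pow_pos hp.out.pos b) h2

/-- A Sylow subgroup of `K`, as a subgroup of `G`. -/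
lemma exists_sylow_in [Finite G] (p : ℕ) [Fact p.Prime] {Q K : Subgroup G} (hQ : IsPGroup p Q)
    (hQK : Q ≤ K) : ∃ S : Subgroup G, Q ≤ S ∧ S ≤ K ∧ IsPGroup p S ∧ ¬ p ∣ S.relIndex K := by
  have hQ' : IsPGroup p (Q.subgroupOf K) := hQ.comap_subtype (K := K)
  obtain ⟨S, hS⟩ := hQ'.exists_le_sylow
  refine ⟨(S : Subgroup K).map K.subtype, fun q hq => ⟨⟨q, hQK hq⟩, hS hq, rfl⟩, ?_, ?_, ?_⟩
  · rintro x ⟨y, -, rfl⟩
    exact y.2
  · exact S.2.map _
  · have : ((S : Subgroup K).map K.subtype).relIndex K = (S : Subgroup K).index := by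
      rw [Subgroup.relIndex, Subgroup.subgroupOf, Subgroup.comap_map_eq_self_of_injective (Subgroup.subtype_injective K)]
    rw [this]
    exact S.not_dvd_index

end CfsgLib.OstromWagner

namespace CfsgLib.OstromWagner

open MulAction

/-- A subgroup acting freely on an invariant set has order dividing its size. -/
lemma free_card_dvd {G X : Type*} [Group G] [MulAction G X] [Finite G] [Finite X]
    (H : Subgroup G) (s : Set X) (hinv : ∀ g ∈ H, ∀ x ∈ s, g • x ∈ s)
    (hfree : ∀ g ∈ H, ∀ x ∈ s, g • x = x → g = 1) : Nat.card H ∣ s.ncard := by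
  classical
  cases nonempty_fintype H
  let A : MulAction H s :=
    { smul := fun g x => ⟨(g : G) • (x : X), hinv g g.2 x x.2⟩
      one_smul := fun x => Subtype.ext (one_smul G (x : X))
      mul_smul := fun a b x => Subtype.ext (mul_smul (a : G) (b : G) (x : X)) }
  have h := sum_fixed_eq (G := H) (X := s)
  rw [Finset.sum_eq_single (1 : H) (fun g _ hg => ?_) (by simp)] at h
  · simp only [one_smul, Nat.card_congr (Equiv.subtypeUnivEquiv fun x : s => trivial)] at h
    exact ⟨_, by rw [← Nat.card_coe_set_eq, h, mul_comm]⟩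
  · have : IsEmpty {x : s // g • x = x} :=
      ⟨fun x => hg (Subtype.ext (hfree g g.2 _ x.1.2 (congrArg Subtype.val x.2)))⟩
    exact Nat.card_of_isEmpty

end CfsgLib.OstromWagner

namespace CfsgLib.OstromWagner

open MulAction

/-- With constant stabilisers on an invariant set all orbits have the same size, dividing its
size. -/
lemma orbit_dvd_of_const_stab {G X : Type*} [Group G] [MulAction G X] [Finite G] [Finite X]
    (H K : Subgroup G) (s : Set X) (hinv : ∀ g ∈ H, ∀ x ∈ s, g • x ∈ s)
    (hK : ∀ x ∈ s, H ⊓ stabilizer G x = K) {x : X} (hx : x ∈ s) :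
    (orbit H x).ncard ∣ s.ncard := by
  classical
  cases nonempty_fintype H
  cases nonempty_fintype X
  let A : MulAction H s :=
    { smul := fun g y => ⟨(g : G) • (y : X), hinv g g.2 y y.2⟩
      one_smul := fun y => Subtype.ext (one_smul G (y : X))
      mul_smul := fun a b y => Subtype.ext (mul_smul (a : G) (b : G) (y : X)) }
  have h := sum_fixed_eq (G := H) (X := s)
  have hKH : K ≤ H := hK x hx ▸ inf_le_left
  have hterm : ∀ g : H, Nat.card {y : s // g • y = y}
      = if (g : G) ∈ K then s.ncard else 0 := by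
    intro g
    split_ifs with hg
    · rw [Nat.card_congr (Equiv.subtypeUnivEquiv fun y : s => ?_), Nat.card_coe_set_eq]
      exact Subtype.ext ((hK y.1 y.2 ▸ hg : (g : G) ∈ H ⊓ stabilizer G (y : X)).2)
    · have : IsEmpty {y : s // g • y = y} :=
        ⟨fun y => hg (hK y.1.1 y.1.2 ▸ ⟨g.2, congrArg Subtype.val y.2⟩)⟩
      exact Nat.card_of_isEmpty
  rw [Finset.sum_congr rfl (fun g _ => hterm g), ← Finset.sum_filter, Finset.sum_const,
    smul_eq_mul] at h
  have hc : (Finset.univ.filter fun g : H => (g : G) ∈ K).card = Nat.card K := by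
    rw [← Fintype.card_subtype, ← Nat.card_eq_fintype_card]
    exact Nat.card_congr ⟨fun g => ⟨g.1.1, g.2⟩, fun g => ⟨⟨g.1, hKH g.2⟩, g.2⟩,
      fun _ => rfl, fun _ => rfl⟩
  have hO := ncard_orbit_mul H x
  rw [hK x hx] at hO
  rw [hc, ← hO, ← mul_assoc, mul_comm (Nat.card K)] at h
  exact ⟨_, (Nat.eq_of_mul_eq_mul_right Nat.card_pos h).trans (mul_comm _ _)⟩

/-- Two involutions are conjugate or have a further central involution in the group they
generate. -/
lemma involution_pair {G : Type*} [Group G] [Finite G] {a b : G} (ha : a * a = 1)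
    (hb : b * b = 1) (ha1 : a ≠ 1) (hb1 : b ≠ 1) (hab : a ≠ b) :
    (∃ x ∈ Subgroup.closure {a, b}, x * a * x⁻¹ = b) ∨
      ∃ w ∈ Subgroup.closure {a, b}, w * w = 1 ∧ w ≠ 1 ∧ w ≠ a ∧ w ≠ b ∧ Commute w a ∧
        Commute w b := by
  set u := a * b with hu
  have hmem : ∀ n : ℕ, u ^ n ∈ Subgroup.closure ({a, b} : Set G) := fun n =>
    pow_mem (mul_mem (Subgroup.subset_closure (by simp)) (Subgroup.subset_closure (by simp))) n
  have hai : a⁻¹ = a := inv_eq_of_mul_eq_one_right ha
  have hbi : b⁻¹ = b := inv_eq_of_mul_eq_one_right hb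
  have hconj : ∀ n : ℕ, a * u ^ n * a⁻¹ = (u ^ n)⁻¹ := fun n => by
    rw [← conj_pow, ← inv_pow]
    congr 1
    rw [hu, mul_inv_rev, hai, hbi, ← mul_assoc a a b, ha, one_mul]
  have hflip : ∀ n : ℕ, a * u ^ n = (u ^ n)⁻¹ * a := fun n => by
    rw [← hconj n, inv_mul_cancel_right]
  have hau : b = a * u := by rw [hu, ← mul_assoc, ha, one_mul]
  rcases Nat.even_or_odd (orderOf u) with ⟨m, hm⟩ | ⟨m, hm⟩
  · refine Or.inr ⟨u ^ m, hmem m, ?_, ?_, ?_, ?_, ?_, ?_⟩
    · rw [← pow_add, ← hm, pow_orderOf_eq_one]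
    · intro e
      have h1 := Nat.le_of_dvd ?_ (orderOf_dvd_of_pow_eq_one e)
      · have := orderOf_pos u
        omega
      · have := orderOf_pos u
        omega
    all_goals have hw : (u ^ m)⁻¹ = u ^ m :=
      inv_eq_of_mul_eq_one_right (by rw [← pow_add, ← hm, pow_orderOf_eq_one])
    · intro e
      have h1 : a * u = u⁻¹ * a := by simpa using hflip 1
      have h2 : a * u = u * a := by rw [← e]; exact (Commute.pow_self u m).eq
      have h3 : u * u = 1 := by
        rw [mul_eq_one_iff_eq_inv]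
        exact mul_right_cancel (h2.symm.trans h1)
      have h4 : orderOf u ∣ 2 := orderOf_dvd_of_pow_eq_one (by rw [pow_two, h3])
      have h5 := Nat.le_of_dvd two_pos h4
      have h6 : m = 1 := by have := orderOf_pos u; omega
      rw [h6, pow_one, hu, mul_eq_left] at e
      exact hb1 e
    · intro e
      have h1 : a * u = u⁻¹ * a := by simpa using hflip 1
      have hub : b * u = u⁻¹ * b := by
        rw [hu, mul_inv_rev, hai, hbi, mul_assoc b a b]
      have h2 : b * u = u * b := by rw [← e]; exact (Commute.pow_self u m).eq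
      have h3 : u * u = 1 := by
        rw [mul_eq_one_iff_eq_inv]
        exact mul_right_cancel (h2.symm.trans hub)
      have h4 : orderOf u ∣ 2 := orderOf_dvd_of_pow_eq_one (by rw [pow_two, h3])
      have h5 := Nat.le_of_dvd two_pos h4
      have h6 : m = 1 := by have := orderOf_pos u; omega
      rw [h6, pow_one, hu, mul_eq_right] at e
      exact ha1 e
    · exact ((hflip m).trans (by rw [hw])).symm
    · rw [hau]
      exact Commute.mul_right ((hflip m).trans (by rw [hw])).symm (Commute.pow_self u m)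
  · refine Or.inl ⟨u ^ m, hmem m, ?_⟩
    have h1 : (u ^ m)⁻¹ = u ^ (m + 1) := inv_eq_of_mul_eq_one_right (by
      rw [← pow_add, show m + (m + 1) = orderOf u by omega, pow_orderOf_eq_one])
    have h2 : a * u ^ (m + 1) = u ^ (m + 1) * a * u := by
      rw [pow_succ, ← mul_assoc, hflip m, h1, pow_succ]
    rw [h1]
    calc u ^ m * a * u ^ (m + 1) = u ^ m * (u ^ (m + 1) * a * u) := by
          rw [mul_assoc (u ^ m) a, h2]
      _ = u ^ m * u ^ (m + 1) * (a * u) := by
          generalize u ^ m = v
          generalize u ^ (m + 1) = w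
          generalize u = z
          simp only [mul_assoc]
      _ = b := by
          rw [← pow_add, show m + (m + 1) = orderOf u by omega, pow_orderOf_eq_one, one_mul, ← hau]

end CfsgLib.OstromWagner
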