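import Mathlib

/-!
# Collineation actions on finite projective planes
-/

namespace CfsgLib.OstromWagner

open Configuration Configuration.ProjectivePlane

/-- A faithful action of `G` on the plane `(P, L)` by collineations. -/
class IsColl (G P L : Type*) [Group G] [Membership P L] [MulAction G P] [MulAction G L] :
    Prop where
  mem_iff : ∀ (g : G) (p : P) (l : L), g • p ∈ g • l ↔ p ∈ l
  faithful : ∀ g : G, (∀ p : P, g • p = p) → g = 1

variable {G P L : Type*} [Group G] [Membership P L] [MulAction G P] [MulAction G L]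

instance isColl_subgroup [IsColl G P L] (H : Subgroup G) : IsColl H P L where
  mem_iff g p l := IsColl.mem_iff (g : G) p l
  faithful g hg := Subtype.ext (IsColl.faithful (L := L) (g : G) hg)

lemma smul_mem_iff [IsColl G P L] (g : G) (p : P) (l : L) : g • p ∈ g • l ↔ p ∈ l :=
  IsColl.mem_iff g p l

lemma smul_mem_of_fixed [IsColl G P L] {g : G} {p : P} {l : L} (hl : g • l = l) (hp : p ∈ l) :
    g • p ∈ l := hl ▸ (smul_mem_iff g p l).2 hp

lemma mem_smul_of_fixed [IsColl G P L] {g : G} {p : P} {l : L} (hp : g • p = p) (h : p ∈ l) :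
    p ∈ g • l := by
  have := (smul_mem_iff g p l).2 h
  rwa [hp] at this

variable [ProjectivePlane P L]

lemma line_unique {p q : P} {l m : L} (hpq : p ≠ q) (hpl : p ∈ l) (hql : q ∈ l)
    (hpm : p ∈ m) (hqm : q ∈ m) : l = m :=
  (Nondegenerate.eq_or_eq hpl hql hpm hqm).resolve_left hpq

lemma point_unique {p q : P} {l m : L} (hlm : l ≠ m) (hpl : p ∈ l) (hpm : p ∈ m)
    (hql : q ∈ l) (hqm : q ∈ m) : p = q :=
  (Nondegenerate.eq_or_eq hpl hql hpm hqm).resolve_right hlm

lemma exists_line_through (p q : P) : ∃ l : L, p ∈ l ∧ q ∈ l := by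
  by_cases h : p = q
  · subst h
    obtain ⟨p₁, p₂, p₃, l₁, l₂, l₃, h₁₂, h₁₃, h₂₁, h₂₂, h₂₃, h₃₁, h₃₂, h₃₃⟩ :=
      @ProjectivePlane.exists_config P L _ _
    by_cases hp : p = p₂
    · exact ⟨l₂, hp ▸ h₂₂, hp ▸ h₂₂⟩
    · exact ⟨HasLines.mkLine hp, (HasLines.mkLine_ax hp).1, (HasLines.mkLine_ax hp).1⟩
  · exact ⟨HasLines.mkLine h, HasLines.mkLine_ax h⟩

lemma exists_meet (l m : L) : ∃ p : P, p ∈ l ∧ p ∈ m :=
  exists_line_through (P := Dual L) (L := Dual P) l m

variable [Finite P] [Finite L]

lemma card_pts : Nat.card P = order P L ^ 2 + order P L + 1 := by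
  cases nonempty_fintype P
  rw [Nat.card_eq_fintype_card]
  exact card_points P L

lemma card_lns : Nat.card L = order P L ^ 2 + order P L + 1 := by
  cases nonempty_fintype L
  rw [Nat.card_eq_fintype_card]
  exact card_lines P L

lemma card_on (l : L) : Nat.card {p : P // p ∈ l} = order P L + 1 := pointCount_eq P l

lemma card_thru (p : P) : Nat.card {l : L // p ∈ l} = order P L + 1 := lineCount_eq L p

lemma card_off (l : L) : Nat.card {p : P // p ∉ l} = order P L ^ 2 := by
  classical
  cases nonempty_fintype P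
  have h1 := Fintype.card_subtype_compl (fun p : P => p ∈ l)
  have h2 := card_on (P := P) l
  have h3 := card_pts (P := P) (L := L)
  simp only [Nat.card_eq_fintype_card] at h2 h3 ⊢
  omega

lemma two_le_order : 2 ≤ order P L := one_lt_order P L

lemma exists_ne_on (p : P) (l : L) : ∃ q : P, q ∈ l ∧ q ≠ p := by
  by_contra h
  push Not at h
  have : Subsingleton {q : P // q ∈ l} := ⟨fun a b => Subtype.ext ((h _ a.2).trans (h _ b.2).symm)⟩
  have h1 := Finite.card_le_one_iff_subsingleton.2 this
  rw [card_on] at h1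
  have := two_le_order (P := P) (L := L)
  omega

lemma exists_ne_ne_on (p q : P) (l : L) : ∃ r : P, r ∈ l ∧ r ≠ p ∧ r ≠ q := by
  classical
  by_contra h
  push Not at h
  have hsub : {x : P | x ∈ l} ⊆ {p, q} := by
    intro x hx
    by_cases hxp : x = p
    · exact Or.inl hxp
    · exact Or.inr (h x hx hxp)
  have h1 := Set.ncard_le_ncard hsub (Set.toFinite _)
  have h2 : ({p, q} : Set P).ncard ≤ 2 :=
    (Set.ncard_insert_le _ _).trans (by rw [Set.ncard_singleton])
  have h3 : {x : P | x ∈ l}.ncard = order P L + 1 := by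
    rw [← Nat.card_coe_set_eq]
    exact card_on l
  have := two_le_order (P := P) (L := L)
  omega

lemma exists_off_two (l m : L) : ∃ p : P, p ∉ l ∧ p ∉ m := by
  by_contra h
  push Not at h
  have hsub : {x : P | x ∉ l} ⊆ {x : P | x ∈ m} := fun x hx => h x hx
  have h1 := Set.ncard_le_ncard hsub (Set.toFinite _)
  rw [← Nat.card_coe_set_eq, ← Nat.card_coe_set_eq] at h1
  have h2 : Nat.card {x : P // x ∉ l} ≤ Nat.card {x : P // x ∈ m} := h1
  rw [card_off, card_on] at h2
  have := two_le_order (P := P) (L := L)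
  nlinarith

lemma exists_ne_thru (l : L) (p : P) : ∃ m : L, p ∈ m ∧ m ≠ l := by
  obtain ⟨q, hq, -⟩ := exists_off_two (P := P) l l
  by_cases hpl : p ∈ l
  · obtain ⟨m, hpm, hqm⟩ := exists_line_through (L := L) p q
    exact ⟨m, hpm, fun h => hq (h ▸ hqm)⟩
  · obtain ⟨m, hpm, -⟩ := exists_line_through (L := L) p p
    exact ⟨m, hpm, fun h => hpl (h ▸ hpm)⟩

variable [IsColl G P L]

lemma line_fixed {g : G} {p q : P} {l : L} (hpq : p ≠ q) (hp : g • p = p) (hq : g • q = q)
    (hpl : p ∈ l) (hql : q ∈ l) : g • l = l :=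
  line_unique hpq (mem_smul_of_fixed hp hpl) (mem_smul_of_fixed hq hql) hpl hql

lemma point_fixed {g : G} {p : P} {l m : L} (hlm : l ≠ m) (hl : g • l = l) (hm : g • m = m)
    (hpl : p ∈ l) (hpm : p ∈ m) : g • p = p :=
  point_unique hlm (smul_mem_of_fixed hl hpl) (smul_mem_of_fixed hm hpm) hpl hpm

lemma eq_one_of_lines (P : Type*) [Membership P L] [MulAction G P] [ProjectivePlane P L]
    [Finite P] [Finite L] [IsColl G P L] {g : G} (h : ∀ l : L, g • l = l) : g = 1 := by
  refine IsColl.faithful (P := P) (L := L) g fun p => ?_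
  obtain ⟨l, hpl, -⟩ := exists_line_through (L := L) p p
  obtain ⟨m, hpm, hml⟩ := exists_ne_thru l p
  exact point_fixed hml.symm (h l) (h m) hpl hpm

/-- The action on the dual plane. -/
instance dualMulAction {α : Type*} [MulAction G α] : MulAction G (Dual α) :=
  ‹MulAction G α›

instance isColl_dual : IsColl G (Dual L) (Dual P) where
  mem_iff g l p := smul_mem_iff (P := P) (L := L) g p l
  faithful g hg := eq_one_of_lines (L := L) P hg

/-- A collineation fixing a line pointwise and two further points is trivial. -/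
lemma fixes_all_of_axis {g : G} {l : L} {X Y : P} (hl : ∀ p ∈ l, g • p = p) (hX : X ∉ l)
    (hY : Y ∉ l) (hXY : X ≠ Y) (hgX : g • X = X) (hgY : g • Y = Y) (m : L) (hXm : X ∈ m)
    (hYm : Y ∈ m) : ∀ Z : P, Z ∉ m → g • Z = Z := by
  intro Z hZ
  by_cases hZl : Z ∈ l
  · exact hl Z hZl
  have hZX : Z ≠ X := fun h => hZ (h ▸ hXm)
  have hZY : Z ≠ Y := fun h => hZ (h ▸ hYm)
  obtain ⟨a, hZa, hXa⟩ := exists_line_through (L := L) Z X
  obtain ⟨b, hZb, hYb⟩ := exists_line_through (L := L) Z Y
  have hab : a ≠ b := fun h => hZ (line_unique hXY hXa (h ▸ hYb) hXm hYm ▸ hZa)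
  obtain ⟨D, hDa, hDl⟩ := exists_meet (P := P) a l
  obtain ⟨E, hEb, hEl⟩ := exists_meet (P := P) b l
  have ha : g • a = a := line_fixed (fun h : D = X => hX (h ▸ hDl)) (hl D hDl) hgX hDa hXa
  have hb : g • b = b := line_fixed (fun h : E = Y => hY (h ▸ hEl)) (hl E hEl) hgY hEb hYb
  exact point_fixed hab ha hb hZa hZb

lemma eq_one_of_axis {g : G} {l : L} {X Y : P} (hl : ∀ p ∈ l, g • p = p) (hX : X ∉ l)
    (hY : Y ∉ l) (hXY : X ≠ Y) (hgX : g • X = X) (hgY : g • Y = Y) : g = 1 := by
  refine IsColl.faithful (P := P) (L := L) g fun Z => ?_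
  obtain ⟨m, hXm, hYm⟩ := exists_line_through (L := L) X Y
  have key := fixes_all_of_axis hl hX hY hXY hgX hgY m hXm hYm
  by_cases hZ : Z ∈ m
  · obtain ⟨W, hWl, hWm⟩ := exists_off_two (P := P) l m
    obtain ⟨m', hXm', hWm'⟩ := exists_line_through (L := L) X W
    have hXW : X ≠ W := fun h => hWm (h ▸ hXm)
    by_cases hZX : Z = X
    · rw [hZX]; exact hgX
    refine fixes_all_of_axis hl hX hWl hXW hgX (key W hWm) m' hXm' hWm' Z fun hZm' => hWm ?_
    rw [line_unique hZX hZ hXm hZm' hXm']
    exact hWm'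
  · exact key Z hZ

/-- A collineation fixes equally many points and lines. -/
lemma fix_card_eq (g : G) :
    Nat.card {p : P // g • p = p} = Nat.card {l : L // g • l = l} := by
  classical
  cases nonempty_fintype P
  cases nonempty_fintype L
  set n := order P L
  have hP : ∀ p : P, (Finset.univ.filter fun l : L => p ∈ l ∧ g • p ∈ l).card
      = if g • p = p then n + 1 else 1 := by
    intro p
    split_ifs with h
    · rw [h, ← card_thru (L := L) p, Nat.card_eq_fintype_card, Fintype.card_subtype]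
      exact congrArg _ (Finset.filter_congr fun l _ => and_self_iff)
    · rw [Finset.card_eq_one]
      obtain ⟨l, h1, h2⟩ := exists_line_through (L := L) p (g • p)
      refine ⟨l, Finset.ext fun m => ?_⟩
      simp only [Finset.mem_filter, Finset.mem_univ, true_and, Finset.mem_singleton]
      exact ⟨fun hm => line_unique (Ne.symm h) hm.1 hm.2 h1 h2, fun hm => hm ▸ ⟨h1, h2⟩⟩
  have hL : ∀ l : L, (Finset.univ.filter fun p : P => p ∈ l ∧ g • p ∈ l).card
      = if g • l = l then n + 1 else 1 := by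
    intro l
    have hiff : ∀ p : P, g • p ∈ l ↔ p ∈ g⁻¹ • l := fun p => by
      rw [← smul_mem_iff g p (g⁻¹ • l), smul_inv_smul]
    have hfix : g • l = l ↔ g⁻¹ • l = l := by
      constructor <;> intro h
      · exact inv_smul_eq_iff.2 h.symm
      · exact (inv_smul_eq_iff.1 h).symm
    split_ifs with h
    · rw [← card_on (P := P) l, Nat.card_eq_fintype_card, Fintype.card_subtype]
      refine congrArg _ (Finset.filter_congr fun p _ => ?_)
      rw [hiff, hfix.1 h, and_self_iff]
    · rw [Finset.card_eq_one]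
      have hne : l ≠ g⁻¹ • l := fun h' => h (hfix.2 h'.symm)
      obtain ⟨p, h1, h2⟩ := exists_meet (P := P) l (g⁻¹ • l)
      refine ⟨p, Finset.ext fun q => ?_⟩
      simp only [Finset.mem_filter, Finset.mem_univ, true_and, Finset.mem_singleton, hiff]
      exact ⟨fun hq => point_unique hne hq.1 hq.2 h1 h2, fun hq => hq ▸ ⟨h1, h2⟩⟩
  have hsum := Finset.sum_card_bipartiteAbove_eq_sum_card_bipartiteBelow
    (s := (Finset.univ : Finset P)) (t := (Finset.univ : Finset L))
    (fun p l => p ∈ l ∧ g • p ∈ l)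
  simp only [Finset.bipartiteAbove, Finset.bipartiteBelow] at hsum
  simp only [hP, hL, Finset.sum_ite, Finset.sum_const, smul_eq_mul] at hsum
  have e1 := Finset.card_filter_add_card_filter_not
    (s := (Finset.univ : Finset P)) (fun p => g • p = p)
  have e2 := Finset.card_filter_add_card_filter_not
    (s := (Finset.univ : Finset L)) (fun l => g • l = l)
  rw [Finset.card_univ] at e1 e2
  have e3 : Fintype.card P = Fintype.card L := card_points_eq_card_lines P L
  rw [Nat.card_eq_fintype_card, Nat.card_eq_fintype_card, Fintype.card_subtype,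
    Fintype.card_subtype]
  have hn := two_le_order (P := P) (L := L)
  nlinarith

end CfsgLib.OstromWagner
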