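import Cfsg.Agent.Lib.OstromWagner.Basic

/-!
# The collineation group, fixed structures of subgroups
-/

namespace CfsgLib.OstromWagner

open Configuration Configuration.ProjectivePlane

section coll

variable (P L : Type*) [Membership P L]

/-- The full collineation group. -/
def Coll : Subgroup (Equiv.Perm P × Equiv.Perm L) where
  carrier := {g | ∀ p l, g.1 p ∈ g.2 l ↔ p ∈ l}
  one_mem' := fun _ _ => Iff.rfl
  mul_mem' := fun {a b} ha hb p l => (ha _ _).trans (hb p l)
  inv_mem' := fun {a} ha p l => by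
    have := ha (a.1⁻¹ p) (a.2⁻¹ l)
    simpa using this.symm

instance collActP : MulAction (Coll P L) P where
  smul g p := g.1.1 p
  one_smul _ := rfl
  mul_smul _ _ _ := rfl

instance collActL : MulAction (Coll P L) L where
  smul g l := g.1.2 l
  one_smul _ := rfl
  mul_smul _ _ _ := rfl

variable {P L}

lemma coll_smul_P (g : Coll P L) (p : P) : g • p = g.1.1 p := rfl

lemma coll_smul_L (g : Coll P L) (l : L) : g • l = g.1.2 l := rfl

variable [ProjectivePlane P L] [Finite P] [Finite L]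

instance isColl_coll : IsColl (Coll P L) P L where
  mem_iff g p l := g.2 p l
  faithful g hg := by
    have hL : ∀ l : L, g • l = l := by
      intro l
      obtain ⟨p₀, -⟩ := @ProjectivePlane.exists_config P L _ _
      obtain ⟨x, hx, -⟩ := exists_ne_on p₀ l
      obtain ⟨y, hy, hyx⟩ := exists_ne_on x l
      have hxl : x ∈ g • l := by
        have := (g.2 x l).2 hx
        rwa [← coll_smul_P, hg x, ← coll_smul_L] at this
      have hyl : y ∈ g • l := by
        have := (g.2 y l).2 hy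
        rwa [← coll_smul_P, hg y, ← coll_smul_L] at this
      exact line_unique hyx hyl hxl hy hx
    apply Subtype.ext
    exact Prod.ext (Equiv.ext hg) (Equiv.ext hL)

omit [ProjectivePlane P L] [Finite P] [Finite L] in
/-- Any incidence preserving action maps to the collineation group. -/
def collHom (N : Type*) [Group N] [MulAction N P] [MulAction N L]
    (hm : ∀ (g : N) (p : P) (l : L), g • p ∈ g • l ↔ p ∈ l) : N →* Coll P L where
  toFun g := ⟨(MulAction.toPermHom N P g, MulAction.toPermHom N L g), hm g⟩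
  map_one' := Subtype.ext (Prod.ext (map_one _) (map_one _))
  map_mul' a b := Subtype.ext (Prod.ext (map_mul _ a b) (map_mul _ a b))

end coll

variable {G P L : Type*} [Group G] [Membership P L] [MulAction G P] [MulAction G L]

/-- `x` is fixed by every element of `U`. -/
def IsFix (U : Subgroup G) {α : Type*} [MulAction G α] (x : α) : Prop :=
  ∀ g ∈ U, g • x = x

section isfix

variable {α : Type*} [MulAction G α] {U V : Subgroup G} {x : α}

lemma IsFix.mono (h : IsFix V x) (hUV : U ≤ V) : IsFix U x := fun g hg => h g (hUV hg)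

lemma isFix_iff_le : IsFix U x ↔ U ≤ MulAction.stabilizer G x := Iff.rfl

lemma isFix_zpowers {t : G} : IsFix (Subgroup.zpowers t) x ↔ t • x = x := by
  rw [isFix_iff_le, Subgroup.zpowers_le, MulAction.mem_stabilizer_iff]

lemma isFix_bot : IsFix (⊥ : Subgroup G) x := fun g hg => by
  rw [Subgroup.mem_bot.1 hg, one_smul]

lemma isFix_sup : IsFix (U ⊔ V) x ↔ IsFix U x ∧ IsFix V x := by
  simp only [isFix_iff_le, sup_le_iff]

lemma isFix_smul_of_normalizer {g : G} (hg : g ∈ Subgroup.normalizer (U : Set G))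
    (hx : IsFix U x) : IsFix U (g • x) := by
  intro u hu
  have h1 : g⁻¹ * u * g ∈ U := by
    have := (Subgroup.mem_normalizer_iff'.1 hg (g⁻¹ * u)).2 (by simpa using hu)
    simpa using this
  have h2 := hx _ h1
  rw [mul_smul, mul_smul, inv_smul_eq_iff] at h2
  exact h2

end isfix

variable (P L) in
/-- The fixed elements of `U` contain a configuration generating a plane. -/
def HasConfig (U : Subgroup G) : Prop :=
  ∃ (p₁ p₂ p₃ : P) (l₁ l₂ l₃ : L), IsFix U p₁ ∧ IsFix U p₂ ∧ IsFix U p₃ ∧ IsFix U l₁ ∧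
    IsFix U l₂ ∧ IsFix U l₃ ∧
    p₁ ∉ l₂ ∧ p₁ ∉ l₃ ∧ p₂ ∉ l₁ ∧ p₂ ∈ l₂ ∧ p₂ ∈ l₃ ∧ p₃ ∉ l₁ ∧ p₃ ∈ l₂ ∧ p₃ ∉ l₃

lemma HasConfig.mono {U V : Subgroup G} (hUV : U ≤ V) (h : HasConfig P L V) :
    HasConfig P L U := by
  obtain ⟨p₁, p₂, p₃, l₁, l₂, l₃, a, b, c, d, e, f, h⟩ := h
  exact ⟨p₁, p₂, p₃, l₁, l₂, l₃, a.mono hUV, b.mono hUV, c.mono hUV, d.mono hUV, e.mono hUV,
    f.mono hUV, h⟩

/-- The elements fixed by `U`. -/
abbrev Fx (U : Subgroup G) (α : Type*) [MulAction G α] := {x : α // IsFix U x}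

instance fxMem (U : Subgroup G) : Membership (Fx U P) (Fx U L) :=
  ⟨fun l p => (p : P) ∈ (l : L)⟩

lemma fx_mem_iff {U : Subgroup G} (p : Fx U P) (l : Fx U L) : p ∈ l ↔ (p : P) ∈ (l : L) :=
  Iff.rfl

instance fxMulAction (U : Subgroup G) {α : Type*} [MulAction G α] :
    MulAction (Subgroup.normalizer (U : Set G)) (Fx U α) where
  smul g x := ⟨(g : G) • (x : α), isFix_smul_of_normalizer g.2 x.2⟩
  one_smul x := Subtype.ext (one_smul G (x : α))
  mul_smul a b x := Subtype.ext (mul_smul (a : G) (b : G) (x : α))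

lemma fx_smul_val (U : Subgroup G) {α : Type*} [MulAction G α]
    (g : Subgroup.normalizer (U : Set G)) (x : Fx U α) : ((g • x : Fx U α) : α) = (g : G) • x.1 :=
  rfl

variable [ProjectivePlane P L] [Finite P] [Finite L] [IsColl G P L]

lemma HasConfig.exists_off_line {U : Subgroup G} (h : HasConfig P L U) (l : L) :
    ∃ p : P, IsFix U p ∧ p ∉ l := by
  obtain ⟨p₁, p₂, p₃, l₁, l₂, l₃, a, b, c, -, -, -, h12, -, -, h22, h23, -, h32, h33⟩ := h
  by_contra hc
  push Not at hc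
  have hne : p₂ ≠ p₃ := fun e => h33 (e ▸ h23)
  exact h12 (line_unique hne (hc _ b) (hc _ c) h22 h32 ▸ hc _ a)

lemma HasConfig.exists_off_point {U : Subgroup G} (h : HasConfig P L U) (p : P) :
    ∃ l : L, IsFix U l ∧ p ∉ l := by
  obtain ⟨p₁, p₂, p₃, l₁, l₂, l₃, -, -, -, a, b, c, -, -, h21, h22, h23, -, h32, h33⟩ := h
  by_contra hc
  push Not at hc
  have hne : l₂ ≠ l₃ := fun e => h33 (e ▸ h32)
  exact h21 (point_unique hne (hc _ b) (hc _ c) h22 h23 ▸ hc _ a)

/-- The plane of fixed elements. -/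
noncomputable def fxPlane (U : Subgroup G) (h : HasConfig P L U) :
    ProjectivePlane (Fx U P) (Fx U L) where
  exists_point l := by
    obtain ⟨p, hp, hpl⟩ := h.exists_off_line (l : L)
    exact ⟨⟨p, hp⟩, hpl⟩
  exists_line p := by
    obtain ⟨l, hl, hpl⟩ := h.exists_off_point (p : P)
    exact ⟨⟨l, hl⟩, hpl⟩
  eq_or_eq {p₁ p₂ l₁ l₂} a b c d :=
    (Nondegenerate.eq_or_eq (p₁ := (p₁ : P)) (p₂ := (p₂ : P)) (l₁ := (l₁ : L)) (l₂ := (l₂ : L))
      a b c d).imp Subtype.ext Subtype.ext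
  mkPoint {l₁ l₂} hl := ⟨HasPoints.mkPoint (Subtype.coe_ne_coe.2 hl), fun g hg =>
    point_fixed (Subtype.coe_ne_coe.2 hl) (l₁.2 g hg) (l₂.2 g hg)
      (HasPoints.mkPoint_ax _).1 (HasPoints.mkPoint_ax _).2⟩
  mkPoint_ax hl := HasPoints.mkPoint_ax (Subtype.coe_ne_coe.2 hl)
  mkLine {p₁ p₂} hp := ⟨HasLines.mkLine (Subtype.coe_ne_coe.2 hp), fun g hg =>
    line_fixed (Subtype.coe_ne_coe.2 hp) (p₁.2 g hg) (p₂.2 g hg)
      (HasLines.mkLine_ax _).1 (HasLines.mkLine_ax _).2⟩
  mkLine_ax hp := HasLines.mkLine_ax (Subtype.coe_ne_coe.2 hp)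
  exists_config := by
    obtain ⟨p₁, p₂, p₃, l₁, l₂, l₃, a, b, c, d, e, f, h⟩ := h
    exact ⟨⟨p₁, a⟩, ⟨p₂, b⟩, ⟨p₃, c⟩, ⟨l₁, d⟩, ⟨l₂, e⟩, ⟨l₃, f⟩, h⟩

/-- A line with three fixed points and two fixed points off it give a configuration. -/
lemma config_of_five {U : Subgroup G} {j : L} {A B C X Y : P} (hA : IsFix U A) (hB : IsFix U B)
    (hC : IsFix U C) (hX : IsFix U X) (hY : IsFix U Y) (hAB : A ≠ B) (hAC : A ≠ C)
    (hBC : B ≠ C) (hAj : A ∈ j) (hBj : B ∈ j) (hCj : C ∈ j) (hXj : X ∉ j) (hYj : Y ∉ j)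
    (hXY : X ≠ Y) : HasConfig P L U := by
  obtain ⟨m, hXm, hYm⟩ := exists_line_through (L := L) X Y
  have hjm : j ≠ m := fun e => hXj (e ▸ hXm)
  -- two of the points of `j` are off `m`
  obtain ⟨A', B', hA', hB', hAB', hA'j, hB'j, hA'm, hB'm⟩ : ∃ A' B' : P, IsFix U A' ∧
      IsFix U B' ∧ A' ≠ B' ∧ A' ∈ j ∧ B' ∈ j ∧ A' ∉ m ∧ B' ∉ m := by
    by_cases hAm : A ∈ m
    · exact ⟨B, C, hB, hC, hBC, hBj, hCj, fun h => hAB (point_unique hjm hAj hAm hBj h),
        fun h => hAC (point_unique hjm hAj hAm hCj h)⟩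
    · by_cases hBm : B ∈ m
      · exact ⟨A, C, hA, hC, hAC, hAj, hCj, hAm, fun h => hBC (point_unique hjm hBj hBm hCj h)⟩
      · exact ⟨A, B, hA, hB, hAB, hAj, hBj, hAm, hBm⟩
  obtain ⟨a, hA'a, hXa⟩ := exists_line_through (L := L) A' X
  have hA'X : A' ≠ X := fun e => hXj (e ▸ hA'j)
  have hja : j ≠ a := fun e => hXj (e ▸ hXa)
  have hma : m ≠ a := fun e => hA'm (e ▸ hA'a)
  refine ⟨Y, A', B', m, j, a, hY, hA', hB', fun g hg => line_fixed hXY (hX g hg) (hY g hg) hXm hYm,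
    fun g hg => line_fixed hAB' (hA' g hg) (hB' g hg) hA'j hB'j,
    fun g hg => line_fixed hA'X (hA' g hg) (hX g hg) hA'a hXa,
    hYj, fun h => hXY (point_unique hma hXm hXa hYm h), hA'm, hA'j, hA'a, hB'm, hB'j,
    fun h => hAB' (point_unique hja hA'j hA'a hB'j h)⟩

/-- Without a configuration the fixed points lie on a fixed line and one further point. -/
lemma fix_shape_of_not_config {U : Subgroup G} (h : ¬ HasConfig P L U) {A B : P}
    (hA : IsFix U A) (hB : IsFix U B) (hAB : A ≠ B) :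
    ∃ (j : L) (R : P), IsFix U j ∧ ∀ p : P, IsFix U p → p ∈ j ∨ p = R := by
  obtain ⟨j, hAj, hBj⟩ := exists_line_through (L := L) A B
  have hj : IsFix U j := fun g hg => line_fixed hAB (hA g hg) (hB g hg) hAj hBj
  by_cases h1 : ∀ X Y : P, IsFix U X → IsFix U Y → X ∉ j → Y ∉ j → X = Y
  · by_cases h2 : ∃ X, IsFix U X ∧ X ∉ j
    · obtain ⟨X, hX, hXj⟩ := h2
      refine ⟨j, X, hj, fun p hp => ?_⟩
      by_cases hpj : p ∈ j
      · exact Or.inl hpj
      · exact Or.inr (h1 p X hp hX hpj hXj)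
    · push Not at h2
      exact ⟨j, A, hj, fun p hp => Or.inl (h2 p hp)⟩
  · push Not at h1
    obtain ⟨X, Y, hX, hY, hXj, hYj, hXY⟩ := h1
    obtain ⟨m, hXm, hYm⟩ := exists_line_through (L := L) X Y
    have hm : IsFix U m := fun g hg => line_fixed hXY (hX g hg) (hY g hg) hXm hYm
    have hjm : j ≠ m := fun e => hXj (e ▸ hXm)
    obtain ⟨D, hDj, hDm⟩ := exists_meet (P := P) j m
    have hD : IsFix U D := fun g hg => point_fixed hjm (hj g hg) (hm g hg) hDj hDm
    have hDX : D ≠ X := fun e => hXj (e ▸ hDj)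
    have hDY : D ≠ Y := fun e => hYj (e ▸ hDj)
    -- `D` is `A` or `B`
    rcases em (D = A) with e | hDA
    · subst e
      refine ⟨m, B, hm, fun p hp => ?_⟩
      by_contra hc
      push Not at hc
      exact h (config_of_five hX hY hD hp hB hXY hDX.symm hDY.symm hXm hYm hDm hc.1
        (fun hBm => hAB (point_unique hjm hDj hDm hBj hBm)) hc.2)
    · rcases em (D = B) with e | hDB
      · subst e
        refine ⟨m, A, hm, fun p hp => ?_⟩
        by_contra hc
        push Not at hc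
        exact h (config_of_five hX hY hD hp hA hXY hDX.symm hDY.symm hXm hYm hDm hc.1
          (fun hAm => hAB (point_unique hjm hAj hAm hDj hDm)) hc.2)
      · exact absurd (config_of_five hA hB hD hX hY hAB (Ne.symm hDA) (Ne.symm hDB) hAj hBj hDj
          hXj hYj hXY) h

end CfsgLib.OstromWagner
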