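import Cfsg.Agent.Lib.OstromWagner.Coll
import Cfsg.Agent.Lib.OstromWagner.Orbit

/-!
# Central collineations
-/

namespace CfsgLib.OstromWagner

open Configuration Configuration.ProjectivePlane

variable {G P L : Type*} [Group G] [Membership P L] [MulAction G P] [MulAction G L]

variable (G P) in
/-- Collineations fixing every point of `l`. -/
def Axial (l : L) : Subgroup G where
  carrier := {g | ∀ p : P, p ∈ l → g • p = p}
  one_mem' := fun p _ => one_smul G p
  mul_mem' := fun {a b} ha hb p hp => by rw [mul_smul, hb p hp, ha p hp]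
  inv_mem' := fun {a} ha p hp => inv_smul_eq_iff.2 (ha p hp).symm

variable (G L) in
/-- Collineations fixing every line through `C`. -/
def Cen (C : P) : Subgroup G where
  carrier := {g | ∀ m : L, C ∈ m → g • m = m}
  one_mem' := fun p _ => one_smul G p
  mul_mem' := fun {a b} ha hb p hp => by rw [mul_smul, hb p hp, ha p hp]
  inv_mem' := fun {a} ha p hp => inv_smul_eq_iff.2 (ha p hp).symm

variable [ProjectivePlane P L] [Finite P] [Finite L] [IsColl G P L]

lemma axial_line {g : G} {l : L} (h : g ∈ Axial G P l) : g • l = l := by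
  obtain ⟨p, hp, -⟩ := exists_meet (P := P) l l
  obtain ⟨q, hq, hqp⟩ := exists_ne_on p l
  exact line_fixed hqp (h q hq) (h p hp) hq hp

lemma cen_fix {g : G} {C : P} (h : g ∈ Cen G L C) : g • C = C := by
  obtain ⟨l, hl, -⟩ := exists_line_through (L := L) C C
  obtain ⟨m, hm, hml⟩ := exists_ne_thru l C
  exact point_fixed hml (h m hm) (h l hl) hm hl

lemma mem_cen_of_fixed {g : G} {l : L} {X : P} (h : g ∈ Axial G P l) (hX : X ∉ l)
    (hg : g • X = X) : g ∈ Cen G L X := by
  intro m hm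
  obtain ⟨D, hDm, hDl⟩ := exists_meet (P := P) m l
  exact line_fixed (fun e : D = X => hX (e ▸ hDl)) (h D hDl) hg hDm hm

/-- A collineation with two centres is trivial. -/
lemma eq_one_of_two_centres {g : G} {C C' : P} (hne : C ≠ C') (h : g ∈ Cen G L C)
    (h' : g ∈ Cen G L C') : g = 1 := by
  obtain ⟨j, hCj, hC'j⟩ := exists_line_through (L := L) C C'
  have hoff : ∀ X : P, X ∉ j → g • X = X := by
    intro X hX
    obtain ⟨a, hCa, hXa⟩ := exists_line_through (L := L) C X
    obtain ⟨b, hC'b, hXb⟩ := exists_line_through (L := L) C' X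
    exact point_fixed (fun e : a = b => hX (line_unique hne hCa (e ▸ hC'b) hCj hC'j ▸ hXa)) (h a hCa)
      (h' b hC'b) hXa hXb
  refine eq_one_of_lines (L := L) P fun m => ?_
  by_cases hm : m = j
  · exact hm ▸ h j hCj
  obtain ⟨D, hDm, hDj⟩ := exists_meet (P := P) m j
  obtain ⟨X, hXm, hXD⟩ := exists_ne_on D m
  obtain ⟨Y, hYm, hYD, hYX⟩ := exists_ne_ne_on D X m
  exact line_fixed hYX.symm (hoff X fun hc => hXD (point_unique hm hXm hc hDm hDj))
    (hoff Y fun hc => hYD (point_unique hm hYm hc hDm hDj)) hXm hYm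

lemma exists_centre {g : G} {l : L} (h : g ∈ Axial G P l) : ∃ C : P, g ∈ Cen G L C := by
  classical
  obtain ⟨X, hX⟩ := Nondegenerate.exists_point (P := P) l
  by_cases hfix : ∃ Y : P, Y ∉ l ∧ g • Y = Y
  · obtain ⟨Y, hY, hgY⟩ := hfix
    exact ⟨Y, mem_cen_of_fixed h hY hgY⟩
  push Not at hfix
  have hline : ∀ Y : P, Y ∉ l → ∃ m : L, Y ∈ m ∧ g • m = m ∧ m ≠ l := by
    intro Y hY
    obtain ⟨m, hYm, hgYm⟩ := exists_line_through (L := L) Y (g • Y)
    refine ⟨m, hYm, ?_, fun e => hY (e ▸ hYm)⟩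
    obtain ⟨D, hDm, hDl⟩ := exists_meet (P := P) m l
    have hgY : g • Y ≠ D := fun e =>
      hY ((smul_mem_iff g Y l).1 (by rw [axial_line h, e]; exact hDl))
    exact line_unique hgY.symm (mem_smul_of_fixed (h D hDl) hDm) ((smul_mem_iff g Y m).2 hYm)
      hDm hgYm
  obtain ⟨m, hXm, hm, hml⟩ := hline X hX
  obtain ⟨C, hCm, hCl⟩ := exists_meet (P := P) m l
  refine ⟨C, fun a ha => ?_⟩
  by_cases hal : a = l
  · exact hal ▸ axial_line h
  obtain ⟨Y, hYa, hYC⟩ := exists_ne_on C a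
  have hY : Y ∉ l := fun hc => hYC (point_unique hal hYa hc ha hCl)
  obtain ⟨b, hYb, hb, hbl⟩ := hline Y hY
  obtain ⟨D, hDb, hDl⟩ := exists_meet (P := P) b l
  by_cases hbm : b = m
  · subst hbm
    rw [line_unique hYC hYa ha hYb hCm]
    exact hb
  obtain ⟨E, hEb, hEm⟩ := exists_meet (P := P) b m
  have hE : g • E = E := point_fixed hbm hb hm hEb hEm
  have hEl : E ∈ l := by
    by_contra hc
    exact hfix E hc hE
  have hEC : E = C := point_unique hml hEm hEl hCm hCl
  rw [line_unique hYC hYa ha hYb (hEC ▸ hEb)]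
  exact hb

lemma exists_axis {g : G} {C : P} (h : g ∈ Cen G L C) : ∃ l : L, g ∈ Axial G P l :=
  exists_centre (G := G) (P := Dual L) (L := Dual P) (l := C) h

/-- A collineation with two axes is trivial. -/
lemma eq_one_of_two_axes {g : G} {l l' : L} (hne : l ≠ l') (h : g ∈ Axial G P l)
    (h' : g ∈ Axial G P l') : g = 1 :=
  eq_one_of_two_centres (G := G) (P := Dual L) (L := Dual P) hne h h'

lemma centre_of_fixed {g : G} {l : L} {C X : P} (h : g ∈ Axial G P l) (hC : g ∈ Cen G L C)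
    (hne : g ≠ 1) (hX : X ∉ l) (hgX : g • X = X) : X = C := by
  by_contra e
  exact hne (eq_one_of_two_centres e (mem_cen_of_fixed h hX hgX) hC)

lemma centre_on_fixed_line {g : G} {l m : L} {C : P} (h : g ∈ Axial G P l)
    (hC : g ∈ Cen G L C) (hne : g ≠ 1) (hm : g • m = m) (hml : m ≠ l) : C ∈ m := by
  by_contra hc
  obtain ⟨D, hDm, hDl⟩ := exists_meet (P := P) m l
  obtain ⟨X, hXm, hXD⟩ := exists_ne_on D m
  obtain ⟨a, hCa, hXa⟩ := exists_line_through (L := L) C X
  have hX : g • X = X := point_fixed (fun e => hc (by rw [← e]; exact hCa)) (hC a hCa) hm hXa hXm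
  exact hc (centre_of_fixed h hC hne (fun h' => hXD (point_unique hml hXm h' hDm hDl)) hX ▸ hXm)

lemma conj_mem_axial {g a : G} {l : L} (ha : a ∈ Axial G P l) :
    g * a * g⁻¹ ∈ Axial G P (g • l) := by
  intro p hp
  have : g⁻¹ • p ∈ l := (smul_mem_iff g (g⁻¹ • p) l).1 (by rwa [smul_inv_smul])
  rw [mul_smul, mul_smul, ha _ this, smul_inv_smul]

lemma conj_mem_cen {g a : G} {C : P} (ha : a ∈ Cen G L C) :
    g * a * g⁻¹ ∈ Cen G L (g • C) :=
  conj_mem_axial (G := G) (P := Dual L) (L := Dual P) ha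

variable (G P) in
/-- The elations with axis `l`. -/
def Elat (l : L) : Subgroup G where
  carrier := {g | g ∈ Axial G P l ∧ ∃ C : P, C ∈ l ∧ g ∈ Cen G L C}
  one_mem' := by
    obtain ⟨p, hp, -⟩ := exists_meet (P := P) l l
    exact ⟨one_mem _, p, hp, one_mem _⟩
  inv_mem' := fun {a} ha => ⟨inv_mem ha.1, ha.2.choose, ha.2.choose_spec.1,
    inv_mem ha.2.choose_spec.2⟩
  mul_mem' := by
    rintro a b ⟨ha, C, hC, haC⟩ ⟨hb, C', hC', hbC⟩
    refine ⟨mul_mem ha hb, ?_⟩
    obtain ⟨Z, hZ⟩ := exists_centre (mul_mem ha hb)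
    by_cases hZl : Z ∈ l
    · exact ⟨Z, hZl, hZ⟩
    have hZfix := cen_fix hZ
    rw [mul_smul] at hZfix
    by_cases hY : b • Z = Z
    · rw [eq_one_of_two_centres (fun e : Z = C' => hZl (e ▸ hC'))
        (mem_cen_of_fixed hb hZl hY) hbC, mul_one]
      exact ⟨C, hC, haC⟩
    obtain ⟨m, hC'm, hZm⟩ := exists_line_through (L := L) C' Z
    have hml : m ≠ l := fun e => hZl (e ▸ hZm)
    have hYm : b • Z ∈ m := smul_mem_of_fixed (hbC m hC'm) hZm
    obtain ⟨m', hCm', hYm'⟩ := exists_line_through (L := L) C (b • Z)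
    have hZm' : Z ∈ m' := hZfix ▸ smul_mem_of_fixed (haC m' hCm') hYm'
    obtain rfl := line_unique hY hYm' hZm' hYm hZm
    obtain rfl := point_unique hml hCm' hC hC'm hC'
    exact ⟨C, hC, mul_mem haC hbC⟩

lemma elat_le_axial (l : L) : Elat G P l ≤ Axial G P l := fun _ h => h.1

lemma mem_elat {g : G} {l : L} {C : P} (h : g ∈ Axial G P l) (hC : C ∈ l)
    (hg : g ∈ Cen G L C) : g ∈ Elat G P l :=
  ⟨h, C, hC, hg⟩

lemma elat_free {g : G} {l : L} {X : P} (h : g ∈ Elat G P l) (hX : X ∉ l) (hg : g • X = X) :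
    g = 1 := by
  obtain ⟨ha, C, hC, hgC⟩ := h
  exact eq_one_of_two_centres (fun e : X = C => hX (e ▸ hC)) (mem_cen_of_fixed ha hX hg) hgC

lemma elat_of_no_fixed {g : G} {l : L} (h : g ∈ Axial G P l)
    (hf : ∀ X : P, X ∉ l → g • X ≠ X) : g ∈ Elat G P l := by
  obtain ⟨C, hC⟩ := exists_centre h
  refine mem_elat h ?_ hC
  by_contra hc
  exact hf C hc (cen_fix hC)

lemma conj_mem_elat {g a : G} {l : L} (ha : a ∈ Elat G P l) :
    g * a * g⁻¹ ∈ Elat G P (g • l) := by
  obtain ⟨h, C, hC, haC⟩ := ha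
  exact mem_elat (conj_mem_axial h) ((smul_mem_iff g C l).2 hC) (conj_mem_cen haC)

variable (G) in
/-- The elations with axis `l` and centre `C`. -/
def TDir (l : L) (C : P) : Subgroup G := Axial G P l ⊓ Cen G L C

lemma tdir_le_elat {l : L} {C : P} (hC : C ∈ l) : TDir G l C ≤ Elat G P l :=
  fun _ h => mem_elat h.1 hC h.2

lemma conj_mem_tdir {g a : G} {l : L} {C : P} (ha : a ∈ TDir G l C) :
    g * a * g⁻¹ ∈ TDir G (g • l) (g • C) :=
  ⟨conj_mem_axial ha.1, conj_mem_cen ha.2⟩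

lemma tdir_card_dvd [Finite G] {l : L} {C : P} (hC : C ∈ l) :
    Nat.card (TDir G l C) ∣ order P L := by
  classical
  obtain ⟨m, hCm, hml⟩ := exists_ne_thru l C
  have h := free_card_dvd (TDir G l C) {p : P | p ∈ m ∧ p ∉ l} (fun g hg x hx =>
    ⟨smul_mem_of_fixed (hg.2 m hCm) hx.1, fun hc => hx.2 ((smul_mem_iff g x l).1
      (by rw [axial_line hg.1]; exact hc))⟩)
    (fun g hg x hx => elat_free (tdir_le_elat hC hg) hx.2)
  have h2 : {p : P | p ∈ m ∧ p ∉ l} = {p : P | p ∈ m} \ {C} := by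
    ext p
    refine ⟨fun hp => ⟨hp.1, fun e => hp.2 (e ▸ hC)⟩, fun hp => ⟨hp.1, fun hc => hp.2 ?_⟩⟩
    exact point_unique hml hp.1 hc hCm hC
  rw [h2, Set.ncard_sdiff_singleton_of_mem (show C ∈ {p : P | p ∈ m} from hCm),
    ← Nat.card_coe_set_eq] at h
  have h3 : Nat.card ↥{p : P | p ∈ m} = order P L + 1 := card_on m
  rwa [h3, Nat.add_sub_cancel] at h

lemma elat_card_dvd [Finite G] (l : L) : Nat.card (Elat G P l) ∣ order P L ^ 2 := by
  rw [← card_off (P := P) l]
  have h := free_card_dvd (Elat G P l) {p : P | p ∉ l} (fun g hg x hx hc =>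
    hx ((smul_mem_iff g x l).1 (by rw [axial_line hg.1]; exact hc)))
    (fun g hg x hx => elat_free hg hx)
  rwa [← Nat.card_coe_set_eq] at h

lemma tdir_commute {l : L} {C C' : P} (hne : C ≠ C') (hC : C ∈ l) (hC' : C' ∈ l) {x y : G}
    (hx : x ∈ TDir G l C) (hy : y ∈ TDir G l C') : Commute x y := by
  have h1 : x * y * x⁻¹ * y⁻¹ ∈ Cen G L C := by
    have := conj_mem_cen (g := y) (inv_mem hx.2)
    rw [hy.1 C hC] at this
    simpa [mul_assoc] using mul_mem hx.2 this
  have h2 : x * y * x⁻¹ * y⁻¹ ∈ Cen G L C' := by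
    have := conj_mem_cen (g := x) hy.2
    rw [hx.1 C' hC'] at this
    exact mul_mem this (inv_mem hy.2)
  exact commutatorElement_eq_one_iff_commute.1 (eq_one_of_two_centres hne h1 h2)

/-- With two directions the elations form an elementary abelian group. -/
lemma elat_elementary [Finite G] {l : L} {C C' : P} (hne : C ≠ C') (hC : C ∈ l) (hC' : C' ∈ l)
    {g h : G} (hg : g ∈ TDir G l C) (hg1 : g ≠ 1) (hh : h ∈ TDir G l C') (hh1 : h ≠ 1) :
    ∃ p : ℕ, p.Prime ∧ (∀ x ∈ Elat G P l, x ^ p = 1) ∧ IsPGroup p (Elat G P l) ∧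
      ∀ x ∈ Elat G P l, ∀ y ∈ Elat G P l, Commute x y := by
  have hcomm : ∀ x ∈ Elat G P l, ∀ y ∈ Elat G P l, Commute x y := by
    rintro x ⟨hx, A, hA, hxA⟩ y ⟨hy, B, hB, hyB⟩
    by_cases hAB : A = B
    · subst hAB
      obtain ⟨z, D, hD, hz, hz1, hDA⟩ : ∃ (z : G) (D : P), D ∈ l ∧ z ∈ TDir G l D ∧ z ≠ 1 ∧
          D ≠ A := by
        by_cases h : C = A
        · exact ⟨_, C', hC', hh, hh1, fun e => hne (h.trans e.symm)⟩
        · exact ⟨_, C, hC, hg, hg1, h⟩
      obtain ⟨-, E, hE, hyzE⟩ := mul_mem (mem_elat hy hA hyB) (tdir_le_elat hD hz)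
      have hEA : E ≠ A := fun e => hz1 (eq_one_of_two_centres hDA hz.2 (by
        have := mul_mem (inv_mem hyB) (e ▸ hyzE)
        simpa using this))
      have h1 : Commute x (y * z) :=
        tdir_commute hEA.symm hA hE ⟨hx, hxA⟩ ⟨mul_mem hy hz.1, hyzE⟩
      have h2 : Commute x z := tdir_commute hDA.symm hA hD ⟨hx, hxA⟩ hz
      simpa using h1.mul_right h2.inv_right
    · exact tdir_commute hAB hA hB ⟨hx, hxA⟩ ⟨hy, hyB⟩
  obtain ⟨p, hp, hpd⟩ := Nat.exists_prime_and_dvd (mt orderOf_eq_one_iff.1 hg1)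
  have : Fact p.Prime := ⟨hp⟩
  have hoff : ∀ {u : G} {A B : P}, u ∈ TDir G l A → u ≠ 1 → u ^ p = 1 → A ∈ l → B ∈ l → A ≠ B →
      ∀ x ∈ TDir G l B, x ^ p = 1 := by
    intro u A B hu hu1 hup hA hB hAB x hx
    obtain ⟨-, E, hE, hE'⟩ := mul_mem (tdir_le_elat hA hu) (tdir_le_elat hB hx)
    refine eq_one_of_two_centres (L := L) (fun e : B = E => hu1 ?_) (pow_mem hx.2 p) ?_
    · subst e
      exact eq_one_of_two_centres hAB hu.2 (by simpa using mul_mem hE' (inv_mem hx.2))
    · have h1 := pow_mem hE' p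
      rwa [(hcomm u (tdir_le_elat hA hu) x (tdir_le_elat hB hx)).mul_pow, hup, one_mul] at h1
  set g₀ := g ^ (orderOf g / p) with hg₀
  have hg₀1 : g₀ ≠ 1 := by
    intro e
    have h1 := orderOf_dvd_of_pow_eq_one e
    have h2 := Nat.le_of_dvd (Nat.div_pos (Nat.le_of_dvd (orderOf_pos g) hpd) hp.pos) h1
    exact absurd h2 (not_le.2 (Nat.div_lt_self (orderOf_pos g) hp.one_lt))
  have hg₀p : g₀ ^ p = 1 := by
    rw [hg₀, ← pow_mul, Nat.div_mul_cancel hpd, pow_orderOf_eq_one]
  have hhp : h ^ p = 1 := hoff (pow_mem hg _) hg₀1 hg₀p hC hC' hne h hh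
  have hexp : ∀ x ∈ Elat G P l, x ^ p = 1 := by
    rintro x ⟨hx, A, hA, hxA⟩
    by_cases hAC : A = C
    · subst hAC
      exact hoff hh hh1 hhp hC' hC hne.symm x ⟨hx, hxA⟩
    · exact hoff (pow_mem hg _) hg₀1 hg₀p hC hA (Ne.symm hAC) x ⟨hx, hxA⟩
  refine ⟨p, hp, hexp, fun x => ⟨1, Subtype.ext ?_⟩, hcomm⟩
  simpa using hexp x x.2

/-- The centres of the nontrivial homologies with a common axis form one orbit of elations. -/
lemma exists_elat_smul_centre [Finite G] {l : L} {Z Z' : P} (hZ : Z ∉ l) (hZ' : Z' ∉ l)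
    {g g' : G} (hg : g ∈ Axial G P l) (hg1 : g ≠ 1) (hgZ : g • Z = Z)
    (hg' : g' ∈ Axial G P l) (hg'1 : g' ≠ 1) (hg'Z : g' • Z' = Z') :
    ∃ τ ∈ Elat G P l, τ • Z = Z' := by
  classical
  cases nonempty_fintype G
  cases nonempty_fintype P
  set H := Axial G P l with hH
  set T := Elat G P l with hT
  have hlpos : ∀ (a : G) (Y : P), a ∈ H → Y ∉ l → a • Y ∉ l := fun a Y ha hY hc =>
    hY ((smul_mem_iff a Y l).1 (by rw [axial_line ha]; exact hc))
  let O : P → Finset P := fun Y => (MulAction.orbit H Y).toFinset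
  let F : P → Finset G := fun Y => Finset.univ.filter fun a => a ∈ H ∧ a ≠ 1 ∧ a • Y = Y
  have hoff : ∀ Y X, Y ∉ l → X ∈ O Y → X ∉ l := by
    intro Y X hY hX
    obtain ⟨a, rfl⟩ := Set.mem_toFinset.1 hX
    exact hlpos _ _ a.2 hY
  have hdisj : ∀ X X' : P, X ∉ l → X' ∉ l → X ≠ X' → Disjoint (F X) (F X') := by
    intro X X' hX hX' hne
    rw [Finset.disjoint_left]
    intro a ha ha'
    simp only [F, Finset.mem_filter, Finset.mem_univ, true_and] at ha ha'
    exact ha.2.1 (eq_one_of_axis ha.1 hX hX' hne ha.2.2 ha'.2.2)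
  -- `|O(Y)| * (|F(Y)| + 1) = |H|`
  have hcnt : ∀ Y : P, (O Y).card * ((F Y).card + 1) = Nat.card H := by
    intro Y
    rw [← ncard_orbit_mul H Y, ← Set.ncard_eq_toFinset_card']
    congr 1
    rw [Nat.card_eq_fintype_card, Fintype.card_subtype,
      ← Finset.card_insert_of_notMem (s := F Y) (a := 1) (by simp [F])]
    congr 1
    ext a
    simp only [F, Finset.mem_insert, Finset.mem_filter, Finset.mem_univ, true_and,
      Subgroup.mem_inf, MulAction.mem_stabilizer_iff]
    constructor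
    · rintro (rfl | ⟨h1, -, h2⟩)
      · exact ⟨one_mem _, one_smul G Y⟩
      · exact ⟨h1, h2⟩
    · rintro ⟨h1, h2⟩
      exact (em (a = 1)).imp id fun h => ⟨h1, h, h2⟩
  have hconst : ∀ Y X, X ∈ O Y → (F X).card = (F Y).card := by
    intro Y X hX
    have e : O X = O Y := by
      simp only [O]
      simp only [MulAction.orbit_eq_iff.2 (Set.mem_toFinset.1 hX)]
    have h1 := hcnt X
    rw [e, ← hcnt Y] at h1
    have h2 : 0 < (O Y).card := Finset.card_pos.2 ⟨X, hX⟩
    exact Nat.succ.inj (Nat.eq_of_mul_eq_mul_left h2 h1)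
  let U : P → Finset G := fun Y => (O Y).biUnion F
  have hU : ∀ Y, Y ∉ l → (U Y).card = (O Y).card * (F Y).card := by
    intro Y hY
    simp only [U]
    rw [Finset.card_biUnion fun X hX X' hX' hne =>
      hdisj X X' (hoff Y X hY hX) (hoff Y X' hY hX') hne,
      Finset.sum_congr rfl (hconst Y), Finset.sum_const, smul_eq_mul]
  have hUsub : ∀ Y, Y ∉ l → U Y ⊆ Finset.univ.filter fun a => a ∈ H ∧ a ∉ T := by
    intro Y hY a ha
    obtain ⟨X, hX, ha⟩ := Finset.mem_biUnion.1 ha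
    simp only [F, Finset.mem_filter, Finset.mem_univ, true_and] at ha ⊢
    exact ⟨ha.1, fun hT' => ha.2.1 (elat_free hT' (hoff Y X hY hX) ha.2.2)⟩
  have hcardT : (Finset.univ.filter fun a => a ∈ H ∧ a ∉ T).card + Nat.card T = Nat.card H := by
    rw [Nat.card_eq_fintype_card, Nat.card_eq_fintype_card, Fintype.card_subtype,
      Fintype.card_subtype, ← Finset.card_union_of_disjoint]
    · congr 1
      ext a
      simp only [Finset.mem_union, Finset.mem_filter, Finset.mem_univ, true_and]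
      exact ⟨fun h => h.elim And.left fun h => h.1,
        fun h => (em (a ∈ T)).elim Or.inr fun h' => Or.inl ⟨h, h'⟩⟩
    · rw [Finset.disjoint_left]
      intro a ha hb
      simp only [Finset.mem_filter, Finset.mem_univ, true_and] at ha hb
      exact ha.2 hb
  have hTpos : 0 < Nat.card T := Nat.card_pos
  -- two centres lie in the same orbit
  have hsame : ∀ Y X : P, Y ∉ l → X ∉ l → (F Y).Nonempty → (F X).Nonempty → X ∈ O Y := by
    intro Y X hY hX hFY hFX
    by_contra hne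
    have hd : Disjoint (U Y) (U X) := by
      simp only [U]
      rw [Finset.disjoint_biUnion_left]
      intro A hA
      rw [Finset.disjoint_biUnion_right]
      intro B hB
      refine hdisj A B (hoff Y A hY hA) (hoff X B hX hB) fun e => hne ?_
      subst e
      exact Set.mem_toFinset.2 (MulAction.orbit_eq_iff.1
        (((MulAction.orbit_eq_iff.2 (Set.mem_toFinset.1 hB)).symm).trans
          (MulAction.orbit_eq_iff.2 (Set.mem_toFinset.1 hA))))
    have h1 := Finset.card_le_card (Finset.union_subset (hUsub Y hY) (hUsub X hX))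
    rw [Finset.card_union_of_disjoint hd, hU Y hY, hU X hX] at h1
    have h2 := hcnt Y
    have h3 := hcnt X
    have h4 : (O Y).card ≤ (O Y).card * (F Y).card := Nat.le_mul_of_pos_right _ hFY.card_pos
    have h5 : (O X).card ≤ (O X).card * (F X).card := Nat.le_mul_of_pos_right _ hFX.card_pos
    rw [mul_add, mul_one] at h2 h3
    omega
  have hFZ : (F Z).Nonempty := ⟨g, by simp [F, hg1, hgZ, ← hH, show g ∈ H from hg]⟩
  have hFZ' : (F Z').Nonempty := ⟨g', by simp [F, hg'1, hg'Z, ← hH, show g' ∈ H from hg']⟩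
  -- the elations are transitive on that orbit
  have hge : (Finset.univ.filter fun a => a ∈ H ∧ a ∉ T) ⊆ U Z := by
    intro a ha
    simp only [Finset.mem_filter, Finset.mem_univ, true_and] at ha
    obtain ⟨X, hX, haX⟩ : ∃ X : P, X ∉ l ∧ a • X = X := by
      by_contra hc
      push Not at hc
      exact ha.2 (elat_of_no_fixed ha.1 hc)
    have haF : a ∈ F X := by
      simp only [F, Finset.mem_filter, Finset.mem_univ, true_and]
      exact ⟨ha.1, fun e => ha.2 (e ▸ one_mem _), haX⟩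
    exact Finset.mem_biUnion.2 ⟨X, hsame Z X hZ hX hFZ ⟨a, haF⟩, haF⟩
  let OT : Finset P := (Finset.univ.filter fun a => a ∈ T).image fun a => a • Z
  have hOTc : OT.card = Nat.card T := by
    rw [Finset.card_image_of_injOn, Nat.card_eq_fintype_card, Fintype.card_subtype]
    intro a ha b hb e
    simp only [Finset.coe_filter, Finset.mem_univ, true_and, Set.mem_setOf_eq] at ha hb
    have h1 := elat_free (mul_mem (inv_mem hb) ha) hZ (by
      rw [mul_smul, show a • Z = b • Z from e, inv_smul_smul])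
    exact (inv_mul_eq_one.1 h1).symm
  have hOTsub : OT ⊆ O Z := by
    intro X hX
    obtain ⟨a, ha, rfl⟩ := Finset.mem_image.1 hX
    exact Set.mem_toFinset.2 ⟨⟨a, (Finset.mem_filter.1 ha).2.1⟩, rfl⟩
  have heq : OT = O Z := by
    refine Finset.eq_of_subset_of_card_le hOTsub ?_
    have h1 := Finset.card_le_card hge
    rw [hU Z hZ] at h1
    have h2 := hcnt Z
    rw [mul_add, mul_one] at h2
    omega
  have := hsame Z Z' hZ hZ' hFZ hFZ'
  rw [← heq] at this
  obtain ⟨a, ha, hh⟩ := Finset.mem_image.1 this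
  exact ⟨a, (Finset.mem_filter.1 ha).2, hh⟩

end CfsgLib.OstromWagner
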