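import Mathlib

/-!
# Semilinear maps over finite fields: fixed vectors, Hilbert 90, norms
-/

namespace CfsgLib.OstromWagner

variable {K : Type*} [Field K]

/-- The norm along an automorphism of order `d`. -/
def normAlong (σ : RingAut K) (d : ℕ) (f : K) : K := ∏ j ∈ Finset.range d, (σ ^ j) f

/-- `σ` has order exactly `d`. -/
structure AutOrder (σ : RingAut K) (d : ℕ) : Prop where
  pos : 0 < d
  pow_eq : σ ^ d = 1
  injOn : ∀ i < d, ∀ j < d, σ ^ i = σ ^ j → i = j

lemma AutOrder.of_orderOf {σ : RingAut K} [Finite K] : AutOrder σ (orderOf σ) := by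
  have : Finite (RingAut K) := Finite.of_injective (fun σ : RingAut K => (σ : K → K))
    (fun a b h => RingEquiv.ext fun x => congrFun h x)
  exact ⟨orderOf_pos σ, pow_orderOf_eq_one σ, fun i hi j hj h => pow_injOn_Iio_orderOf hi hj h⟩

lemma normAlong_map (σ τ : RingAut K) (d : ℕ) (h : Commute σ τ) (f : K) :
    normAlong σ d (τ f) = τ (normAlong σ d f) := by
  rw [normAlong, normAlong, map_prod]
  exact Finset.prod_congr rfl fun j _ => RingEquiv.congr_fun (h.pow_left j) f

lemma normAlong_mul (σ : RingAut K) (d : ℕ) (f f' : K) :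
    normAlong σ d (f * f') = normAlong σ d f * normAlong σ d f' := by
  rw [normAlong, normAlong, normAlong, ← Finset.prod_mul_distrib]
  exact Finset.prod_congr rfl fun j _ => map_mul _ _ _

lemma normAlong_one (σ : RingAut K) (d : ℕ) : normAlong σ d (1 : K) = 1 :=
  Finset.prod_eq_one fun _ _ => map_one _

lemma normAlong_ne_zero (σ : RingAut K) (d : ℕ) {f : K} (hf : f ≠ 0) : normAlong σ d f ≠ 0 :=
  Finset.prod_ne_zero_iff.2 fun _ _ => (map_ne_zero _).2 hf

lemma normAlong_self {σ : RingAut K} {d : ℕ} (h : σ ^ d = 1) (f : K) :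
    σ (normAlong σ d f) = normAlong σ d f := by
  cases d with
  | zero => simp [normAlong]
  | succ d =>
    rw [normAlong, map_prod]
    have e : ∀ j, σ ((σ ^ j) f) = (σ ^ (j + 1)) f := fun j => by rw [pow_succ']; rfl
    rw [Finset.prod_congr rfl (fun j _ => e j), Finset.prod_range_succ,
      Finset.prod_range_succ' (fun j => (σ ^ j) f) d, h, pow_zero]

lemma normAlong_apply_self {σ : RingAut K} {d : ℕ} (h : σ ^ d = 1) (f : K) :
    normAlong σ d (σ f) = normAlong σ d f := by
  rw [normAlong_map σ σ d (Commute.refl σ), normAlong_self h]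

lemma normAlong_inv (σ : RingAut K) {d : ℕ} (h : σ ^ d = 1) (f : K) :
    normAlong σ⁻¹ d f = normAlong σ d f := by
  cases d with
  | zero => rfl
  | succ d =>
    have hin : ∀ j ≤ d + 1, σ⁻¹ ^ j = σ ^ (d + 1 - j) := fun j hj => by
      rw [inv_pow, inv_eq_iff_mul_eq_one, ← pow_add, show j + (d + 1 - j) = d + 1 by omega, h]
    rw [normAlong, normAlong, Finset.prod_range_succ' (fun j => (σ⁻¹ ^ j) f),
      Finset.prod_range_succ' (fun j => (σ ^ j) f), pow_zero, pow_zero]
    congr 1
    rw [← Finset.prod_range_reflect (fun j => (σ ^ (j + 1)) f) d]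
    refine Finset.prod_congr rfl fun j hj => ?_
    rw [Finset.mem_range] at hj
    show (σ⁻¹ ^ (j + 1)) f = (σ ^ (d - 1 - j + 1)) f
    rw [hin _ (by omega)]
    congr 2
    congr 1
    omega

variable {V : Type*} [AddCommGroup V] [Module K V]

/-- Dedekind independence with vector coefficients. -/
lemma eq_zero_of_sum_pow {σ : RingAut K} {d : ℕ} (hd : AutOrder σ d) (w : ℕ → V)
    (h : ∀ f : K, ∑ j ∈ Finset.range d, ((σ ^ j) f) • w j = 0) : ∀ j < d, w j = 0 := by
  intro i hi
  by_contra hne
  obtain ⟨φ, hφ⟩ := not_forall.1 (mt (Module.forall_dual_apply_eq_zero_iff K (w i)).1 hne)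
  let χ : Fin d → (K →* K) := fun j => ((σ ^ (j : ℕ)).toRingHom : K →* K)
  have hχ : Function.Injective χ := fun a b e => Fin.ext (hd.injOn a a.2 b b.2
    (RingEquiv.ext fun x => DFunLike.congr_fun e x))
  have li := (linearIndependent_monoidHom K K).comp χ hχ
  rw [Fintype.linearIndependent_iff] at li
  have h0 := li (fun j => φ (w j)) (funext fun f => by
    have h1 := congrArg φ (h f)
    rw [map_sum, map_zero] at h1
    simp only [map_smul, smul_eq_mul] at h1
    rw [Pi.zero_apply, Finset.sum_apply, ← h1, ← Fin.sum_univ_eq_sum_range]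
    exact Finset.sum_congr rfl fun j _ => mul_comm _ _)
  exact hφ (h0 ⟨i, hi⟩)

/-- A semilinear map with `z ^ d` fixing a vector fixes a nonzero vector. -/
lemma exists_fixed_semilinear {σ : RingAut K} {d : ℕ} (hd : AutOrder σ d) (z : V →+ V)
    (hz : ∀ (f : K) (v : V), z (f • v) = σ f • z v) {v₀ : V} (hv₀ : v₀ ≠ 0)
    (hzd : z^[d] v₀ = v₀) : ∃ v : V, v ≠ 0 ∧ z v = v := by
  have hiter : ∀ (j : ℕ) (f : K) (v : V), z^[j] (f • v) = (σ ^ j) f • z^[j] v := by
    intro j
    induction j with
    | zero => intro f v; simp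
    | succ j ih =>
      intro f v
      rw [Function.iterate_succ_apply', ih, hz, Function.iterate_succ_apply', pow_succ']
      rfl
  by_contra hc
  push Not at hc
  have hall : ∀ f : K, ∑ j ∈ Finset.range d, ((σ ^ j) f) • z^[j] v₀ = 0 := by
    intro f
    by_contra hne
    refine hc _ hne ?_
    simp only [← hiter]
    rw [map_sum]
    simp only [← Function.iterate_succ_apply' z]
    obtain ⟨e, rfl⟩ := Nat.exists_eq_succ_of_ne_zero hd.pos.ne'
    rw [Finset.sum_range_succ, hiter e.succ, hzd, hd.pow_eq,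
      Finset.sum_range_succ' (fun j => z^[j] (f • v₀)) e]
    rfl
  exact hv₀ (eq_zero_of_sum_pow hd _ hall 0 hd.pos)

/-- Hilbert 90. -/
lemma hilbert90 {σ : RingAut K} {d : ℕ} (hd : AutOrder σ d) {f : K}
    (hf : normAlong σ d f = 1) : ∃ h : K, h ≠ 0 ∧ f * σ h = h := by
  let z : K →+ K := (AddMonoidHom.mulLeft f).comp σ.toRingHom.toAddMonoidHom
  have hz : ∀ a v : K, z (a • v) = σ a • z v := fun a v => by
    show f * σ (a * v) = σ a * (f * σ v)
    rw [map_mul]; ring
  have hiter : ∀ j, z^[j] 1 = normAlong σ j f := by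
    intro j
    induction j with
    | zero => simp [normAlong]
    | succ j ih =>
      rw [Function.iterate_succ_apply', ih]
      show f * σ (normAlong σ j f) = _
      rw [normAlong, normAlong, map_prod, Finset.prod_range_succ', mul_comm, pow_zero]
      congr 1
      exact Finset.prod_congr rfl fun i _ => by rw [pow_succ']; rfl
  obtain ⟨h, hh, hzh⟩ := exists_fixed_semilinear hd z hz (one_ne_zero (α := K))
    (by rw [hiter, hf])
  exact ⟨h, hh, hzh⟩

/-- Norms are surjective onto the fixed field of a finite field. -/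
lemma norm_surjective [Finite K] {σ : RingAut K} {d : ℕ} (hd : AutOrder σ d) {r : K}
    (hr : r ≠ 0) (hσr : σ r = r) : ∃ f : K, f ≠ 0 ∧ normAlong σ d f = r := by
  let N : Kˣ →* Kˣ := Units.map ⟨⟨normAlong σ d, normAlong_one σ d⟩, normAlong_mul σ d⟩
  let ψ : Kˣ →* Kˣ := MonoidHom.id Kˣ / Units.map (σ : K →* K)
  let Fx : Subgroup Kˣ :=
    { carrier := {a | σ (a : K) = a}
      one_mem' := map_one σ
      mul_mem' := fun {a b} ha hb => by
        show σ ((a * b : Kˣ) : K) = _
        rw [Units.val_mul, map_mul, ha, hb]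
      inv_mem' := fun {a} ha => by
        show σ ((a⁻¹ : Kˣ) : K) = _
        rw [Units.val_inv_eq_inv_val, map_inv₀, ha] }
  have hψk : ψ.ker = Fx := by
    ext a
    rw [MonoidHom.mem_ker]
    show a / Units.map (σ : K →* K) a = 1 ↔ σ (a : K) = a
    rw [div_eq_one, Units.ext_iff]
    exact eq_comm
  have hNr : N.range ≤ Fx := by
    rintro _ ⟨a, rfl⟩
    exact normAlong_self hd.pow_eq _
  have hNk : N.ker ≤ ψ.range := by
    intro a ha
    obtain ⟨h, hh, hah⟩ := hilbert90 hd (congrArg Units.val ha : normAlong σ d (a : K) = 1)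
    refine ⟨Units.mk0 h hh, Units.ext ?_⟩
    show ((Units.mk0 h hh / Units.map (σ : K →* K) (Units.mk0 h hh) : Kˣ) : K) = a
    rw [Units.val_div_eq_div_val, div_eq_iff (Units.ne_zero _)]
    exact hah.symm
  have h1 := N.ker.card_mul_index
  have h2 := ψ.ker.card_mul_index
  rw [Subgroup.index_ker] at h1 h2
  rw [hψk] at h2
  have hk := Subgroup.card_le_of_le hNk
  have hr' := Subgroup.card_le_of_le hNr
  have hpos : 0 < Nat.card ψ.range := Nat.card_pos
  have heq : N.range = Fx := by
    refine Subgroup.eq_of_le_of_card_ge hNr ?_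
    by_contra hc
    push Not at hc
    have := Nat.mul_le_mul hk (le_refl (Nat.card N.range))
    have := (Nat.mul_lt_mul_left hpos).2 hc
    nlinarith
  obtain ⟨a, ha⟩ : Units.mk0 r hr ∈ N.range := heq ▸ (show Units.mk0 r hr ∈ Fx from hσr)
  exact ⟨a, a.ne_zero, congrArg Units.val ha⟩

end CfsgLib.OstromWagner
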