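import Cfsg.Agent.Lib.OstromWagner.Perspectivity

/-!
# Coordinates of a two-transitive plane: slopes form a group closed under addition
-/

namespace CfsgLib.OstromWagner

open Configuration Configuration.ProjectivePlane MulAction

variable {G P L : Type*} [Group G] [Membership P L] [MulAction G P] [MulAction G L]
  [ProjectivePlane P L] [Finite P] [Finite L] [IsColl G P L] [Finite G]

variable (G P L) in
/-- A frame of reference in a two-transitive plane. -/
structure Frame where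
  two : TwoTrans G P
  linf : L
  C0 : P
  Cinf : P
  O : P
  hC0 : C0 ∈ linf
  hCinf : Cinf ∈ linf
  hne : C0 ≠ Cinf
  hO : O ∉ linf

namespace Frame

/-- Interchange the two axes. -/
@[reducible] def swap (c : Frame G P L) : Frame G P L :=
  ⟨c.two, c.linf, c.Cinf, c.C0, c.O, c.hCinf, c.hC0, c.hne.symm, c.hO⟩

/-- Translations in the direction `C0`. -/
def X0 (c : Frame G P L) : Subgroup G := TDir G c.linf c.C0

variable (c : Frame G P L)

lemma comm {x y : G} (hx : x ∈ Elat G P c.linf) (hy : y ∈ Elat G P c.linf) : x * y = y * x := by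
  obtain ⟨p, -, -, -, -, h⟩ := elat_full c.two c.linf
  exact h x hx y hy

lemma x0_mem {x : G} (hx : x ∈ c.X0) : x ∈ Elat G P c.linf := tdir_le_elat c.hC0 hx

noncomputable instance : CommGroup c.X0 :=
  { (inferInstance : Group c.X0) with
    mul_comm := fun a b => Subtype.ext (c.comm (c.x0_mem a.2) (c.x0_mem b.2)) }

lemma tdir_card {C : P} (hC : C ∈ c.linf) : Nat.card (TDir G c.linf C) = order P L := by
  obtain ⟨p, -, h, -⟩ := elat_full c.two c.linf
  exact h C hC

lemma x0_card : Nat.card c.X0 = order P L := c.tdir_card c.hC0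

omit [Finite G] in
lemma tdir_inter {C C' : P} (hne : C ≠ C') {x : G} (hx : x ∈ TDir G c.linf C)
    (hx' : x ∈ TDir G c.linf C') : x = 1 := eq_one_of_two_centres hne hx.2 hx'.2

/-- Every translation splits. -/
lemma decomp {τ : G} (hτ : τ ∈ Elat G P c.linf) :
    ∃ x ∈ c.X0, ∃ y ∈ c.swap.X0, τ = x * y := by
  let f : c.X0 × c.swap.X0 → Elat G P c.linf := fun q =>
    ⟨q.1 * q.2, mul_mem (c.x0_mem q.1.2) (c.swap.x0_mem q.2.2)⟩
  have hf : Function.Injective f := by
    rintro ⟨x, y⟩ ⟨x', y'⟩ e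
    have e' : (x : G) * y = x' * y' := congrArg Subtype.val e
    have h : (x' : G)⁻¹ * x = y' * (y : G)⁻¹ := by
      rw [eq_mul_inv_iff_mul_eq, mul_assoc, e', inv_mul_cancel_left]
    have h1 : (x' : G)⁻¹ * x = 1 := c.tdir_inter c.hne (mul_mem (inv_mem x'.2) x.2)
      (h ▸ mul_mem y'.2 (inv_mem y.2))
    rw [h1] at h
    exact Prod.ext (Subtype.ext (inv_mul_eq_one.1 h1).symm)
      (Subtype.ext (mul_inv_eq_one.1 h.symm).symm)
  obtain ⟨p, -, -, hc, -⟩ := elat_full c.two c.linf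
  have hcard : Nat.card (Elat G P c.linf) ≤ Nat.card (c.X0 × c.swap.X0) := by
    rw [Nat.card_prod, hc, c.x0_card, c.swap.x0_card, pow_two]
  obtain ⟨⟨x, y⟩, hxy⟩ :=
    ((Nat.bijective_iff_injective_and_card f).2
      ⟨hf, le_antisymm (Nat.card_le_card_of_injective f hf) hcard⟩).2 ⟨τ, hτ⟩
  exact ⟨x, x.2, y, y.2, (congrArg Subtype.val hxy).symm⟩

lemma decomp_unique {x x' y y' : G} (hx : x ∈ c.X0) (hx' : x' ∈ c.X0) (hy : y ∈ c.swap.X0)
    (hy' : y' ∈ c.swap.X0) (e : x * y = x' * y') : x = x' ∧ y = y' := by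
  have h : x'⁻¹ * x = y' * y⁻¹ := by
    rw [eq_mul_inv_iff_mul_eq, mul_assoc, e, inv_mul_cancel_left]
  have h1 : x'⁻¹ * x = 1 := c.tdir_inter c.hne (mul_mem (inv_mem hx') hx)
    (h ▸ mul_mem hy' (inv_mem hy))
  rw [h1] at h
  exact ⟨(inv_mul_eq_one.1 h1).symm, (mul_inv_eq_one.1 h.symm).symm⟩

/-- A point of `linf` other than `Cinf`. -/
abbrev Dirs (c : Frame G P L) := {C : P // C ∈ c.linf ∧ C ≠ c.Cinf}

lemma exists_graph (C : c.Dirs) (x : c.X0) :
    ∃ y : c.swap.X0, (x : G) * y ∈ TDir G c.linf C.1 := by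
  choose px hpx py hpy hpe using fun d : TDir G c.linf C.1 =>
    c.decomp (tdir_le_elat C.2.1 d.2)
  let f : TDir G c.linf C.1 → c.X0 := fun d => ⟨px d, hpx d⟩
  have hf : Function.Injective f := by
    intro d d' e
    have e' : px d = px d' := congrArg Subtype.val e
    refine Subtype.ext (inv_mul_eq_one.1 (c.tdir_inter (Ne.symm C.2.2) ?_
      (mul_mem (inv_mem d.2) d'.2)))
    show (d : G)⁻¹ * d' ∈ c.swap.X0
    rw [hpe d, hpe d', e', mul_inv_rev, mul_assoc, inv_mul_cancel_left]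
    exact mul_mem (inv_mem (hpy d)) (hpy d')
  obtain ⟨d, hd⟩ := ((Nat.bijective_iff_injective_and_card f).2
    ⟨hf, by rw [c.x0_card, c.tdir_card C.2.1]⟩).2 x
  refine ⟨⟨py d, hpy d⟩, ?_⟩
  show (x : G) * py d ∈ _
  rw [show (x : G) = px d from (congrArg Subtype.val hd).symm, ← hpe d]
  exact d.2

lemma graph_unique (C : c.Dirs) {x y y' : G} (hy : y ∈ c.swap.X0) (hy' : y' ∈ c.swap.X0)
    (h : x * y ∈ TDir G c.linf C.1) (h' : x * y' ∈ TDir G c.linf C.1) : y = y' := by
  refine inv_mul_eq_one.1 (c.tdir_inter (Ne.symm C.2.2) (mul_mem (inv_mem hy) hy') ?_)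
  have := mul_mem (inv_mem h) h'
  rwa [mul_inv_rev, mul_assoc, inv_mul_cancel_left] at this

/-- The slope map of a direction. -/
noncomputable def slope (C : c.Dirs) : Additive c.X0 →+ Additive c.swap.X0 :=
  AddMonoidHom.mk' (fun x => Additive.ofMul (c.exists_graph C x.toMul).choose) fun a b => by
    refine congrArg Additive.ofMul (Subtype.ext (c.graph_unique C (x := (a.toMul * b.toMul : c.X0))
      (c.exists_graph C (a + b).toMul).choose.2
      ((c.exists_graph C a.toMul).choose * (c.exists_graph C b.toMul).choose : c.swap.X0).2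
      (c.exists_graph C (a + b).toMul).choose_spec ?_))
    have h := mul_mem (c.exists_graph C a.toMul).choose_spec (c.exists_graph C b.toMul).choose_spec
    show ((a.toMul : G) * b.toMul) * (((c.exists_graph C a.toMul).choose : G) *
        (c.exists_graph C b.toMul).choose) ∈ _
    have e : ((a.toMul : G) * b.toMul) * (((c.exists_graph C a.toMul).choose : G) *
        (c.exists_graph C b.toMul).choose) = ((a.toMul : G) * (c.exists_graph C a.toMul).choose) *
        ((b.toMul : G) * (c.exists_graph C b.toMul).choose) := by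
      rw [mul_assoc, ← mul_assoc (b.toMul : G),
        c.comm (c.x0_mem b.toMul.2) (c.swap.x0_mem (c.exists_graph C a.toMul).choose.2)]
      simp only [mul_assoc]
    rw [e]
    exact h

lemma slope_spec (C : c.Dirs) (x : Additive c.X0) :
    (x.toMul : G) * ((c.slope C x).toMul : G) ∈ TDir G c.linf C.1 :=
  (c.exists_graph C x.toMul).choose_spec

lemma slope_eq (C : c.Dirs) {x : Additive c.X0} {y : Additive c.swap.X0}
    (h : (x.toMul : G) * (y.toMul : G) ∈ TDir G c.linf C.1) : c.slope C x = y :=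
  Additive.toMul.injective (Subtype.ext
    (c.graph_unique C (c.slope C x).toMul.2 y.toMul.2 (c.slope_spec C x) h))

lemma slope_C0 : c.slope ⟨c.C0, c.hC0, c.hne⟩ = 0 :=
  AddMonoidHom.ext fun x => c.slope_eq _ (by
    show (x.toMul : G) * ((0 : Additive c.swap.X0).toMul : G) ∈ _
    rw [toMul_zero, OneMemClass.coe_one, mul_one]
    exact x.toMul.2)

lemma slope_ne_zero (C : c.Dirs) (hC : C.1 ≠ c.C0) {x : Additive c.X0} (hx : x ≠ 0) :
    c.slope C x ≠ 0 := by
  intro h
  have h1 := c.slope_spec C x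
  rw [h, toMul_zero, OneMemClass.coe_one, mul_one] at h1
  exact hx (Additive.toMul.injective (Subtype.ext (c.tdir_inter hC h1 x.toMul.2)))

lemma slope_injective (C : c.Dirs) (hC : C.1 ≠ c.C0) : Function.Injective (c.slope C) :=
  (injective_iff_map_eq_zero _).2 fun x hx => by
    by_contra h
    exact c.slope_ne_zero C hC h hx

lemma slope_inj {C C' : c.Dirs} (h : c.slope C = c.slope C') : C = C' := by
  by_contra hne
  have : Nontrivial c.X0 := Finite.one_lt_card_iff_nontrivial.1 (by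
    rw [c.x0_card]; exact two_le_order)
  obtain ⟨x, hx⟩ := exists_ne (1 : c.X0)
  have h1 := c.slope_spec C (Additive.ofMul x)
  have h2 := c.slope_spec C' (Additive.ofMul x)
  rw [← h] at h2
  have h3 := c.tdir_inter (fun e => hne (Subtype.ext e)) h1 h2
  exact hx (Subtype.ext (c.decomp_unique x.2 (one_mem _) (c.slope C (Additive.ofMul x)).toMul.2
    (one_mem _) (by rw [one_mul]; exact h3)).1)

/-- The swapped slope is the inverse. -/
lemma slope_swap (C : c.Dirs) (hC : C.1 ≠ c.C0) (x : Additive c.X0) :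
    c.swap.slope ⟨C.1, C.2.1, hC⟩ (c.slope C x) = x := by
  refine c.swap.slope_eq _ ?_
  show ((c.slope C x).toMul : G) * (x.toMul : G) ∈ TDir G c.linf C.1
  rw [c.comm (c.swap.x0_mem (c.slope C x).toMul.2) (c.x0_mem x.toMul.2)]
  exact c.slope_spec C x

/-- The slopes are closed under addition. -/
lemma slope_add (C C'' : c.Dirs) : ∃ C' : c.Dirs, c.slope C' = c.slope C + c.slope C'' := by
  obtain ⟨j, hOj, hCj⟩ := exists_line_through (L := L) c.O c.Cinf
  have hjl : j ≠ c.linf := fun e => c.hO (e ▸ hOj)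
  obtain ⟨p, -, hsh, -⟩ := elat_full c.two j
  have hoff : ∀ D : c.Dirs, D.1 ∉ j := fun D h =>
    D.2.2 (point_unique hjl h D.2.1 hCj c.hCinf)
  have hmap : ∀ (s : TDir G j c.Cinf) (D : P), D ∈ c.linf → (s : G) • D ∈ c.linf := fun s D hD =>
    smul_mem_of_fixed (s.2.2 c.linf c.hCinf) hD
  let f : TDir G j c.Cinf → c.Dirs := fun s => ⟨(s : G) • c.C0, hmap s _ c.hC0, fun e =>
    c.hne (MulAction.injective (s : G) (e.trans (s.2.1 c.Cinf hCj).symm))⟩
  have hf : Function.Injective f := by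
    intro s s' e
    have e' : (s : G) • c.C0 = (s' : G) • c.C0 := congrArg Subtype.val e
    refine Subtype.ext (inv_mul_eq_one.1 (elat_free (tdir_le_elat hCj
      (mul_mem (inv_mem s.2) s'.2)) (hoff ⟨c.C0, c.hC0, c.hne⟩) ?_))
    rw [mul_smul, ← e', inv_smul_smul]
  have hcard : Nat.card c.Dirs = order P L := by
    have h1 : Nat.card c.Dirs = ({Q : P | Q ∈ c.linf} \ {c.Cinf}).ncard :=
      Nat.card_coe_set_eq _
    rw [h1, Set.ncard_sdiff_singleton_of_mem (show c.Cinf ∈ {Q : P | Q ∈ c.linf} from c.hCinf),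
      ← Nat.card_coe_set_eq]
    have : Nat.card ↥{Q : P | Q ∈ c.linf} = order P L + 1 := card_on c.linf
    rw [this, Nat.add_sub_cancel]
  obtain ⟨⟨s, hs⟩, hsC⟩ := ((Nat.bijective_iff_injective_and_card f).2
    ⟨hf, by rw [hcard, hsh c.Cinf hCj]⟩).2 C''
  have hsC' : s • c.C0 = C''.1 := congrArg Subtype.val hsC
  have hsl : s • c.linf = c.linf := hs.2 c.linf c.hCinf
  refine ⟨⟨s • C.1, hmap ⟨s, hs⟩ _ C.2.1, fun e =>
    C.2.2 (MulAction.injective s (e.trans (hs.1 c.Cinf hCj).symm))⟩, AddMonoidHom.ext fun x => ?_⟩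
  refine c.slope_eq _ ?_
  -- the shear moves translations along `Cinf`
  have hconj : s * (x.toMul : G) * s⁻¹ * (x.toMul : G)⁻¹ ∈ c.swap.X0 := by
    have hT : s * (x.toMul : G) * s⁻¹ * (x.toMul : G)⁻¹ ∈ Elat G P c.linf := by
      refine mul_mem ?_ (inv_mem (c.x0_mem x.toMul.2))
      have := conj_mem_elat (g := s) (c.x0_mem x.toMul.2)
      rwa [hsl] at this
    refine ⟨hT.1, ?_⟩
    have h1 : (x.toMul : G) * s⁻¹ * (x.toMul : G)⁻¹ ∈ Cen G L c.Cinf := by
      have h2 := conj_mem_cen (g := (x.toMul : G)) (inv_mem hs.2)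
      rwa [x.toMul.2.1 c.Cinf c.hCinf] at h2
    have := mul_mem hs.2 h1
    simpa [mul_assoc] using this
  have hfix : ∀ y ∈ c.swap.X0, s * y * s⁻¹ = y := by
    intro y hy
    have hO' : s • c.O = c.O := hs.1 c.O hOj
    have hyO : y • c.O ∈ j := smul_mem_of_fixed (hy.2 j hCj) hOj
    have hT : s * y * s⁻¹ ∈ Elat G P c.linf := by
      have := conj_mem_elat (g := s) (c.swap.x0_mem hy)
      rwa [hsl] at this
    refine (inv_mul_eq_one.1 (elat_free (mul_mem (inv_mem (c.swap.x0_mem hy)) hT) c.hO ?_)).symm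
    rw [mul_smul, mul_smul, mul_smul, inv_smul_eq_iff.2 hO'.symm, hs.1 _ hyO, inv_smul_smul]
  have hC' := conj_mem_tdir (g := s) (c.slope_spec C x)
  rw [hsl] at hC'
  have hC0 := conj_mem_tdir (g := s) (show (x.toMul : G) ∈ TDir G c.linf c.C0 from x.toMul.2)
  rw [hsl, hsC'] at hC0
  have hσ : c.slope C'' x = Additive.ofMul ⟨_, hconj⟩ := by
    refine c.slope_eq _ ?_
    show (x.toMul : G) * (s * (x.toMul : G) * s⁻¹ * (x.toMul : G)⁻¹) ∈ _
    rwa [c.comm (c.x0_mem x.toMul.2) (c.swap.x0_mem hconj), inv_mul_cancel_right]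
  rw [AddMonoidHom.add_apply, hσ, toMul_add, toMul_ofMul, Subgroup.coe_mul]
  have e : (x.toMul : G) * (((c.slope C x).toMul : G) * (s * (x.toMul : G) * s⁻¹ *
      (x.toMul : G)⁻¹)) = s * ((x.toMul : G) * ((c.slope C x).toMul : G)) * s⁻¹ := by
    conv_rhs => rw [show s * ((x.toMul : G) * ((c.slope C x).toMul : G)) * s⁻¹
      = (s * (x.toMul : G) * s⁻¹ * (x.toMul : G)⁻¹) * (x.toMul : G) *
        (s * ((c.slope C x).toMul : G) * s⁻¹) by group, hfix _ (c.slope C x).toMul.2]
    rw [c.comm (c.swap.x0_mem (c.slope C x).toMul.2) (c.swap.x0_mem hconj), ← mul_assoc,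
      c.comm (c.x0_mem x.toMul.2) (c.swap.x0_mem hconj)]
  show (x.toMul : G) * (((c.slope C x).toMul : G) * (s * (x.toMul : G) * s⁻¹ *
      (x.toMul : G)⁻¹)) ∈ _
  rw [e]
  exact hC'

end Frame

end CfsgLib.OstromWagner
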