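import Mathlib

/-!
# The Galois grading of a ring containing a finite field
-/

namespace CfsgLib.OstromWagner

open Polynomial

variable {A K : Type*} [Ring A] [Field K] (ι : K →+* A)

/-- `x` is `σ`-semilinear. -/
def compSub (σ : RingAut K) : AddSubgroup A where
  carrier := {x | ∀ f : K, x * ι f = ι (σ f) * x}
  zero_mem' := fun f => by rw [zero_mul, mul_zero]
  add_mem' := fun {a b} ha hb f => by rw [add_mul, mul_add, ha f, hb f]
  neg_mem' := fun {a} ha f => by rw [neg_mul, mul_neg, ha f]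

lemma mem_compSub {σ : RingAut K} {x : A} :
    x ∈ compSub ι σ ↔ ∀ f : K, x * ι f = ι (σ f) * x := Iff.rfl

lemma compSub_mul {σ τ : RingAut K} {x y : A} (hx : x ∈ compSub ι σ) (hy : y ∈ compSub ι τ) :
    x * y ∈ compSub ι (σ * τ) := fun f => by
  rw [mul_assoc, hy f, ← mul_assoc, hx (τ f), mul_assoc]
  rfl

lemma compSub_scalar {σ : RingAut K} {x : A} (hx : x ∈ compSub ι σ) (c : K) :
    ι c * x ∈ compSub ι σ := fun f => by
  rw [mul_assoc, hx f, ← mul_assoc, ← mul_assoc, ← map_mul, mul_comm c, map_mul]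

lemma compSub_pow {σ : RingAut K} {x : A} (hx : x ∈ compSub ι σ) :
    ∀ m : ℕ, x ^ m ∈ compSub ι (σ ^ m)
  | 0 => fun f => by rw [pow_zero, pow_zero, one_mul, mul_one]; rfl
  | m + 1 => by rw [pow_succ, pow_succ]; exact compSub_mul ι (compSub_pow hx m) hx

lemma compSub_scalar_one (c : K) : ι c ∈ compSub ι 1 := fun f => by
  rw [← map_mul, mul_comm c, map_mul]
  rfl

lemma compSub_inv {σ : RingAut K} {u : Aˣ} (hu : (u : A) ∈ compSub ι σ) :
    ((u⁻¹ : Aˣ) : A) ∈ compSub ι σ⁻¹ := fun f => by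
  have h := hu (σ⁻¹ f)
  rw [show σ (σ⁻¹ f) = f from σ.apply_symm_apply f] at h
  calc ((u⁻¹ : Aˣ) : A) * ι f = ((u⁻¹ : Aˣ) : A) * (ι f * (u : A)) * ((u⁻¹ : Aˣ) : A) := by
        rw [mul_assoc, mul_assoc (ι f), Units.mul_inv, mul_one]
    _ = ι (σ⁻¹ f) * ((u⁻¹ : Aˣ) : A) := by
        rw [← h, Units.inv_mul_cancel_left]

/-- Left multiplication by scalars. -/
noncomputable def scalHom : K →+* AddMonoid.End A :=
  RingHom.comp
    { toFun := fun a => (AddMonoidHom.mulLeft a : AddMonoid.End A)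
      map_one' := AddMonoidHom.ext fun x => one_mul x
      map_mul' := fun a b => AddMonoidHom.ext fun x => mul_assoc a b x
      map_zero' := AddMonoidHom.ext fun x => zero_mul x
      map_add' := fun a b => AddMonoidHom.ext fun x => add_mul a b x } ι

/-- Evaluation of polynomials at right multiplication by `ι g`. -/
noncomputable def phiHom (g : K) : K[X] →+* AddMonoid.End A :=
  eval₂RingHom' (scalHom ι) (AddMonoidHom.mulRight (ι g)) fun a =>
    AddMonoidHom.ext fun x => by
      show ι a * (x * ι g) = ι a * x * ι g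
      rw [mul_assoc]

/-- The value of the operator attached to a polynomial. -/
noncomputable def phiEv (g : K) (P : K[X]) (x : A) : A := (phiHom ι g P).toFun x

lemma phiEv_add_right (g : K) (P : K[X]) (x y : A) :
    phiEv ι g P (x + y) = phiEv ι g P x + phiEv ι g P y :=
  AddMonoidHom.map_add (phiHom ι g P) x y

lemma phiEv_zero_right (g : K) (P : K[X]) : phiEv ι g P (0 : A) = 0 :=
  AddMonoidHom.map_zero (phiHom ι g P)

lemma phiEv_sub (g : K) (P Q : K[X]) (x : A) :
    phiEv ι g (P - Q) x = phiEv ι g P x - phiEv ι g Q x := by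
  simp only [phiEv, map_sub]; rfl

lemma phiEv_one (g : K) (x : A) : phiEv ι g 1 x = x := by
  simp only [phiEv, map_one]; rfl

lemma phiEv_sum {κ : Type*} (s : Finset κ) (g : K) (P : κ → K[X]) (x : A) :
    phiEv ι g (∑ i ∈ s, P i) x = ∑ i ∈ s, phiEv ι g (P i) x := by
  classical
  induction s using Finset.induction_on with
  | empty => simp only [Finset.sum_empty, phiEv, map_zero]; rfl
  | insert i s hi ih =>
    rw [Finset.sum_insert hi, Finset.sum_insert hi, ← ih]
    simp only [phiEv, map_add]; rfl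

lemma phiEv_C (g a : K) (x : A) : phiEv ι g (C a) x = ι a * x := by
  simp only [phiEv, show phiHom ι g (C a) = scalHom ι a from eval₂_C _ _]
  rfl

lemma phiEv_X (g : K) (x : A) : phiEv ι g X x = x * ι g := by
  simp only [phiEv, show phiHom ι g X = AddMonoidHom.mulRight (ι g) from eval₂_X _ _]
  rfl

lemma phiEv_mul (g : K) (P Q : K[X]) (x : A) :
    phiEv ι g (P * Q) x = phiEv ι g P (phiEv ι g Q x) := by
  simp only [phiEv, map_mul]; rfl

lemma phiEv_monomial (g a : K) (k : ℕ) (x : A) :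
    phiEv ι g (monomial k a) x = ι a * (x * ι (g ^ k)) := by
  rw [← C_mul_X_pow_eq_monomial, phiEv_mul, phiEv_C]
  congr 1
  induction k generalizing x with
  | zero => rw [pow_zero, pow_zero, map_one, mul_one, phiEv_one]
  | succ k ih =>
    rw [pow_succ, phiEv_mul, phiEv_X, ih, mul_assoc, ← map_mul, ← pow_succ']

lemma phiEv_eq_sum (g : K) (P : K[X]) (x : A) :
    phiEv ι g P x = ∑ k ∈ Finset.range (P.natDegree + 1), ι (P.coeff k) * (x * ι (g ^ k)) := by
  conv_lhs => rw [P.as_sum_range' (P.natDegree + 1) (Nat.lt_succ_self _)]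
  rw [phiEv_sum]
  exact Finset.sum_congr rfl fun k _ => phiEv_monomial ι g _ k x

lemma phiEv_comp {g : K} {σ : RingAut K} {x : A} (hx : x ∈ compSub ι σ) (P : K[X]) :
    phiEv ι g P x = ι (P.eval (σ g)) * x := by
  rw [phiEv_eq_sum, eval_eq_sum_range, map_sum, Finset.sum_mul]
  refine Finset.sum_congr rfl fun k _ => ?_
  rw [hx, map_mul, map_pow σ, mul_assoc]

/-- A generator of the multiplicative group. -/
def IsGen (g : K) : Prop := ∀ f : K, f ≠ 0 → ∃ k : ℕ, g ^ k = f

lemma exists_isGen [Finite K] : ∃ g : K, IsGen g := by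
  obtain ⟨u, hu⟩ := IsCyclic.exists_monoid_generator (α := Kˣ)
  refine ⟨u, fun f hf => ?_⟩
  obtain ⟨k, hk⟩ := Submonoid.mem_powers_iff _ _ |>.1 (hu (Units.mk0 f hf))
  exact ⟨k, by rw [← Units.val_pow_eq_pow_val, hk]; rfl⟩

lemma IsGen.aut_ext {g : K} (hg : IsGen g) {σ τ : RingAut K} (h : σ g = τ g) : σ = τ := by
  refine RingEquiv.ext fun f => ?_
  by_cases hf : f = 0
  · rw [hf, map_zero, map_zero]
  · obtain ⟨k, rfl⟩ := hg f hf
    rw [map_pow, map_pow, h]

lemma IsGen.aut_comm {g : K} (hg : IsGen g) (σ τ : RingAut K) : σ * τ = τ * σ := by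
  by_cases h0 : g = 0
  · exact hg.aut_ext (by subst h0; simp)
  refine hg.aut_ext ?_
  obtain ⟨k, hk⟩ := hg (σ g) ((map_ne_zero σ).2 h0)
  obtain ⟨l, hl⟩ := hg (τ g) ((map_ne_zero τ).2 h0)
  show σ (τ g) = τ (σ g)
  rw [← hl, ← hk, map_pow, map_pow, ← hk, ← hl, ← pow_mul, ← pow_mul, mul_comm]

lemma IsGen.mem_comp {g : K} (hg : IsGen g) {σ : RingAut K} {x : A}
    (h : x * ι g = ι (σ g) * x) : x ∈ compSub ι σ := by
  intro f
  by_cases hf : f = 0
  · simp [hf]
  obtain ⟨k, rfl⟩ := hg f hf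
  induction k with
  | zero => simp
  | succ k ih =>
    have ih' : x * ι (g ^ k) = ι (σ (g ^ k)) * x := by
      by_cases h0 : g ^ k = 0
      · simp [h0]
      · exact ih h0
    rw [pow_succ, map_mul ι, map_mul σ, map_mul ι, ← mul_assoc, ih', mul_assoc, h, mul_assoc]

lemma finite_aut [Finite K] : Finite (RingAut K) :=
  Finite.of_injective (fun σ : RingAut K => (σ : K → K))
    (fun _ _ h => RingEquiv.ext fun x => congrFun h x)

variable [Fintype (RingAut K)] [DecidableEq (RingAut K)]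

/-- The Lagrange polynomial of the node `σ g`. -/
noncomputable def nodeBasis (g : K) (σ : RingAut K) : K[X] :=
  Lagrange.basis Finset.univ (fun τ : RingAut K => τ g) σ

/-- The component of degree `σ`. -/
noncomputable def proj (g : K) (σ : RingAut K) : A →+ A :=
  AddMonoidHom.mk' (phiEv ι g (nodeBasis g σ)) (phiEv_add_right ι g _)

lemma proj_def (g : K) (σ : RingAut K) (x : A) :
    proj ι g σ x = phiEv ι g (nodeBasis g σ) x := rfl

lemma IsGen.injOn_nodes {g : K} (hg : IsGen g) :
    Set.InjOn (fun τ : RingAut K => τ g) (Finset.univ : Finset (RingAut K)) :=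
  fun _ _ _ _ h => hg.aut_ext h

lemma nodeBasis_eval {g : K} (hg : IsGen g) (σ τ : RingAut K) :
    (nodeBasis g σ).eval (τ g) = if σ = τ then 1 else 0 := by
  split_ifs with h
  · subst h
    exact Lagrange.eval_basis_self hg.injOn_nodes (Finset.mem_univ _)
  · exact Lagrange.eval_basis_of_ne (v := fun τ : RingAut K => τ g) h (Finset.mem_univ _)

lemma proj_of_comp {g : K} (hg : IsGen g) {σ τ : RingAut K} {x : A} (hx : x ∈ compSub ι τ) :
    proj ι g σ x = if σ = τ then x else 0 := by
  rw [proj_def, phiEv_comp ι hx, nodeBasis_eval hg]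
  split_ifs <;> simp

lemma sum_proj {g : K} (hg : IsGen g) (x : A) : ∑ σ, proj ι g σ x = x := by
  simp only [proj_def, nodeBasis]
  rw [← phiEv_sum, Lagrange.sum_basis hg.injOn_nodes Finset.univ_nonempty, phiEv_one]

omit [Fintype (RingAut K)] [DecidableEq (RingAut K)] in
lemma eq_natCast_of_fixed [Finite K] {p : ℕ} [Fact p.Prime] [CharP K p] {c : K}
    (h : c ^ p = c) : ∃ m : ℕ, c = (m : K) := by
  classical
  have hp := (Fact.out : p.Prime)
  set P : K[X] := X ^ p - X with hP
  have hP0 : P ≠ 0 := FiniteField.X_pow_card_sub_X_ne_zero K hp.one_lt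
  set S := (Finset.range p).image (fun m : ℕ => (m : K)) with hS
  have hScard : S.card = p := by
    rw [hS, Finset.card_image_of_injOn, Finset.card_range]
    intro a ha b hb e
    exact CharP.natCast_injOn_Iio K p (Finset.mem_range.1 ha) (Finset.mem_range.1 hb) e
  have hsub : S ⊆ P.roots.toFinset := by
    intro x hx
    obtain ⟨m, -, rfl⟩ := Finset.mem_image.1 hx
    rw [Multiset.mem_toFinset, mem_roots hP0, IsRoot.def, hP, eval_sub, eval_pow, eval_X,
      ← frobenius_def, map_natCast, sub_self]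
  have heq : S = P.roots.toFinset := by
    refine Finset.eq_of_subset_of_card_le hsub ?_
    rw [hScard]
    refine (Multiset.toFinset_card_le _).trans ((card_roots' P).trans ?_)
    rw [hP, FiniteField.X_pow_card_sub_X_natDegree_eq K hp.one_lt]
  have : c ∈ S := by
    rw [heq, Multiset.mem_toFinset, mem_roots hP0, IsRoot.def, hP, eval_sub, eval_pow, eval_X, h,
      sub_self]
  obtain ⟨m, -, hm⟩ := Finset.mem_image.1 this
  exact ⟨m, hm.symm⟩

lemma proj_mem [Finite K] {p : ℕ} [Fact p.Prime] [CharP K p] {g : K} (hg : IsGen g)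
    (σ : RingAut K) (x : A) : proj ι g σ x ∈ compSub ι σ := by
  classical
  set v : RingAut K → K := fun τ => τ g
  set N : K[X] := Lagrange.nodal Finset.univ v with hN
  have hfix : ∀ τ : RingAut K, N.map (τ : K →+* K) = N := by
    intro τ
    rw [hN, Lagrange.nodal_eq, Polynomial.map_prod]
    refine Fintype.prod_equiv (Equiv.mulLeft τ) _ _ fun ρ => ?_
    simp only [Polynomial.map_sub, map_X, map_C, v, Equiv.coe_mulLeft]
    rfl
  have hann : ∀ y : A, phiEv ι g N y = 0 := by
    intro y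
    rw [phiEv_eq_sum]
    have hcoe : ∀ k, ι (N.coeff k) * (y * ι (g ^ k)) = y * ι (N.coeff k * g ^ k) := by
      intro k
      obtain ⟨m, hm⟩ := eq_natCast_of_fixed (p := p) (c := N.coeff k) (by
        have h1 := congrArg (fun Q : K[X] => Q.coeff k) (hfix (frobeniusEquiv K p))
        simp only [coeff_map] at h1
        exact h1)
      rw [hm, map_natCast, map_mul, map_natCast, ← mul_assoc, ← mul_assoc,
        (Nat.cast_commute m y).eq]
    rw [Finset.sum_congr rfl (fun k _ => hcoe k), ← Finset.mul_sum, ← map_sum,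
      ← eval_eq_sum_range, show N.eval g = 0 from ?_, map_zero, mul_zero]
    exact Lagrange.eval_nodal_at_node (v := v) (Finset.mem_univ (1 : RingAut K))
  refine hg.mem_comp ι ?_
  have hfac : (X - C (v σ)) * nodeBasis g σ
      = C (∏ τ ∈ Finset.univ.erase σ, (v σ - v τ)⁻¹) * N := by
    rw [hN, Lagrange.nodal_eq, ← Finset.mul_prod_erase _ _ (Finset.mem_univ σ), map_prod,
      nodeBasis, Lagrange.basis]
    simp only [Lagrange.basisDivisor, Finset.prod_mul_distrib]
    ring
  have h1 : phiEv ι g ((X - C (v σ)) * nodeBasis g σ) x = 0 := by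
    rw [hfac, phiEv_mul, hann, phiEv_C, mul_zero]
  rw [phiEv_mul, phiEv_sub, phiEv_X, phiEv_C, sub_eq_zero, ← proj_def] at h1
  exact h1

/-- The symmetrised component. -/
lemma pair_eq_sum [Finite K] {p : ℕ} [Fact p.Prime] [CharP K p] {g : K} (hg : IsGen g)
    (σ : RingAut K) (ν : K) (x : A) :
    ∑ k ∈ Finset.range ((nodeBasis g σ).natDegree + 1),
        (ι (ν * (nodeBasis g σ).coeff k) * x * ι (g ^ k)
          + ι (g ^ k) * x * ι (ν * (nodeBasis g σ).coeff k))
      = ι ν * proj ι g σ x + ι (σ⁻¹ ν) * proj ι g σ⁻¹ x := by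
  classical
  rw [Finset.sum_add_distrib]
  congr 1
  · rw [proj_def, phiEv_eq_sum, Finset.mul_sum]
    exact Finset.sum_congr rfl fun k _ => by rw [map_mul]; simp only [mul_assoc]
  · set B := nodeBasis g σ with hB
    let Ψ : A →+ A := ∑ k ∈ Finset.range (B.natDegree + 1),
      (AddMonoidHom.mulLeft (ι (g ^ k))).comp (AddMonoidHom.mulRight (ι (ν * B.coeff k)))
    have hΨ : ∀ y, Ψ y = ∑ k ∈ Finset.range (B.natDegree + 1),
        ι (g ^ k) * y * ι (ν * B.coeff k) := fun y => by
      simp [Ψ, mul_assoc]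
    rw [← hΨ]
    conv_lhs => rw [← sum_proj ι hg x, map_sum]
    rw [Finset.sum_eq_single σ⁻¹ (fun τ _ hτ => ?_) (by simp)]
    all_goals rw [hΨ]
    · have hc := proj_mem ι (p := p) hg σ⁻¹ x
      rw [Finset.sum_congr rfl (fun k _ => show ι (g ^ k) * proj ι g σ⁻¹ x * ι (ν * B.coeff k)
          = ι (σ⁻¹ ν * σ⁻¹ (B.coeff k * (σ g) ^ k)) * proj ι g σ⁻¹ x by
        rw [mul_assoc, hc, ← mul_assoc, ← map_mul, map_mul σ⁻¹, map_mul σ⁻¹, map_pow σ⁻¹,
          show σ⁻¹ (σ g) = g from σ.symm_apply_apply g]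
        congr 2
        ring), ← Finset.sum_mul, ← map_sum, ← Finset.mul_sum, ← map_sum, ← eval_eq_sum_range,
        hB, nodeBasis_eval hg, if_pos rfl, map_one, mul_one]
    · have hc := proj_mem ι (p := p) hg τ x
      rw [Finset.sum_congr rfl (fun k _ => show ι (g ^ k) * proj ι g τ x * ι (ν * B.coeff k)
          = ι (τ ν * τ (B.coeff k * (τ⁻¹ g) ^ k)) * proj ι g τ x by
        rw [mul_assoc, hc, ← mul_assoc, ← map_mul, map_mul τ, map_mul τ, map_pow τ,
          show τ (τ⁻¹ g) = g from τ.apply_symm_apply g]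
        congr 2
        ring), ← Finset.sum_mul, ← map_sum, ← Finset.mul_sum, ← map_sum, ← eval_eq_sum_range,
        hB, nodeBasis_eval hg, if_neg (fun e => hτ (by rw [e, inv_inv])), map_zero, mul_zero,
        map_zero, zero_mul]

end CfsgLib.OstromWagner
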