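import Cfsg.Agent.Lib.OstromWagner.Elation

/-!
# Involutory homologies in planes of odd order
-/

namespace CfsgLib.OstromWagner

open Configuration Configuration.ProjectivePlane MulAction

variable {G P L : Type*} [Group G] [Membership P L] [MulAction G P] [MulAction G L]
  [ProjectivePlane P L] [Finite P] [Finite L] [IsColl G P L] [Finite G]

/-- `h` is an involutory homology with centre `Z` and axis `a`. -/
structure IsHom (h : G) (Z : P) (a : L) : Prop where
  sq : h * h = 1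
  ne_one : h ≠ 1
  axial : h ∈ Axial G P a
  cen : h ∈ Cen G L Z

omit [ProjectivePlane P L] [Finite P] [Finite L] [IsColl G P L] [Finite G] in
lemma IsHom.dual {h : G} {Z : P} {a : L} (hh : IsHom h Z a) :
    IsHom (P := Dual L) (L := Dual P) h a Z :=
  ⟨hh.sq, hh.ne_one, hh.cen, hh.axial⟩

omit [Finite P] [Finite L] [ProjectivePlane P L] [Finite G] in
lemma IsHom.conj {h g : G} {Z : P} {a : L} (hh : IsHom h Z a) :
    IsHom (g * h * g⁻¹) (g • Z) (g • a) := by
  refine ⟨?_, fun e => hh.ne_one (conj_eq_one_iff.1 e), ?_, ?_⟩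
  · rw [conj_mul, hh.sq, mul_one, mul_inv_cancel]
  · intro p hp
    have h1 : g⁻¹ • p ∈ a := (smul_mem_iff g (g⁻¹ • p) a).1 (by rwa [smul_inv_smul])
    rw [mul_smul, mul_smul, hh.axial _ h1, smul_inv_smul]
  · intro m hm
    have h1 : Z ∈ g⁻¹ • m := (smul_mem_iff g Z (g⁻¹ • m)).1 (by rwa [smul_inv_smul])
    rw [mul_smul, mul_smul, hh.cen _ h1, smul_inv_smul]

lemma odd_elat {k : L} (hodd : Odd (order P L)) : Odd (Nat.card (Elat G P k)) :=
  (hodd.pow).of_dvd_nat (elat_card_dvd k)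

lemma IsHom.centre_off (hodd : Odd (order P L)) {h : G} {Z : P} {a : L} (hh : IsHom h Z a) :
    Z ∉ a := by
  intro hZ
  have h1 : orderOf h = 2 :=
    orderOf_eq_prime_iff.2 ⟨by rw [pow_two, hh.sq], hh.ne_one⟩
  have h2 : orderOf h ∣ Nat.card (Elat G P a) := by
    have := orderOf_dvd_natCard (G := Elat G P a) ⟨h, mem_elat hh.axial hZ hh.cen⟩
    rwa [← Subgroup.orderOf_coe] at this
  rw [h1] at h2
  exact Nat.not_even_iff_odd.2 (odd_elat (G := G) (k := a) hodd) (even_iff_two_dvd.2 h2)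

lemma IsHom.eq_centre {h : G} {Z X : P} {a : L} (hh : IsHom h Z a) (hX : h • X = X)
    (hXa : X ∉ a) : X = Z :=
  centre_of_fixed hh.axial hh.cen hh.ne_one hXa hX

lemma IsHom.line_cases {h : G} {Z : P} {a m : L} (hh : IsHom h Z a) (hm : h • m = m) :
    m = a ∨ Z ∈ m :=
  (em (m = a)).imp id fun e => centre_on_fixed_line hh.axial hh.cen hh.ne_one hm e

lemma IsHom.centre_unique {h : G} {Z Z' : P} {a a' : L} (hh : IsHom h Z a)
    (hh' : IsHom h Z' a') : Z = Z' := by
  by_contra e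
  exact hh.ne_one (eq_one_of_two_centres e hh.cen hh'.cen)

lemma IsHom.inverts (hodd : Odd (order P L)) {h : G} {Z : P} {a : L} (hh : IsHom h Z a) {τ : G}
    (hτ : τ ∈ Elat G P a) : h * τ * h⁻¹ = τ⁻¹ := by
  have hinv : h⁻¹ = h := inv_eq_of_mul_eq_one_right hh.sq
  have hσ : ∀ x ∈ Elat G P a, h * x * h⁻¹ ∈ Elat G P a := fun x hx => by
    have := conj_mem_elat (g := h) hx
    rwa [axial_line hh.axial] at this
  have hfix : ∀ x ∈ Elat G P a, h * x * h⁻¹ = x → x = 1 := by
    intro x hx e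
    refine elat_free hx (hh.centre_off hodd) ?_
    refine hh.eq_centre ?_ fun hc => hh.centre_off hodd ((smul_mem_iff x Z a).1
      (by rw [axial_line hx.1]; exact hc))
    rw [← mul_smul, show h * x = x * h from mul_inv_eq_iff_eq_mul.1 e, mul_smul, cen_fix hh.cen]
  let f : Elat G P a → Elat G P a := fun x =>
    ⟨(x : G)⁻¹ * (h * x * h⁻¹), mul_mem (inv_mem x.2) (hσ x x.2)⟩
  have hfinj : Function.Injective f := by
    intro x y e
    have e' : (x : G)⁻¹ * (h * x * h⁻¹) = (y : G)⁻¹ * (h * y * h⁻¹) := congrArg Subtype.val e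
    refine Subtype.ext (mul_inv_eq_one.1 (hfix _ (mul_mem x.2 (inv_mem y.2)) ?_))
    calc h * ((x : G) * (y : G)⁻¹) * h⁻¹
        = x * ((x : G)⁻¹ * (h * x * h⁻¹)) * ((y : G)⁻¹ * (h * y * h⁻¹))⁻¹ * (y : G)⁻¹ := by group
      _ = x * (y : G)⁻¹ := by rw [e']; group
  obtain ⟨x, hx⟩ := (Finite.injective_iff_surjective.1 hfinj) ⟨τ, hτ⟩
  have e : τ = (x : G)⁻¹ * (h * x * h⁻¹) := (congrArg Subtype.val hx).symm
  rw [e, hinv]
  calc h * ((x : G)⁻¹ * (h * x * h)) * h = h * (x : G)⁻¹ * h * x * (h * h) := by group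
    _ = ((x : G)⁻¹ * (h * x * h))⁻¹ := by
      rw [hh.sq, mul_one, mul_inv_rev, mul_inv_rev, mul_inv_rev, inv_inv, hinv]
      group

/-- There is at most one involutory homology for a centre and an axis carrying elations. -/
lemma IsHom.unique (hodd : Odd (order P L)) {h w : G} {Z : P} {a : L} (hh : IsHom h Z a)
    (hw : IsHom w Z a) (hT : ∃ τ ∈ Elat G P a, τ ≠ 1) : h = w := by
  obtain ⟨τ, hτ, hτ1⟩ := hT
  have hinv : h⁻¹ = h := inv_eq_of_mul_eq_one_right hh.sq
  have hu : h * w * τ * (h * w)⁻¹ = τ := by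
    rw [show h * w * τ * (h * w)⁻¹ = h * (w * τ * w⁻¹) * h⁻¹ by group, hw.inverts hodd hτ,
      hh.inverts hodd (inv_mem hτ), inv_inv]
  have huZ : (h * w) • Z = Z := by rw [mul_smul, cen_fix hw.cen, cen_fix hh.cen]
  have huZ' : (h * w) • (τ • Z) = τ • Z := by
    rw [← mul_smul, mul_inv_eq_iff_eq_mul.1 hu, mul_smul, huZ]
  have hZ := hh.centre_off hodd
  have h1 : h * w = 1 := eq_one_of_axis (mul_mem hh.axial hw.axial) hZ
    (fun hc => hZ ((smul_mem_iff τ Z a).1 (by rw [axial_line hτ.1]; exact hc)))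
    (fun e => hτ1 (elat_free hτ hZ e.symm)) huZ huZ'
  exact hinv.symm.trans (inv_eq_of_mul_eq_one_right h1)

/-- If `C ∈ m` is the centre of an involutory homology whose axis meets `m` at `D` and there are
no elations in direction `C` on `m`, then all elations with axis `m` have centre `D`. -/
lemma elat_le_of_homology (hodd : Odd (order P L)) {h : G} {C D : P} {m b : L}
    (hh : IsHom h C b) (hC : C ∈ m) (hDm : D ∈ m) (hDb : D ∈ b)
    (hT : ∀ x ∈ TDir G m C, x = 1) : Elat G P m ≤ TDir G m D := by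
  intro τ hτ
  have hinv : h⁻¹ = h := inv_eq_of_mul_eq_one_right hh.sq
  have hhm : h • m = m := hh.cen m hC
  have hbm : b ≠ m := fun e => hh.centre_off hodd (e ▸ hC)
  have hσ : ∀ x ∈ Elat G P m, h * x * h⁻¹ ∈ Elat G P m := fun x hx => by
    have := conj_mem_elat (g := h) hx
    rwa [hhm] at this
  set σ : G →* G := (MulAut.conj h).toMonoidHom with hσd
  have hσv : ∀ x, σ x = h * x * h⁻¹ := fun x => rfl
  have hσσ : ∀ x, σ (σ x) = x := fun x => by
    rw [hσv, hσv, hinv]
    calc h * (h * x * h) * h = (h * h) * x * (h * h) := by group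
      _ = x := by rw [hh.sq, one_mul, mul_one]
  set x := τ * (σ τ)⁻¹ with hx
  have hxT : x ∈ Elat G P m := mul_mem hτ (inv_mem (hσ τ hτ))
  have hxi : σ x = x⁻¹ := by rw [hx, map_mul, map_inv, hσσ, mul_inv_rev, inv_inv]
  have hoddx : Odd (orderOf x) := by
    have := orderOf_dvd_natCard (G := Elat G P m) ⟨x, hxT⟩
    rw [← Subgroup.orderOf_coe] at this
    exact (odd_elat hodd).of_dvd_nat this
  obtain ⟨r, hr⟩ := hoddx
  set y := x ^ (r + 1) with hy
  have hyy : y * y = x := by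
    rw [hy, ← pow_add, show r + 1 + (r + 1) = orderOf x + 1 by omega, pow_succ, pow_orderOf_eq_one,
      one_mul]
  have hyi : σ y = y⁻¹ := by rw [hy, map_pow, hxi, inv_pow]
  have hyT : y ∈ Elat G P m := pow_mem hxT _
  have hzfix : σ (y⁻¹ * τ) = y⁻¹ * τ := by
    have h1 : σ τ = x⁻¹ * τ := by rw [hx]; group
    rw [map_mul, map_inv, hyi, h1, inv_inv, ← hyy]
    group
  have hzT : y⁻¹ * τ ∈ Elat G P m := mul_mem (inv_mem hyT) hτ
  -- the inverted part
  have hy' : y ∈ TDir G m D := by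
    obtain ⟨ha, E, hE, hyE⟩ := hyT
    by_cases hy1 : y = 1
    · rw [hy1]; exact one_mem _
    have h1 : y⁻¹ ∈ Cen G L (h • E) := by
      rw [← hyi, hσv]
      exact conj_mem_cen hyE
    have hhE : h • E = E := by
      by_contra e
      exact hy1 (eq_one_of_two_centres e (inv_mem_iff.1 h1) hyE)
    by_cases hEb : E ∈ b
    · exact ⟨ha, point_unique hbm hEb hE hDb hDm ▸ hyE⟩
    · exact absurd (hT y ⟨ha, hh.eq_centre hhE hEb ▸ hyE⟩) hy1
  -- the fixed part
  have hz' : y⁻¹ * τ ∈ TDir G m D := by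
    obtain ⟨ha, E, hE, hzE⟩ := hzT
    by_cases hz1 : y⁻¹ * τ = 1
    · rw [hz1]; exact one_mem _
    rw [hσv, mul_inv_eq_iff_eq_mul] at hzfix
    set z := y⁻¹ * τ with hz
    have hzb : z • b = b := by
      have h1 : h ∈ Axial G P (z • b) := by
        have := conj_mem_axial (g := z) hh.axial
        rwa [← hzfix, mul_inv_cancel_right] at this
      by_contra e
      exact hh.ne_one (eq_one_of_two_axes e h1 hh.axial)
    have hEb : E ∈ b := centre_on_fixed_line ha hzE hz1 hzb hbm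
    exact ⟨ha, point_unique hbm hEb hE hDb hDm ▸ hzE⟩
  have := mul_mem hy' hz'
  rwa [mul_inv_cancel_left] at this

end CfsgLib.OstromWagner
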