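import Cfsg.Agent.Lib.OstromWagner.Homology

/-!
# Planes of odd order with involutory homologies on all pairs
-/

namespace CfsgLib.OstromWagner

open Configuration Configuration.ProjectivePlane MulAction

variable {G P L : Type*} [Group G] [Membership P L] [MulAction G P] [MulAction G L]
  [ProjectivePlane P L] [Finite P] [Finite L] [IsColl G P L] [Finite G]

variable (G P L) in
/-- Every pair of points and every pair of lines is fixed by an involution, and all involutions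
are homologies. -/
structure InvSys : Prop where
  odd : Odd (order P L)
  pts : ∀ a b : P, a ≠ b → ∃ h : G, h * h = 1 ∧ h ≠ 1 ∧ h • a = a ∧ h • b = b
  lns : ∀ a b : L, a ≠ b → ∃ h : G, h * h = 1 ∧ h ≠ 1 ∧ h • a = a ∧ h • b = b
  axial : ∀ h : G, h * h = 1 → h ≠ 1 → ∃ l : L, h ∈ Axial G P l

lemma InvSys.dual (s : InvSys G P L) : InvSys G (Dual L) (Dual P) where
  odd := by rw [ProjectivePlane.Dual.order]; exact s.odd
  pts := s.lns
  lns := s.pts
  axial h h2 h1 := by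
    obtain ⟨l, hl⟩ := s.axial h h2 h1
    obtain ⟨C, hC⟩ := exists_centre hl
    exact ⟨C, hC⟩

omit [ProjectivePlane P L] [Finite P] [Finite L] [IsColl G P L] [Finite G] in
lemma isPrimePow_of_pgroup {H : Subgroup G} [Finite H] {p k : ℕ} (hp : p.Prime)
    (hH : IsPGroup p H) (hk : 2 ≤ k) (hd : k ∣ Nat.card H) : IsPrimePow k := by
  have : Fact p.Prime := ⟨hp⟩
  obtain ⟨e, he⟩ := IsPGroup.iff_card.1 hH
  obtain ⟨i, -, rfl⟩ := (Nat.dvd_prime_pow hp).1 (he ▸ hd)
  exact hp.isPrimePow.pow (by rintro rfl; simp at hk)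

lemma InvSys.homOfPts (s : InvSys G P L) {A B : P} (hAB : A ≠ B) :
    ∃ (h : G) (Z : P) (a : L), IsHom h Z a ∧ h • A = A ∧ h • B = B ∧ (A ∈ a ∨ A = Z) ∧
      (B ∈ a ∨ B = Z) := by
  obtain ⟨h, h2, h1, hA, hB⟩ := s.pts A B hAB
  obtain ⟨a, ha⟩ := s.axial h h2 h1
  obtain ⟨Z, hZ⟩ := exists_centre ha
  have hh : IsHom h Z a := ⟨h2, h1, ha, hZ⟩
  exact ⟨h, Z, a, hh, hA, hB, (em (A ∈ a)).imp id (hh.eq_centre hA),
    (em (B ∈ a)).imp id (hh.eq_centre hB)⟩

lemma InvSys.homOfLns (s : InvSys G P L) {l m : L} (hlm : l ≠ m) :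
    ∃ (h : G) (Z : P) (a : L), IsHom h Z a ∧ h • l = l ∧ h • m = m ∧ (l = a ∨ Z ∈ l) ∧
      (m = a ∨ Z ∈ m) := by
  obtain ⟨h, h2, h1, hl, hm⟩ := s.lns l m hlm
  obtain ⟨a, ha⟩ := s.axial h h2 h1
  obtain ⟨Z, hZ⟩ := exists_centre ha
  have hh : IsHom h Z a := ⟨h2, h1, ha, hZ⟩
  exact ⟨h, Z, a, hh, hl, hm, hh.line_cases hl, hh.line_cases hm⟩

/-- Either all elations with axis `a` have one centre, or `k` divides only prime powers. -/
lemma elat_dichotomy (a : L) :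
    (∃ Q, Q ∈ a ∧ Elat G P a ≤ TDir G a Q) ∨
      ∃ p : ℕ, p.Prime ∧ IsPGroup p (Elat G P a) := by
  by_cases hT : ∃ τ ∈ Elat G P a, τ ≠ 1
  · obtain ⟨τ, ⟨hτa, Q, hQ, hτQ⟩, hτ1⟩ := hT
    by_cases hall : Elat G P a ≤ TDir G a Q
    · exact Or.inl ⟨Q, hQ, hall⟩
    · obtain ⟨x, ⟨hxa, E, hE, hxE⟩, hx⟩ := SetLike.not_le_iff_exists.1 hall
      obtain ⟨p, hp, -, hpg, -⟩ := elat_elementary (C := Q) (C' := E)
        (fun e => hx ⟨hxa, e ▸ hxE⟩) hQ hE ⟨hτa, hτQ⟩ hτ1 ⟨hxa, hxE⟩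
        (fun e => hx (e ▸ one_mem _))
      exact Or.inr ⟨p, hp, hpg⟩
  · push Not at hT
    obtain ⟨Q, hQ, -⟩ := exists_meet (P := P) a a
    exact Or.inl ⟨Q, hQ, fun x hx => hT x hx ▸ one_mem _⟩

variable (G) in
/-- `a ∋ P0` carries a full one-direction elation group with centre other than `P0`. -/
def Good (P0 : P) (a : L) (Q : P) : Prop :=
  P0 ∈ a ∧ Q ∈ a ∧ Q ≠ P0 ∧ Elat G P a ≤ TDir G a Q ∧ Nat.card (Elat G P a) = order P L

omit [Finite G] in
lemma Good.conj {P0 : P} {a : L} {Q : P} (h : Good G P0 a Q) {g : G} (hg : g • P0 = P0) :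
    Good G P0 (g • a) (g • Q) := by
  obtain ⟨hP, hQ, hne, hle, hc⟩ := h
  refine ⟨hg ▸ (smul_mem_iff g P0 a).2 hP, (smul_mem_iff g Q a).2 hQ,
    fun e => hne (MulAction.injective g (e.trans hg.symm)), fun x hx => ?_, ?_⟩
  · have h1 := conj_mem_elat (g := g⁻¹) hx
    rw [inv_smul_smul] at h1
    have h2 := conj_mem_tdir (g := g) (hle h1)
    simpa [mul_assoc] using h2
  · rw [← hc]
    refine Nat.card_congr
      { toFun := fun x => ⟨g⁻¹ * x * g⁻¹⁻¹, by
          have := conj_mem_elat (g := g⁻¹) x.2; rwa [inv_smul_smul] at this⟩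
        invFun := fun x => ⟨g * x * g⁻¹, conj_mem_elat x.2⟩
        left_inv := fun x => Subtype.ext (by simp [mul_assoc])
        right_inv := fun x => Subtype.ext (by simp [mul_assoc]) }

/-- The elation group of a good line is transitive on the further lines through `P0`. -/
lemma Good.transitive {P0 : P} {a m m' : L} {Q : P} (h : Good G P0 a Q) (hm : P0 ∈ m)
    (hma : m ≠ a) (hm' : P0 ∈ m') (hm'a : m' ≠ a) : ∃ τ ∈ Elat G P a, τ • m = m' := by
  classical
  obtain ⟨hP, hQ, hne, hle, hc⟩ := h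
  set s : Set L := {l : L | P0 ∈ l} \ {a} with hs
  have hscard : s.ncard = order P L := by
    rw [hs, Set.ncard_sdiff_singleton_of_mem (show a ∈ {l : L | P0 ∈ l} from hP),
      ← Nat.card_coe_set_eq]
    have : Nat.card ↥{l : L | P0 ∈ l} = order P L + 1 := card_thru P0
    rw [this, Nat.add_sub_cancel]
  have hsub : orbit (Elat G P a) m ⊆ s := by
    rintro _ ⟨τ, rfl⟩
    exact ⟨mem_smul_of_fixed (τ.2.1 P0 hP) hm,
      fun e => hma (MulAction.injective (τ : G) (e.trans (axial_line τ.2.1).symm))⟩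
  have hstab : Elat G P a ⊓ stabilizer G m = ⊥ := by
    rw [eq_bot_iff]
    intro x hx
    by_contra hx1
    have hcm : Q ∈ m := centre_on_fixed_line (hle hx.1).1 (hle hx.1).2 hx1 hx.2 hma
    exact hne (point_unique hma hcm hQ hm hP)
  have horb := ncard_orbit_mul (Elat G P a) m
  rw [hstab, Subgroup.card_bot, mul_one, hc, ← hscard] at horb
  have heq := Set.eq_of_subset_of_ncard_le hsub horb.ge (Set.toFinite _)
  have : m' ∈ orbit (Elat G P a) m := heq ▸ ⟨hm', hm'a⟩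
  obtain ⟨τ, hτ⟩ := this
  exact ⟨τ, τ.2, hτ⟩

/-- If some point is not a centre then there are two good lines through it. -/
lemma InvSys.two_good (s : InvSys G P L) (hk : ¬ IsPrimePow (order P L)) {P0 : P}
    (hP0 : ∀ (h : G) (a : L), ¬ IsHom h P0 a) :
    ∃ (a a' : L) (Q Q' : P), a ≠ a' ∧ Good G P0 a Q ∧ Good G P0 a' Q' := by
  classical
  cases nonempty_fintype L
  set k := order P L with hk'
  have hk5 : 5 ≤ k := by
    obtain ⟨j, hj⟩ := s.odd
    have := two_le_order (P := P) (L := L)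
    by_contra hc
    have h3 : k = 3 := by omega
    exact hk (h3 ▸ Nat.prime_three.isPrimePow)
  set pen : Finset L := Finset.univ.filter fun l : L => P0 ∈ l with hpen
  have hpenc : pen.card = k + 1 := by
    rw [hpen, ← Fintype.card_subtype, ← Nat.card_eq_fintype_card, card_thru]
  let R : L → Finset L := fun a =>
    (pen.erase a).filter fun m => ∃ (h : G) (Z : P), IsHom h Z a ∧ Z ∈ m
  set S : Finset (L × L) := pen.biUnion fun a => (R a).image fun m => (a, m) with hS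
  have hcover : pen.offDiag ⊆ S ∪ S.image Prod.swap := by
    rintro ⟨l, m⟩ hlm
    simp only [Finset.mem_offDiag, hpen, Finset.mem_filter, Finset.mem_univ, true_and] at hlm
    obtain ⟨hl, hm, hne⟩ := hlm
    obtain ⟨h, Z, a, hh, -, -, hla, hma⟩ := s.homOfLns hne
    have hZP : Z ≠ P0 := fun e => hP0 h a (e ▸ hh)
    have key : ∀ {u v : L}, P0 ∈ u → P0 ∈ v → u ≠ v → u = a → Z ∈ v → (u, v) ∈ S := by
      intro u v hu hv huv e hZ
      subst e
      simp only [hS, Finset.mem_biUnion, Finset.mem_image]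
      exact ⟨u, by simp [hpen, hu], v, Finset.mem_filter.2
        ⟨Finset.mem_erase.2 ⟨huv.symm, by simp [hpen, hv]⟩, h, Z, hh, hZ⟩, rfl⟩
    rcases hla with e | e <;> rcases hma with e' | e'
    · exact absurd (e.trans e'.symm) hne
    · exact Finset.mem_union_left _ (key hl hm hne e e')
    · exact Finset.mem_union_right _
        (Finset.mem_image.2 ⟨(m, l), key hm hl hne.symm e' e, rfl⟩)
    · exact absurd (point_unique hne e e' hl hm) hZP
  have hSc : S.card ≤ ∑ a ∈ pen, (R a).card :=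
    Finset.card_biUnion_le.trans (Finset.sum_le_sum fun a _ => Finset.card_image_le)
  have hcnt : (k + 1) * k ≤ 2 * ∑ a ∈ pen, (R a).card := by
    have h1 := Finset.card_le_card hcover
    rw [Finset.offDiag_card, hpenc] at h1
    have h2 := (Finset.card_union_le S (S.image Prod.swap)).trans
      (Nat.add_le_add_left Finset.card_image_le _)
    have h3 : (k + 1) * (k + 1) - (k + 1) = (k + 1) * k := by
      rw [mul_add, mul_one, Nat.add_sub_cancel]
    omega
  have hR : ∀ a ∈ pen, (R a).card ∣ k ∨ (R a).card = 0 := by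
    intro a ha
    rw [hpen, Finset.mem_filter] at ha
    rcases Finset.eq_empty_or_nonempty (R a) with e | ⟨m₀, hm₀⟩
    · exact Or.inr (by rw [e]; rfl)
    refine Or.inl ?_
    simp only [R, Finset.mem_filter, Finset.mem_erase, hpen, Finset.mem_univ, true_and] at hm₀
    obtain ⟨⟨hm₀a, hPm₀⟩, h, Z, hh, hZm₀⟩ := hm₀
    set st : Set L := {l : L | P0 ∈ l} \ {a} with hst
    have hstc : st.ncard = k := by
      rw [hst, Set.ncard_sdiff_singleton_of_mem (show a ∈ {l : L | P0 ∈ l} from ha.2),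
        ← Nat.card_coe_set_eq]
      have : Nat.card ↥{l : L | P0 ∈ l} = order P L + 1 := card_thru P0
      rw [this, Nat.add_sub_cancel]
    have hRorb : (R a : Set L) = orbit (Elat G P a) m₀ := by
      ext m
      simp only [R, Finset.coe_filter, Finset.mem_erase, hpen, Finset.mem_filter, Finset.mem_univ,
        true_and, Set.mem_setOf_eq]
      constructor
      · rintro ⟨⟨hma, hPm⟩, h', Z', hh', hZ'm⟩
        obtain ⟨τ, hτ, hτZ⟩ := exists_elat_smul_centre (hh.centre_off s.odd)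
          (hh'.centre_off s.odd) hh.axial hh.ne_one (cen_fix hh.cen) hh'.axial hh'.ne_one
          (cen_fix hh'.cen)
        refine ⟨⟨τ, hτ⟩, ?_⟩
        show τ • m₀ = m
        exact line_unique (fun e : Z' = P0 => hP0 h' a (e ▸ hh'))
          (hτZ ▸ (smul_mem_iff τ Z m₀).2 hZm₀) (mem_smul_of_fixed (hτ.1 P0 ha.2) hPm₀) hZ'm hPm
      · rintro ⟨τ, rfl⟩
        refine ⟨⟨fun e => hm₀a (MulAction.injective (τ : G) (e.trans (axial_line τ.2.1).symm)),
          mem_smul_of_fixed (τ.2.1 P0 ha.2) hPm₀⟩, (τ : G) * h * (τ : G)⁻¹, (τ : G) • Z, ?_,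
          (smul_mem_iff (τ : G) Z m₀).2 hZm₀⟩
        have := hh.conj (g := (τ : G))
        rwa [axial_line τ.2.1] at this
    have hdvd := orbit_dvd_of_const_stab (Elat G P a) (TDir G a P0) st (fun g hg x hx =>
      ⟨mem_smul_of_fixed (hg.1 P0 ha.2) hx.1,
        fun e => hx.2 (MulAction.injective g (e.trans (axial_line hg.1).symm))⟩)
      (fun x hx => le_antisymm (fun τ hτ => ?_)
        (le_inf (tdir_le_elat ha.2) fun τ hτ => hτ.2 x hx.1))
      (x := m₀) ⟨hPm₀, hm₀a⟩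
    · rw [hstc, ← hRorb, Set.ncard_coe_finset] at hdvd
      exact hdvd
    · by_cases h1 : τ = 1
      · rw [h1]; exact one_mem _
      · obtain ⟨hτa, E, hE, hτE⟩ := hτ.1
        have hEx := centre_on_fixed_line hτa hτE h1 hτ.2 hx.2
        exact ⟨hτa, point_unique (Ne.symm hx.2) hE hEx ha.2 hx.1 ▸ hτE⟩
  set N := (pen.filter fun a => (R a).card = k).card with hN
  have hbound : ∀ a ∈ pen, 3 * (R a).card ≤ k + if (R a).card = k then 2 * k else 0 := by
    intro a ha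
    split_ifs with e
    · omega
    rcases hR a ha with ⟨c, hc⟩ | h0
    · have hodd := Nat.odd_mul.1 (hc ▸ s.odd : Odd ((R a).card * c))
      obtain ⟨j, rfl⟩ := hodd.2
      rcases j with _ | j
      · exact absurd (by rw [hc]; simp) e
      · calc 3 * (R a).card ≤ (2 * (j + 1) + 1) * (R a).card :=
            Nat.mul_le_mul_right _ (by omega)
          _ = k + 0 := by rw [hc, mul_comm, add_zero]
    · omega
  have hN2 : 2 ≤ N := by
    have h1 := Finset.sum_le_sum hbound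
    rw [← Finset.mul_sum, Finset.sum_add_distrib, Finset.sum_const, hpenc, ← Finset.sum_filter,
      Finset.sum_const, ← hN, smul_eq_mul, smul_eq_mul] at h1
    by_contra hc
    have h4 : N * (2 * k) ≤ 1 * (2 * k) := Nat.mul_le_mul_right _ (by omega)
    nlinarith
  obtain ⟨a, ha, a', ha', hne⟩ := Finset.one_lt_card.1 (show 1 < (pen.filter fun a =>
    (R a).card = k).card from hN2)
  have hgood : ∀ a ∈ pen.filter (fun a => (R a).card = k), ∃ Q, Good G P0 a Q := by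
    intro a ha
    rw [Finset.mem_filter, hpen, Finset.mem_filter] at ha
    obtain ⟨⟨-, hPa⟩, hRk⟩ := ha
    have hkd : k ∣ Nat.card (Elat G P a) := by
      obtain ⟨m₀, hm₀⟩ := Finset.card_pos.1 (show 0 < (R a).card by omega)
      have hm₀' := hm₀
      simp only [R, Finset.mem_filter, Finset.mem_erase, hpen, Finset.mem_univ, true_and] at hm₀'
      obtain ⟨⟨hm₀a, hPm₀⟩, h, Z, hh, hZm₀⟩ := hm₀'
      have hsub : (R a : Set L) ⊆ orbit (Elat G P a) m₀ := by
        intro m hm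
        simp only [R, Finset.coe_filter, Finset.mem_erase, hpen, Finset.mem_filter,
          Finset.mem_univ, true_and, Set.mem_setOf_eq] at hm
        obtain ⟨⟨hma, hPm⟩, h', Z', hh', hZ'm⟩ := hm
        obtain ⟨τ, hτ, hτZ⟩ := exists_elat_smul_centre (hh.centre_off s.odd)
          (hh'.centre_off s.odd) hh.axial hh.ne_one (cen_fix hh.cen) hh'.axial hh'.ne_one
          (cen_fix hh'.cen)
        refine ⟨⟨τ, hτ⟩, ?_⟩
        show τ • m₀ = m
        exact line_unique (fun e : Z' = P0 => hP0 h' a (e ▸ hh'))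
          (hτZ ▸ (smul_mem_iff τ Z m₀).2 hZm₀) (mem_smul_of_fixed (hτ.1 P0 hPa) hPm₀) hZ'm hPm
      have h1 := Set.ncard_le_ncard hsub (Set.toFinite _)
      rw [Set.ncard_coe_finset, hRk] at h1
      have h2 : orbit (Elat G P a) m₀ ⊆ {l : L | P0 ∈ l} \ {a} := by
        rintro _ ⟨τ, rfl⟩
        exact ⟨mem_smul_of_fixed (τ.2.1 P0 hPa) hPm₀,
          fun e => hm₀a (MulAction.injective (τ : G) (e.trans (axial_line τ.2.1).symm))⟩
      have h3 := Set.ncard_le_ncard h2 (Set.toFinite _)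
      rw [Set.ncard_sdiff_singleton_of_mem (show a ∈ {l : L | P0 ∈ l} from hPa),
        ← Nat.card_coe_set_eq (s := {l : L | P0 ∈ l})] at h3
      have h4 : Nat.card ↥{l : L | P0 ∈ l} = order P L + 1 := card_thru P0
      rw [h4, Nat.add_sub_cancel] at h3
      exact ⟨_, by rw [← ncard_orbit_mul (Elat G P a) m₀, le_antisymm h3 h1]⟩
    rcases elat_dichotomy (G := G) (P := P) a with ⟨Q, hQ, hle⟩ | ⟨p, hp, hpg⟩
    · have hcard : Nat.card (Elat G P a) = k := by
        refine Nat.dvd_antisymm ?_ hkd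
        exact (Subgroup.card_dvd_of_le hle).trans (tdir_card_dvd hQ)
      refine ⟨Q, hPa, hQ, fun e => ?_, hle, hcard⟩
      -- otherwise the elations fix all lines through `P0`
      subst e
      obtain ⟨m₀, hm₀⟩ := Finset.card_pos.1 (show 0 < (R a).card by omega)
      obtain ⟨m₁, hm₁, hne₁⟩ := Finset.exists_mem_ne (show 1 < (R a).card by omega) m₀
      simp only [R, Finset.mem_filter, Finset.mem_erase, hpen, Finset.mem_univ, true_and]
        at hm₀ hm₁
      obtain ⟨⟨hm₀a, hPm₀⟩, h, Z, hh, hZm₀⟩ := hm₀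
      obtain ⟨⟨hm₁a, hPm₁⟩, h', Z', hh', hZ'm⟩ := hm₁
      obtain ⟨τ, hτ, hτZ⟩ := exists_elat_smul_centre (hh.centre_off s.odd)
        (hh'.centre_off s.odd) hh.axial hh.ne_one (cen_fix hh.cen) hh'.axial hh'.ne_one
        (cen_fix hh'.cen)
      refine hne₁ (line_unique (fun e : Z' = Q => hP0 h' a (e ▸ hh')) hZ'm hPm₁ ?_ hPm₀)
      rw [← (hle hτ).2 m₀ hPm₀, ← hτZ]
      exact (smul_mem_iff τ Z m₀).2 hZm₀
    · exact absurd (isPrimePow_of_pgroup hp hpg (by omega) hkd) hk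
  obtain ⟨Q, hQ⟩ := hgood a ha
  obtain ⟨Q', hQ'⟩ := hgood a' ha'
  exact ⟨a, a', Q, Q', hne, hQ, hQ'⟩

/-- In a plane of odd order not a prime power every point is a centre. -/
lemma InvSys.all_centres (s : InvSys G P L) (hk : ¬ IsPrimePow (order P L)) (P0 : P) :
    ∃ (h : G) (a : L), IsHom h P0 a := by
  classical
  by_contra hP0
  push Not at hP0
  obtain ⟨a₁, a₂, Q₁, Q₂, h12, hg1, hg2⟩ := s.two_good hk hP0
  have hQ12 : Q₁ ≠ Q₂ := fun e => hg1.2.2.1 (point_unique h12 hg1.2.1 (e ▸ hg2.2.1) hg1.1 hg2.1)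
  obtain ⟨M, hQ1M, hQ2M⟩ := exists_line_through (L := L) Q₁ Q₂
  have hPM : P0 ∉ M := fun hc => h12 ((line_unique hg1.2.2.1 hg1.2.1 hg1.1 hQ1M hc).trans
    (line_unique hg2.2.2.1 hg2.2.1 hg2.1 hQ2M hc).symm)
  -- every line `ax Q` is good with centre `Q`
  choose ax haxP haxQ using fun Q : P => exists_line_through (L := L) P0 Q
  have hgood : ∀ Q ∈ M, Good G P0 (ax Q) Q := by
    intro Q hQ
    have hQP : P0 ≠ Q := fun e => hPM (e ▸ hQ)
    by_cases h1 : ax Q = a₁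
    · have : Q₁ = Q := point_unique (fun e : a₁ = M => hPM (e ▸ hg1.1)) hg1.2.1 hQ1M
        (h1 ▸ haxQ Q) hQ
      rw [h1, ← this]
      exact hg1
    obtain ⟨τ, hτ, hτa⟩ := hg1.transitive hg2.1 h12.symm (haxP Q) h1
    have h2 := hg2.conj (hτ.1 P0 hg1.1)
    rw [hτa] at h2
    have h3 : τ • Q₂ ∈ M := smul_mem_of_fixed ((hg1.2.2.2.1 hτ).2 M hQ1M) hQ2M
    have : τ • Q₂ = Q := point_unique (fun e : ax Q = M => hPM (e ▸ haxP Q)) h2.2.1 h3 (haxQ Q) hQ
    rwa [this] at h2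
  have hnontriv : ∀ Q ∈ M, ∃ τ ∈ TDir G (ax Q) Q, τ ≠ 1 := by
    intro Q hQ
    obtain ⟨-, -, -, hle, hc⟩ := hgood Q hQ
    have : 1 < Nat.card (Elat G P (ax Q)) := by rw [hc]; exact two_le_order
    have := Finite.one_lt_card_iff_nontrivial.1 this
    obtain ⟨⟨τ, hτ⟩, hτ1⟩ := exists_ne (1 : Elat G P (ax Q))
    exact ⟨τ, hle hτ, fun e => hτ1 (Subtype.ext e)⟩
  -- uniqueness of the elation axis
  have huniq : ∀ Q ∈ M, ∀ (b : L) (x : G), Q ∈ b → x ∈ TDir G b Q → x ≠ 1 → b = ax Q := by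
    intro Q hQ b x hQb hx hx1
    by_contra hne
    obtain ⟨τ, hτ, hτ1⟩ := hnontriv Q hQ
    obtain ⟨p, hp, -, hpg, -⟩ := elat_elementary (G := G) (P := Dual L) (L := Dual P) (l := Q)
      (C := ax Q) (C' := b) (Ne.symm hne) (haxQ Q) hQb (g := τ) ⟨hτ.2, hτ.1⟩ hτ1 (h := x)
      ⟨hx.2, hx.1⟩ hx1
    refine hk (isPrimePow_of_pgroup hp hpg two_le_order ?_)
    rw [← (hgood Q hQ).2.2.2.2]
    exact Subgroup.card_dvd_of_le fun y hy =>
      mem_elat (P := Dual L) (L := Dual P) ((hgood Q hQ).2.2.2.1 hy).2 (haxQ Q) hy.1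
  have hfixax : ∀ Q ∈ M, ∀ g : G, g • Q = Q → g • ax Q = ax Q := by
    intro Q hQ g hg
    obtain ⟨τ, hτ, hτ1⟩ := hnontriv Q hQ
    have h1 := conj_mem_tdir (g := g) hτ
    rw [hg] at h1
    refine huniq Q hQ _ _ ?_ h1 (fun e => hτ1 (conj_eq_one_iff.1 e))
    exact mem_smul_of_fixed hg (haxQ Q)
  have haxne : ∀ Q ∈ M, ∀ Q' ∈ M, Q ≠ Q' → ax Q ≠ ax Q' := fun Q hQ Q' hQ' hne e =>
    hne (point_unique (fun e' : ax Q = M => hPM (e' ▸ haxP Q)) (haxQ Q) hQ (e ▸ haxQ Q') hQ')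
  -- pairs of points of `M`
  have hpair : ∀ Q ∈ M, ∀ Q' ∈ M, Q ≠ Q' →
      (∃ h : G, IsHom h Q (ax Q')) ∨ ∃ h : G, IsHom h Q' (ax Q) := by
    intro Q hQ Q' hQ' hne
    obtain ⟨h, Z, a, hh, hhQ, hhQ', hQa, hQ'a⟩ := s.homOfPts hne
    have hP : h • P0 = P0 := point_fixed (haxne Q hQ Q' hQ' hne) (hfixax Q hQ h hhQ)
      (hfixax Q' hQ' h hhQ') (haxP Q) (haxP Q')
    have hPa : P0 ∈ a := by
      by_contra hc
      exact hP0 h a (hh.eq_centre hP hc ▸ hh)
    rcases hQa with hQa | e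
    · rcases hQ'a with hQ'a | e'
      · exact absurd (line_unique hne hQ hQ' hQa hQ'a ▸ hPa) hPM
      · subst e'
        exact Or.inr ⟨h, line_unique (fun e : P0 = Q => hPM (e ▸ hQ)) hPa hQa (haxP Q) (haxQ Q)
          ▸ hh⟩
    · rcases hQ'a with hQ'a | e'
      · subst e
        exact Or.inl ⟨h, line_unique (fun e : P0 = Q' => hPM (e ▸ hQ')) hPa hQ'a (haxP Q')
          (haxQ Q') ▸ hh⟩
      · exact absurd (e.trans e'.symm) hne
  -- centres of `ax Q'` fill `M`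
  have hfill : ∀ Q ∈ M, ∀ Q' ∈ M, Q ≠ Q' → (∃ h : G, IsHom h Q (ax Q')) →
      ∀ X ∈ M, X ≠ Q' → ∃ h : G, IsHom h X (ax Q') := by
    intro Q hQ Q' hQ' hne ⟨h, hh⟩ X hX hXQ
    obtain ⟨-, -, -, hle, hc⟩ := hgood Q' hQ'
    set st : Set P := {p : P | p ∈ M} \ {Q'} with hst
    have hstc : st.ncard = order P L := by
      rw [hst, Set.ncard_sdiff_singleton_of_mem (show Q' ∈ {p : P | p ∈ M} from hQ'),
        ← Nat.card_coe_set_eq]
      have : Nat.card ↥{p : P | p ∈ M} = order P L + 1 := card_on M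
      rw [this, Nat.add_sub_cancel]
    have hQoff : Q ∉ ax Q' := hh.centre_off s.odd
    have hsub : orbit (Elat G P (ax Q')) Q ⊆ st := by
      rintro _ ⟨τ, rfl⟩
      refine ⟨show (τ : G) • Q ∈ M from smul_mem_of_fixed ((hle τ.2).2 M hQ') hQ,
        fun e => hne ?_⟩
      exact MulAction.injective (τ : G) (e.trans (τ.2.1 Q' (haxQ Q')).symm)
    have hstab : Elat G P (ax Q') ⊓ stabilizer G Q = ⊥ := by
      rw [eq_bot_iff]
      exact fun x hx => elat_free hx.1 hQoff hx.2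
    have horb := ncard_orbit_mul (Elat G P (ax Q')) Q
    rw [hstab, Subgroup.card_bot, mul_one, hc, ← hstc] at horb
    have heq := Set.eq_of_subset_of_ncard_le hsub horb.ge (Set.toFinite _)
    have : X ∈ orbit (Elat G P (ax Q')) Q := heq ▸ ⟨hX, hXQ⟩
    obtain ⟨τ, hτ⟩ := this
    have h1 := hh.conj (g := (τ : G))
    rw [axial_line τ.2.1, show (τ : G) • Q = X from hτ] at h1
    exact ⟨_, h1⟩
  have hall : ∀ Q ∈ M, ∀ Q' ∈ M, Q ≠ Q' → ∃ h : G, IsHom h Q (ax Q') := by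
    intro Q hQ Q' hQ' hne
    obtain ⟨B, hB, A, hA, hAB, hex⟩ : ∃ B ∈ M, ∃ A ∈ M, A ≠ B ∧ ∃ h : G, IsHom h A (ax B) := by
      rcases hpair Q₁ hQ1M Q₂ hQ2M hQ12 with h | h
      · exact ⟨Q₂, hQ2M, Q₁, hQ1M, hQ12, h⟩
      · exact ⟨Q₁, hQ1M, Q₂, hQ2M, hQ12.symm, h⟩
    by_cases e : Q' = B
    · subst e
      exact hfill A hA Q' hQ' hAB hex Q hQ hne
    obtain ⟨C, hCM, hCB, hCQ⟩ := exists_ne_ne_on B Q' M
    -- an elation with axis `ax C` moves `B` to `Q'`
    obtain ⟨τ, hτ, hτax⟩ := (hgood C hCM).transitive (haxP B) (haxne B hB C hCM hCB.symm)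
      (haxP Q') (haxne Q' hQ' C hCM hCQ.symm)
    have hτM : τ • M = M := ((hgood C hCM).2.2.2.1 hτ).2 M hCM
    obtain ⟨h, hh⟩ := hex
    have h1 := hh.conj (g := τ)
    rw [hτax] at h1
    exact hfill _ (smul_mem_of_fixed hτM hA) Q' hQ' (fun e' => h1.centre_off s.odd (e' ▸ haxQ Q'))
      ⟨_, h1⟩ Q hQ hne
  -- two homologies generate a contradiction
  obtain ⟨h, hh⟩ := hall Q₁ hQ1M Q₂ hQ2M hQ12
  obtain ⟨h', hh'⟩ := hall Q₂ hQ2M Q₁ hQ1M hQ12.symm
  have hhh : h ≠ h' := fun e => hQ12 (hh.centre_unique (e ▸ hh'))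
  have hfix : ∀ x ∈ Subgroup.closure {h, h'}, x • Q₁ = Q₁ ∧ x • Q₂ = Q₂ := by
    intro x hx
    induction hx using Subgroup.closure_induction with
    | mem x hx =>
      rcases hx with rfl | rfl
      · exact ⟨cen_fix hh.cen, hh.axial Q₂ (haxQ Q₂)⟩
      · exact ⟨hh'.axial Q₁ (haxQ Q₁), cen_fix hh'.cen⟩
    | one => exact ⟨one_smul _ _, one_smul _ _⟩
    | mul x y _ _ hx hy => exact ⟨by rw [mul_smul, hy.1, hx.1], by rw [mul_smul, hy.2, hx.2]⟩
    | inv x _ hx => exact ⟨inv_smul_eq_iff.2 hx.1.symm, inv_smul_eq_iff.2 hx.2.symm⟩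
  rcases involution_pair hh.sq hh'.sq hh.ne_one hh'.ne_one hhh with
    ⟨x, hx, hxe⟩ | ⟨w, hw, hw2, hw1, hwh, hwh', -, -⟩
  · have h1 := (hh.conj (g := x))
    rw [hxe, (hfix x hx).1] at h1
    exact hQ12 (h1.centre_unique hh')
  · obtain ⟨a, ha⟩ := s.axial w hw2 hw1
    obtain ⟨Z, hZ⟩ := exists_centre ha
    have hwH : IsHom w Z a := ⟨hw2, hw1, ha, hZ⟩
    obtain ⟨hw₁, hw₂⟩ := hfix w hw
    have hP : w • P0 = P0 := point_fixed (haxne Q₁ hQ1M Q₂ hQ2M hQ12)
      (hfixax Q₁ hQ1M w hw₁) (hfixax Q₂ hQ2M w hw₂) (haxP Q₁) (haxP Q₂)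
    have hPa : P0 ∈ a := by
      by_contra hc
      exact hP0 w a (hwH.eq_centre hP hc ▸ hwH)
    have hnt : ∀ Q ∈ M, ∃ τ ∈ Elat G P (ax Q), τ ≠ 1 := fun Q hQ => by
      obtain ⟨τ, hτ, hτ1⟩ := hnontriv Q hQ
      exact ⟨τ, tdir_le_elat (haxQ Q) hτ, hτ1⟩
    by_cases h1a : Q₁ ∈ a
    · by_cases h2a : Q₂ ∈ a
      · exact hPM (line_unique hQ12 hQ1M hQ2M h1a h2a ▸ hPa)
      · have e := hwH.eq_centre hw₂ h2a
        have ea : a = ax Q₁ := line_unique (fun e : P0 = Q₁ => hPM (e ▸ hQ1M)) hPa h1a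
          (haxP Q₁) (haxQ Q₁)
        exact hwh' ((ea ▸ e ▸ hwH : IsHom w Q₂ (ax Q₁)).unique s.odd hh' (hnt Q₁ hQ1M))
    · have e := hwH.eq_centre hw₁ h1a
      have h2a : Q₂ ∈ a := by
        by_contra h2a
        exact hQ12 (e.trans (hwH.eq_centre hw₂ h2a).symm)
      have ea : a = ax Q₂ := line_unique (fun e : P0 = Q₂ => hPM (e ▸ hQ2M)) hPa h2a
        (haxP Q₂) (haxQ Q₂)
      exact hwh ((ea ▸ e ▸ hwH : IsHom w Q₁ (ax Q₂)).unique s.odd hh (hnt Q₂ hQ2M))

/-- A matrix argument excludes a polarity without absolute points. -/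
lemma no_null_polarity {k : ℕ} (hk : 2 ≤ k) (hkP : order P L = k) (π : P → L)
    (hπ : Function.Bijective π) (habs : ∀ X, X ∉ π X) (hsym : ∀ X Y, X ∈ π Y → Y ∈ π X) :
    False := by
  classical
  cases nonempty_fintype P
  obtain ⟨p, hp, hpk⟩ := Nat.exists_prime_and_dvd (show k ≠ 1 by omega)
  have : Fact p.Prime := ⟨hp⟩
  set A : Matrix P P (ZMod p) := fun X Y => if Y ∈ π X then 1 else 0 with hA
  set J : Matrix P P (ZMod p) := fun _ _ => 1 with hJ
  have hk0 : (k : ZMod p) = 0 := (ZMod.natCast_eq_zero_iff k p).2 hpk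
  have hrow : ∀ X, (Finset.univ.filter fun R => R ∈ π X).card = k + 1 := fun X => by
    rw [← Fintype.card_subtype, ← Nat.card_eq_fintype_card, card_on, hkP]
  have hcolsum : ∀ X, ((Finset.univ.filter fun R => R ∈ π X).card : ZMod p) = 1 := fun X => by
    rw [hrow, Nat.cast_add, hk0, zero_add, Nat.cast_one]
  have hA2 : A * A = J := by
    ext X Y
    rw [Matrix.mul_apply]
    simp only [hA, hJ, mul_ite, mul_one, mul_zero, ← ite_and]
    rw [Finset.sum_boole]
    by_cases e : X = Y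
    · subst e
      convert hcolsum X using 3
      exact Finset.filter_congr fun R _ => ⟨fun h => h.2, fun h => ⟨hsym _ _ h, h⟩⟩
    · obtain ⟨R, hR1, hR2⟩ := exists_meet (P := P) (π X) (π Y)
      have : (Finset.univ.filter fun R => Y ∈ π R ∧ R ∈ π X) = {R} := by
        ext S
        simp only [Finset.mem_filter, Finset.mem_univ, true_and, Finset.mem_singleton]
        exact ⟨fun h => point_unique (fun h' => e (hπ.1 h')) h.2 (hsym _ _ h.1) hR1 hR2,
          fun h => h ▸ ⟨hsym _ _ hR2, hR1⟩⟩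
      rw [this]
      simp
  have hAJ : A * J = J := by
    ext X Y
    rw [Matrix.mul_apply]
    simp only [hA, hJ, mul_one]
    rw [Finset.sum_boole]
    exact hcolsum X
  have hpow : ∀ m, A ^ (m + 2) = J := by
    intro m
    induction m with
    | zero => rw [pow_two, hA2]
    | succ m ih => rw [pow_succ', ih, hAJ]
  obtain ⟨m, hm⟩ := Nat.exists_eq_add_of_le' hp.two_le
  have h1 := ZMod.trace_pow_card A
  have hAp : A ^ p = J := by
    have := hpow m
    rwa [← hm] at this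
  rw [hAp] at h1
  have h2 : A.trace = 0 := by
    rw [Matrix.trace]
    refine Finset.sum_eq_zero fun X _ => ?_
    rw [Matrix.diag_apply, hA]
    exact if_neg (habs X)
  rw [h2, zero_pow hp.ne_zero] at h1
  have h3 : J.trace = 1 := by
    rw [Matrix.trace, show (∑ X, Matrix.diag J X) = ∑ _X : P, (1 : ZMod p) from rfl,
      Finset.sum_const, Finset.card_univ, nsmul_eq_mul, mul_one]
    rw [← Nat.card_eq_fintype_card, card_pts (L := L), hkP]
    push_cast
    rw [hk0]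
    ring
  exact one_ne_zero (h3.symm.trans h1)

end CfsgLib.OstromWagner
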