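import Cfsg.Agent.Lib.OstromWagner.Coll

/-!
# Involutions, Baer subplanes and orders of fixed planes
-/

namespace CfsgLib.OstromWagner

open Configuration Configuration.ProjectivePlane

variable {G P L : Type*} [Group G] [Membership P L] [MulAction G P] [MulAction G L]
  [ProjectivePlane P L] [Finite P] [Finite L] [IsColl G P L]

lemma exists_two_fixed (L : Type*) [Membership P L] [MulAction G L] [ProjectivePlane P L]
    [Finite L] [IsColl G P L] {t : G} (ht : t * t = 1) : ∃ A B : P, A ≠ B ∧ t • A = A ∧ t • B = B := by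
  have : Fact (Nat.Prime 2) := ⟨Nat.prime_two⟩
  have hpg : IsPGroup 2 (Subgroup.zpowers t) := by
    rintro ⟨g, hg⟩
    obtain ⟨i, rfl⟩ := Subgroup.mem_zpowers_iff.1 hg
    refine ⟨1, Subtype.ext ?_⟩
    push_cast
    rw [← zpow_natCast, zpow_comm]
    simp [pow_two, ht]
  have hodd : ¬ 2 ∣ Nat.card P := by
    rw [card_pts (L := L)]
    intro hd
    have he : Even (order P L ^ 2 + order P L + 1) := even_iff_two_dvd.2 hd
    simp [parity_simps] at he
  obtain ⟨O, hO⟩ := hpg.nonempty_fixed_point_of_prime_not_dvd_card P hodd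
  have hOt : t • O = O := hO ⟨t, Subgroup.mem_zpowers t⟩
  by_contra hc
  push Not at hc
  have huniq : ∀ A : P, t • A = A → A = O := fun A hA => by
    by_contra h
    exact hc A O h hA hOt
  -- there is exactly one fixed line
  have h1 : Nat.card {p : P // t • p = p} = 1 := by
    rw [Nat.card_eq_one_iff_exists]
    exact ⟨⟨O, hOt⟩, fun y => Subtype.ext (huniq _ y.2)⟩
  have h2 : Nat.card {l : L // t • l = l} = 1 := by rw [← fix_card_eq (P := P), h1]
  obtain ⟨⟨m, hm⟩, hmu⟩ := Nat.card_eq_one_iff_exists.1 h2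
  obtain ⟨p, hpm, hpO⟩ : ∃ p : P, p ∉ m ∧ p ≠ O := by
    by_contra h
    push Not at h
    have : Subsingleton {p : P // p ∉ m} :=
      ⟨fun a b => Subtype.ext ((h _ a.2).trans (h _ b.2).symm)⟩
    have h3 := Finite.card_le_one_iff_subsingleton.2 this
    rw [card_off] at h3
    have := two_le_order (P := P) (L := L)
    nlinarith
  obtain ⟨l, hpl, htl⟩ := exists_line_through (L := L) p (t • p)
  have htp : t • p ≠ p := fun h => hpO (huniq p h)
  have hl : t • l = l := by
    refine line_unique htp.symm ?_ ?_ hpl htl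
    · have := (smul_mem_iff t (t • p) l).2 htl
      rwa [← mul_smul, ht, one_smul] at this
    · exact (smul_mem_iff t p l).2 hpl
  have hlm : l = m := congrArg Subtype.val (hmu ⟨l, hl⟩)
  exact hpm (hlm ▸ hpl)

omit [ProjectivePlane P L] [Finite P] [Finite L] in
lemma swap_line_fixed [ProjectivePlane P L] {t : G} (ht : t * t = 1) {p : P} {l : L}
    (hp : t • p ≠ p) (hpl : p ∈ l) (htl : t • p ∈ l) : t • l = l := by
  refine line_unique hp.symm ?_ ?_ hpl htl
  · have := (smul_mem_iff t (t • p) l).2 htl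
    rwa [← mul_smul, ht, one_smul] at this
  · exact (smul_mem_iff t p l).2 hpl

/-- An involution without a configuration fixes a line pointwise. -/
lemma involution_axis {t : G} (ht : t * t = 1) (hc : ¬ HasConfig P L (Subgroup.zpowers t)) :
    ∃ l : L, ∀ p ∈ l, t • p = p := by
  classical
  cases nonempty_fintype P
  cases nonempty_fintype L
  obtain ⟨A, B, hAB, hA, hB⟩ := exists_two_fixed (P := P) L ht
  obtain ⟨j, R, hj, hshape⟩ :=
    fix_shape_of_not_config hc (isFix_zpowers.2 hA) (isFix_zpowers.2 hB) hAB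
  have hjt : t • j = j := isFix_zpowers.1 hj
  refine ⟨j, fun Q hQ => ?_⟩
  by_contra hQt
  set n := order P L with hn
  have htQ : t • Q ∈ j := smul_mem_of_fixed hjt hQ
  have htQt : t • (t • Q) ≠ t • Q := fun h => hQt (MulAction.injective t h)
  -- fixed points
  set J := Finset.univ.filter fun p : P => p ∈ j with hJ
  have hJc : J.card = n + 1 := by
    rw [hJ, ← Fintype.card_subtype, ← Nat.card_eq_fintype_card, card_on]
  set FP := Finset.univ.filter fun p : P => t • p = p with hFP
  set FL := Finset.univ.filter fun l : L => t • l = l with hFL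
  have hFPn : FP.card ≤ n := by
    have hsub : FP ⊆ insert R ((J.erase Q).erase (t • Q)) := by
      intro p hp
      rw [hFP, Finset.mem_filter] at hp
      rcases hshape p (isFix_zpowers.2 hp.2) with h | h
      · refine Finset.mem_insert_of_mem (Finset.mem_erase.2 ⟨?_, Finset.mem_erase.2 ⟨?_, ?_⟩⟩)
        · intro e; exact htQt (e ▸ hp.2)
        · intro e; exact hQt (e ▸ hp.2)
        · simp [hJ, h]
      · exact h ▸ Finset.mem_insert_self _ _
    have h1 := Finset.card_le_card hsub
    have h2 := Finset.card_insert_le R ((J.erase Q).erase (t • Q))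
    rw [Finset.card_erase_of_mem, Finset.card_erase_of_mem, hJc] at h2
    · have := two_le_order (P := P) (L := L)
      omega
    · simp [hJ, hQ]
    · exact Finset.mem_erase.2 ⟨hQt, by simp [hJ, htQ]⟩
  have hFLn : FL.card ≤ n := by
    have := fix_card_eq (P := P) (L := L) t
    rw [Nat.card_eq_fintype_card, Nat.card_eq_fintype_card, Fintype.card_subtype,
      Fintype.card_subtype] at this
    exact this ▸ hFPn
  have hjFL : j ∈ FL := by simp [hFL, hjt]
  set O := Finset.univ.filter fun p : P => p ∉ j with hO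
  have hOc : O.card = n ^ 2 := by
    rw [hO, ← Fintype.card_subtype, ← Nat.card_eq_fintype_card, card_off]
  -- every point off `j` other than `R` lies on a further fixed line
  have hcov : O.erase R ⊆ (FL.erase j).biUnion fun l => O.filter fun p => p ∈ l := by
    intro p hp
    rw [Finset.mem_erase, hO, Finset.mem_filter] at hp
    obtain ⟨hpR, -, hpj⟩ := hp
    have htp : t • p ≠ p := fun h => by
      rcases hshape p (isFix_zpowers.2 h) with h' | h'
      · exact hpj h'
      · exact hpR h'
    obtain ⟨l, hpl, htl⟩ := exists_line_through (L := L) p (t • p)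
    simp only [Finset.mem_biUnion, Finset.mem_erase, hFL, hO, Finset.mem_filter, Finset.mem_univ,
      true_and]
    exact ⟨l, ⟨fun e => hpj (e ▸ hpl), swap_line_fixed ht htp hpl htl⟩, hpj, hpl⟩
  have hline : ∀ l ∈ FL.erase j, (O.filter fun p => p ∈ l).card ≤ n := by
    intro l hl
    obtain ⟨hlj, -⟩ := Finset.mem_erase.1 hl
    obtain ⟨D, hDl, hDj⟩ := exists_meet (P := P) l j
    have hsub : O.filter (fun p => p ∈ l) ⊆ (Finset.univ.filter fun p : P => p ∈ l).erase D := by
      intro p hp
      simp only [hO, Finset.mem_filter, Finset.mem_univ, true_and] at hp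
      exact Finset.mem_erase.2 ⟨fun e => hp.1 (e ▸ hDj), by simp [hp.2]⟩
    refine (Finset.card_le_card hsub).trans ?_
    rw [Finset.card_erase_of_mem (by simp [hDl]), ← Fintype.card_subtype,
      ← Nat.card_eq_fintype_card, card_on]
    omega
  have h1 := (Finset.card_le_card hcov).trans (Finset.card_biUnion_le_card_mul _ _ _ hline)
  have h2 := Finset.pred_card_le_card_erase (s := O) (a := R)
  rw [Finset.card_erase_of_mem hjFL] at h1
  have h3 : (FL.card - 1) * n ≤ (n - 1) * n := Nat.mul_le_mul_right n (Nat.sub_le_sub_right hFLn 1)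
  have := two_le_order (P := P) (L := L)
  rw [Nat.sub_mul, Nat.sub_mul, one_mul] at h3
  rw [Nat.sub_mul, one_mul] at h1
  rw [hOc, pow_two] at h2
  have h4 : n * 2 ≤ n * n := Nat.mul_le_mul_left n this
  omega

variable (P L) in
/-- The fixed plane of `U` has order `k`. -/
structure IsFixOrder (U : Subgroup G) (k : ℕ) : Prop where
  two_le : 2 ≤ k
  card_P : {p : P | IsFix U p}.ncard = k ^ 2 + k + 1
  card_L : {l : L | IsFix U l}.ncard = k ^ 2 + k + 1
  card_onLine : ∀ l : L, IsFix U l → {p : P | IsFix U p ∧ p ∈ l}.ncard = k + 1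

lemma HasConfig.exists_order {U : Subgroup G} (h : HasConfig P L U) :
    ∃ k, IsFixOrder P L U k := by
  letI := fxPlane U h
  refine ⟨order (Fx U P) (Fx U L), two_le_order, ?_, ?_, fun l hl => ?_⟩
  · rw [← Nat.card_coe_set_eq]
    exact card_pts (P := Fx U P) (L := Fx U L)
  · rw [← Nat.card_coe_set_eq]
    exact card_lns (P := Fx U P) (L := Fx U L)
  · rw [← card_on (P := Fx U P) (⟨l, hl⟩ : Fx U L), ← Nat.card_coe_set_eq]
    exact Nat.card_congr ((Equiv.subtypeSubtypeEquivSubtypeInter (fun p : P => IsFix U p)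
      (fun p => p ∈ l)).symm)

omit [IsColl G P L] in
lemma IsFixOrder.unique {U : Subgroup G} {k k' : ℕ} (h : IsFixOrder P L U k)
    (h' : IsFixOrder P L U k') : k = k' := by
  have := h.card_P.symm.trans h'.card_P
  nlinarith

omit [IsColl G P L] in
lemma IsFixOrder.of_bot {k : ℕ} (h : IsFixOrder P L (⊥ : Subgroup G) k) : k = order P L := by
  have h1 := h.card_P
  have h2 : {p : P | IsFix (⊥ : Subgroup G) p} = Set.univ :=
    Set.eq_univ_of_forall fun p => isFix_bot
  rw [h2, Set.ncard_univ, card_pts (L := L)] at h1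
  nlinarith

/-- Baer: orders of the fixed planes of `U₁` and of `U₁⟨t⟩`. -/
lemma baer {U₁ U : Subgroup G} (hle : U₁ ≤ U) {t : G} (ht : t ∈ U) (hsq : t * t ∈ U₁)
    (hn : t ∈ Subgroup.normalizer (U₁ : Set G)) (hgen : U ≤ U₁ ⊔ Subgroup.zpowers t) {k k₁ : ℕ}
    (h1 : IsFixOrder P L U₁ k₁) (hk : IsFixOrder P L U k) : k₁ = k ^ 2 ∨ k₁ = k := by
  classical
  cases nonempty_fintype P
  cases nonempty_fintype L
  have hiff : ∀ x : P, IsFix U x ↔ IsFix U₁ x ∧ t • x = x := fun x =>
    ⟨fun h => ⟨h.mono hle, h t ht⟩,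
      fun h => (isFix_sup.2 ⟨h.1, isFix_zpowers.2 h.2⟩).mono hgen⟩
  have hiffL : ∀ x : L, IsFix U x ↔ IsFix U₁ x ∧ t • x = x := fun x =>
    ⟨fun h => ⟨h.mono hle, h t ht⟩,
      fun h => (isFix_sup.2 ⟨h.1, isFix_zpowers.2 h.2⟩).mono hgen⟩
  set S := Finset.univ.filter fun p : P => IsFix U₁ p ∧ ¬ IsFix U p with hS
  set T := Finset.univ.filter fun l : L => IsFix U l with hT
  have hTc : T.card = k ^ 2 + k + 1 := by
    rw [← hk.card_L, Set.ncard_eq_toFinset_card']
    simp [hT]
  have hP1 : (Finset.univ.filter fun p : P => IsFix U₁ p).card = k₁ ^ 2 + k₁ + 1 := by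
    rw [← h1.card_P, Set.ncard_eq_toFinset_card']
    simp
  have hP : (Finset.univ.filter fun p : P => IsFix U p).card = k ^ 2 + k + 1 := by
    rw [← hk.card_P, Set.ncard_eq_toFinset_card']
    simp
  have hSc : S.card + (k ^ 2 + k + 1) = k₁ ^ 2 + k₁ + 1 := by
    rw [← hP1, ← hP, ← Finset.card_filter_add_card_filter_not
      (s := Finset.univ.filter fun p : P => IsFix U₁ p) (fun p => IsFix U p), add_comm,
      Finset.filter_filter, Finset.filter_filter]
    congr 1
    exact congrArg _ (Finset.filter_congr fun p _ =>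
      ⟨fun h => ⟨h.mono hle, h⟩, fun h => h.2⟩)
  have hcol : ∀ p ∈ S, (T.filter fun l => p ∈ l).card = 1 := by
    intro p hp
    rw [hS, Finset.mem_filter] at hp
    obtain ⟨-, hp1, hpU⟩ := hp
    have htp : t • p ≠ p := fun h => hpU ((hiff p).2 ⟨hp1, h⟩)
    have htp1 : IsFix U₁ (t • p) := isFix_smul_of_normalizer hn hp1
    obtain ⟨l, hpl, htl⟩ := exists_line_through (L := L) p (t • p)
    have hl1 : IsFix U₁ l := fun g hg => line_fixed htp.symm (hp1 g hg) (htp1 g hg) hpl htl
    have hlt : t • l = l := by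
      refine line_unique htp.symm ?_ ?_ hpl htl
      · have h2 := (smul_mem_iff t (t • p) l).2 htl
        rwa [← mul_smul, hp1 _ hsq] at h2
      · exact (smul_mem_iff t p l).2 hpl
    rw [Finset.card_eq_one]
    refine ⟨l, Finset.ext fun m => ?_⟩
    simp only [hT, Finset.mem_filter, Finset.mem_univ, true_and, Finset.mem_singleton]
    refine ⟨fun hm => ?_, fun e => e ▸ ⟨(hiffL l).2 ⟨hl1, hlt⟩, hpl⟩⟩
    exact line_unique htp.symm hm.2 (smul_mem_of_fixed (hm.1 t ht) hm.2) hpl htl
  have hrow : ∀ l ∈ T, (S.filter fun p => p ∈ l).card + (k + 1) = k₁ + 1 := by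
    intro l hl
    rw [hT, Finset.mem_filter] at hl
    rw [← h1.card_onLine l (hl.2.mono hle), ← hk.card_onLine l hl.2,
      Set.ncard_eq_toFinset_card', Set.ncard_eq_toFinset_card', ← Finset.card_union_of_disjoint]
    · congr 1
      ext p
      simp only [hS, Finset.mem_union, Finset.mem_filter, Finset.mem_univ, true_and,
        Set.mem_toFinset, Set.mem_setOf_eq]
      constructor
      · rintro (⟨⟨h1, -⟩, h2⟩ | ⟨h1, h2⟩)
        · exact ⟨h1, h2⟩
        · exact ⟨h1.mono hle, h2⟩
      · rintro ⟨h1, h2⟩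
        by_cases h : IsFix U p
        · exact Or.inr ⟨h, h2⟩
        · exact Or.inl ⟨⟨h1, h⟩, h2⟩
    · rw [Finset.disjoint_left]
      intro p hp hq
      simp only [hS, Finset.mem_filter, Finset.mem_univ, true_and] at hp
      simp only [Set.mem_toFinset, Set.mem_setOf_eq] at hq
      exact hp.1.2 hq.1
  have hsum := Finset.sum_card_bipartiteAbove_eq_sum_card_bipartiteBelow (s := S) (t := T)
    (fun p l => p ∈ l)
  simp only [Finset.bipartiteAbove, Finset.bipartiteBelow] at hsum
  rw [Finset.sum_congr rfl hcol, Finset.sum_const, smul_eq_mul, mul_one] at hsum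
  have hsum2 : S.card + T.card * (k + 1) = T.card * (k₁ + 1) := by
    rw [hsum, ← smul_eq_mul, ← smul_eq_mul, ← Finset.sum_const, ← Finset.sum_const,
      ← Finset.sum_add_distrib]
    exact Finset.sum_congr rfl hrow
  rw [hTc] at hsum2
  rcases eq_or_ne k₁ k with e | e
  · exact Or.inr e
  refine Or.inl ?_
  have h5 : ((k₁ : ℤ) - k) * ((k₁ + k + 1) - (k ^ 2 + k + 1)) = 0 := by
    have a : (S.card : ℤ) + (k ^ 2 + k + 1) = k₁ ^ 2 + k₁ + 1 := by exact_mod_cast hSc
    have b : (S.card : ℤ) + (k ^ 2 + k + 1) * (k + 1) = (k ^ 2 + k + 1) * (k₁ + 1) := by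
      exact_mod_cast hsum2
    linear_combination b - a
  rcases mul_eq_zero.1 h5 with h | h
  · exact absurd (by linarith) (show (k₁ : ℤ) ≠ k by exact_mod_cast e)
  · exact_mod_cast (show (k₁ : ℤ) = k ^ 2 by linarith)

/-- The order of the plane is a `2`-power power of the order of the fixed plane of a 2-group. -/
lemma twoGroup_config_order [Finite G] {U : Subgroup G} (hU : IsPGroup 2 U) {k : ℕ}
    (hk : IsFixOrder P L U k) (hc : HasConfig P L U) : ∃ j, order P L = k ^ (2 ^ j) := by
  have : Fact (Nat.Prime 2) := ⟨Nat.prime_two⟩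
  induction h : Nat.card U using Nat.strong_induction_on generalizing U k with
  | _ N ih =>
  obtain ⟨m, hm⟩ := IsPGroup.iff_card.1 hU
  cases m with
  | zero =>
    have : U = ⊥ := Subgroup.eq_bot_of_card_eq U (by simpa using hm)
    subst this
    exact ⟨0, by rw [hk.of_bot]; simp⟩
  | succ m =>
    obtain ⟨K, hK⟩ := Sylow.exists_subgroup_card_pow_prime (G := U) 2
      (n := m) (by rw [hm]; exact pow_dvd_pow 2 m.le_succ)
    have hidx : K.index = 2 := by
      have := K.card_mul_index
      rw [hK, hm, pow_succ] at this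
      exact Nat.eq_of_mul_eq_mul_left (pow_pos two_pos m) this
    have hKn := Subgroup.normal_of_index_eq_two hidx
    obtain ⟨t, ht⟩ : ∃ t : U, t ∉ K := by
      by_contra hc'
      push Not at hc'
      rw [(Subgroup.eq_top_iff' K).2 hc', Subgroup.index_top] at hidx
      exact absurd hidx (by norm_num)
    set U₁ := K.map U.subtype with hU₁
    have hle : U₁ ≤ U := by
      rintro x ⟨y, -, rfl⟩
      exact y.2
    have hc₁ : HasConfig P L U₁ := hc.mono hle
    obtain ⟨k₁, hk₁⟩ := hc₁.exists_order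
    have hcard : Nat.card U₁ = 2 ^ m := by
      rw [hU₁, Subgroup.card_map_of_injective (Subgroup.subtype_injective U), hK]
    have hlt : Nat.card U₁ < N := by
      rw [hcard, ← h, hm]
      exact Nat.pow_lt_pow_right one_lt_two m.lt_succ_self
    obtain ⟨j, hj⟩ := ih _ hlt (hU.to_le hle) hk₁ hc₁ rfl
    have hb := baer hle t.2 ⟨_, Subgroup.mul_self_mem_of_index_two hidx t, rfl⟩ (by
      rw [Subgroup.mem_normalizer_iff]
      intro x
      constructor
      · rintro ⟨y, hy, rfl⟩
        exact ⟨t * y * t⁻¹, hKn.conj_mem y hy t, rfl⟩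
      · rintro ⟨y, hy, e⟩
        refine ⟨t⁻¹ * y * t⁻¹⁻¹, hKn.conj_mem y hy t⁻¹, ?_⟩
        rw [map_mul, map_mul, inv_inv]
        simp only [Subgroup.coe_subtype, Subgroup.coe_inv] at e ⊢
        rw [e]
        group) (by
      intro x hx
      by_cases hxK : (⟨x, hx⟩ : U) ∈ K
      · exact Subgroup.mem_sup_left ⟨_, hxK, rfl⟩
      · have : (⟨x, hx⟩ : U) * t ∈ K :=
          (Subgroup.mul_mem_iff_of_index_two hidx).2 (iff_of_false hxK ht)
        have h2 : x = (x * t) * (t : G)⁻¹ := by simp
        rw [h2]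
        exact Subgroup.mul_mem _ (Subgroup.mem_sup_left ⟨_, this, rfl⟩)
          (Subgroup.mem_sup_right (inv_mem (Subgroup.mem_zpowers _)))) hk₁ hk
    rcases hb with e | e
    · exact ⟨j + 1, by rw [hj, e, ← pow_mul, pow_succ' 2 j]⟩
    · exact ⟨j, by rw [hj, e]⟩

/-- A non-trivial involution with a configuration is a Baer involution. -/
lemma baer_involution {t : G} (ht : t * t = 1) (h1 : t ≠ 1)
    (hc : HasConfig P L (Subgroup.zpowers t)) :
    ∃ k, IsFixOrder P L (Subgroup.zpowers t) k ∧ order P L = k ^ 2 := by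
  obtain ⟨k, hk⟩ := hc.exists_order
  obtain ⟨k₁, hk₁⟩ := (hc.mono (bot_le : (⊥ : Subgroup G) ≤ _)).exists_order
  refine ⟨k, hk, ?_⟩
  have hb := baer (bot_le : (⊥ : Subgroup G) ≤ _) (Subgroup.mem_zpowers t)
    (by rw [ht]; exact one_mem _) (Subgroup.mem_normalizer_iff.2 fun x => by simp) (by simp) hk₁ hk
  rcases hb with e | e
  · rw [← hk₁.of_bot, e]
  · exfalso
    refine h1 (IsColl.faithful (P := P) (L := L) t fun p => ?_)
    have h2 : {p : P | IsFix (Subgroup.zpowers t) p} = Set.univ := by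
      refine Set.eq_of_subset_of_ncard_le (Set.subset_univ _) ?_ Set.finite_univ
      rw [Set.ncard_univ, card_pts (L := L), hk.card_P, ← hk₁.of_bot, e]
    exact isFix_zpowers.1 ((Set.ext_iff.1 h2 p).2 trivial)

end CfsgLib.OstromWagner
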