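import Cfsg.Agent.Lib.OstromWagner.InvSystem

/-!
# Planes of odd order with an involution system have prime power order
-/

namespace CfsgLib.OstromWagner

open Configuration Configuration.ProjectivePlane MulAction

variable {G P L : Type*} [Group G] [Membership P L] [MulAction G P] [MulAction G L]
  [ProjectivePlane P L] [Finite P] [Finite L] [IsColl G P L] [Finite G]

lemma InvSys.all_axes (s : InvSys G P L) (hk : ¬ IsPrimePow (order P L)) (a : L) :
    ∃ (h : G) (Z : P), IsHom h Z a := by
  obtain ⟨h, Z, hh⟩ := InvSys.all_centres (P := Dual L) (L := Dual P) s.dual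
    (by rw [ProjectivePlane.Dual.order]; exact hk) a
  exact ⟨h, Z, hh.sq, hh.ne_one, hh.cen, hh.axial⟩

/-- A line carrying two centres forces a prime power order. -/
lemma InvSys.false_of_two_centres (s : InvSys G P L) (hk : ¬ IsPrimePow (order P L)) {h₁ h₂ : G}
    {Z₁ Z₂ : P} {a : L} (hh₁ : IsHom h₁ Z₁ a) (hh₂ : IsHom h₂ Z₂ a) (hne : Z₁ ≠ Z₂) :
    False := by
  classical
  cases nonempty_fintype P
  set k := order P L with hk'
  have hk2 : 2 ≤ k := two_le_order
  obtain ⟨τ₀, hτ₀, hτ₀Z⟩ := exists_elat_smul_centre (hh₁.centre_off s.odd)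
    (hh₂.centre_off s.odd) hh₁.axial hh₁.ne_one (cen_fix hh₁.cen) hh₂.axial hh₂.ne_one
    (cen_fix hh₂.cen)
  have hτ₀1 : τ₀ ≠ 1 := fun e => hne (by rw [← hτ₀Z, e, one_smul])
  -- a direction without elations forces a single direction
  have hsingle : ∀ E, E ∈ a → (∀ x ∈ TDir G a E, x = 1) → ∀ (h : G) (b : L), IsHom h E b →
      ∀ D, D ∈ a → D ∈ b → Elat G P a ≤ TDir G a D :=
    fun E hE hT h b hh D hDa hDb => elat_le_of_homology s.odd hh hE hDa hDb hT
  by_cases hone : ∃ Q, Q ∈ a ∧ Elat G P a ≤ TDir G a Q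
  · -- a single direction
    obtain ⟨Q, hQ, hle⟩ := hone
    obtain ⟨lam, hQlam, hZlam⟩ := exists_line_through (L := L) Q Z₁
    have hlama : lam ≠ a := fun e => hh₁.centre_off s.odd (e ▸ hZlam)
    have hCent : ∀ (h : G) (Z : P), IsHom h Z a → Z ∈ lam := by
      intro h Z hh
      obtain ⟨τ, hτ, hτZ⟩ := exists_elat_smul_centre (hh₁.centre_off s.odd)
        (hh.centre_off s.odd) hh₁.axial hh₁.ne_one (cen_fix hh₁.cen) hh.axial hh.ne_one
        (cen_fix hh.cen)
      exact hτZ ▸ smul_mem_of_fixed ((hle hτ).2 lam hQlam) hZlam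
    have hlamax : ∀ C, C ∈ a → C ≠ Q → ∃ h : G, IsHom h C lam := by
      intro C hC hCQ
      obtain ⟨h, b, hh⟩ := s.all_centres hk C
      obtain ⟨D, hDb, hDa⟩ := exists_meet (P := P) b a
      have hTC : ∀ x ∈ TDir G a C, x = 1 := fun x hx =>
        eq_one_of_two_centres hCQ hx.2 (hle (tdir_le_elat hC hx)).2
      have hDQ : D = Q := by
        by_contra e
        exact hτ₀1 (eq_one_of_two_centres e
          (hsingle C hC hTC h b hh D hDa hDb hτ₀).2 (hle hτ₀).2)
      subst hDQ
      have hha : h • a = a := hh.cen a hC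
      have hZ' : h • Z₁ ∈ lam := hCent _ _ (hha ▸ hh₁.conj (g := h))
      have hlam : h • lam = lam := by
        have hne' : D ≠ h • Z₁ := fun e => hh₁.centre_off s.odd ((smul_mem_iff h Z₁ a).1
          (by rw [hha, ← e]; exact hDa))
        exact line_unique hne' (mem_smul_of_fixed (hh.axial D hDb) hQlam)
          ((smul_mem_iff h Z₁ lam).2 hZlam) hQlam hZ'
      rcases hh.line_cases hlam with e | e
      · exact ⟨h, e ▸ hh⟩
      · exact absurd (point_unique hlama e hC hQlam hDa) hCQ
    -- elations with axis `lam` and centre `Q`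
    obtain ⟨C₀, hC₀, hC₀Q⟩ := exists_ne_on Q a
    obtain ⟨h₀, hh₀⟩ := hlamax C₀ hC₀ hC₀Q
    have hmove : ∀ C : {C : P // C ∈ a ∧ C ≠ Q}, ∃ τ : TDir G lam Q, (τ : G) • C₀ = C.1 := by
      rintro ⟨C, hC, hCQ⟩
      obtain ⟨h, hh⟩ := hlamax C hC hCQ
      obtain ⟨τ, ⟨hτa, E, hE, hτE⟩, hτC⟩ := exists_elat_smul_centre (hh₀.centre_off s.odd)
        (hh.centre_off s.odd) hh₀.axial hh₀.ne_one (cen_fix hh₀.cen) hh.axial hh.ne_one
        (cen_fix hh.cen)
      by_cases e1 : C = C₀
      · exact ⟨1, by simp [e1]⟩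
      obtain ⟨m, hEm, hC₀m⟩ := exists_line_through (L := L) E C₀
      have hCm : C ∈ m := hτC ▸ smul_mem_of_fixed (hτE m hEm) hC₀m
      obtain rfl := line_unique (Ne.symm e1) hC₀m hCm hC₀ hC
      obtain rfl := point_unique hlama hE hEm hQlam hQ
      exact ⟨⟨τ, hτa, hτE⟩, hτC⟩
    choose f hf using hmove
    have hfinj : Function.Injective f := fun x y e =>
      Subtype.ext ((hf x).symm.trans ((congrArg (fun t : TDir G lam Q => (t : G) • C₀) e).trans
        (hf y)))
    have hge : k ≤ Nat.card (TDir G lam Q) := by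
      refine le_trans (le_of_eq ?_) (Nat.card_le_card_of_injective f hfinj)
      have h1 : Nat.card {C : P // C ∈ a ∧ C ≠ Q} = ({p : P | p ∈ a} \ {Q}).ncard :=
        Nat.card_coe_set_eq _
      rw [h1, Set.ncard_sdiff_singleton_of_mem (show Q ∈ {p : P | p ∈ a} from hQ),
        ← Nat.card_coe_set_eq]
      have : Nat.card ↥{p : P | p ∈ a} = order P L + 1 := card_on a
      rw [this, Nat.add_sub_cancel]
    have hcard : Nat.card (TDir G lam Q) = k :=
      le_antisymm (Nat.le_of_dvd (by omega) (tdir_card_dvd hQlam)) hge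
    obtain ⟨⟨σ, hσ⟩, hσ1⟩ : ∃ σ : TDir G lam Q, σ ≠ 1 := by
      have : Nontrivial (TDir G lam Q) :=
        Finite.one_lt_card_iff_nontrivial.1 (by omega)
      exact exists_ne 1
    obtain ⟨p, hp, -, hpg, -⟩ := elat_elementary (G := G) (P := Dual L) (L := Dual P) (l := Q)
      (C := lam) (C' := a) hlama hQlam hQ (g := σ) ⟨hσ.2, hσ.1⟩
      (fun e => hσ1 (Subtype.ext e)) (h := τ₀) ⟨(hle hτ₀).2, hτ₀.1⟩ hτ₀1
    refine hk (isPrimePow_of_pgroup hp hpg hk2 (hcard ▸ Subgroup.card_dvd_of_le ?_))
    exact fun y hy => mem_elat (P := Dual L) (L := Dual P) hy.2 hQlam hy.1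
  · -- at least two directions
    push Not at hone
    obtain ⟨hτa, C, hC, hτC⟩ := hτ₀
    obtain ⟨x, ⟨hxa, C', hC', hxC'⟩, hx⟩ := SetLike.not_le_iff_exists.1 (hone C hC)
    obtain ⟨p, hp, -, hpg, -⟩ := elat_elementary (C := C) (C' := C')
      (fun e => hx ⟨hxa, e ▸ hxC'⟩) hC hC' ⟨hτa, hτC⟩ hτ₀1 ⟨hxa, hxC'⟩
      (fun e => hx (e ▸ one_mem _))
    have : Fact p.Prime := ⟨hp⟩
    have hall : ∀ E, E ∈ a → ∃ y ∈ TDir G a E, y ≠ 1 := by
      intro E hE
      by_contra hT
      push Not at hT
      obtain ⟨h, b, hh⟩ := s.all_centres hk E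
      obtain ⟨D, hDb, hDa⟩ := exists_meet (P := P) b a
      exact hone D hDa (hsingle E hE hT h b hh D hDa hDb)
    obtain ⟨e, he⟩ := IsPGroup.iff_card.1 hpg
    obtain ⟨s', k', hk'p, hkk⟩ := Nat.exists_eq_pow_mul_and_not_dvd (by omega : k ≠ 0) p hp.ne_one
    -- each direction is large
    have hdir : ∀ E, E ∈ a → ∃ i, Nat.card (TDir G a E) = p ^ i ∧ 1 ≤ i ∧ e ≤ s' + i := by
      intro E hE
      obtain ⟨i, hi⟩ := IsPGroup.iff_card.1 (hpg.to_le (tdir_le_elat hE))
      obtain ⟨y, hy, hy1⟩ := hall E hE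
      have hi1 : 1 ≤ i := by
        rcases Nat.eq_zero_or_pos i with h0 | h0
        · exfalso
          have h2 := Subgroup.eq_bot_of_card_eq (TDir G a E) (by rw [hi, h0, pow_zero])
          rw [h2] at hy
          exact hy1 (Subgroup.mem_bot.1 hy)
        · exact h0
      refine ⟨i, hi, hi1, ?_⟩
      obtain ⟨m, hEm, hma⟩ := exists_ne_thru a E
      set st : Set L := {l : L | E ∈ l} \ {a} with hst
      have hstc : st.ncard = k := by
        rw [hst, Set.ncard_sdiff_singleton_of_mem (show a ∈ {l : L | E ∈ l} from hE),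
          ← Nat.card_coe_set_eq]
        have : Nat.card ↥{l : L | E ∈ l} = order P L + 1 := card_thru E
        rw [this, Nat.add_sub_cancel]
      have hstab : ∀ z ∈ st, Elat G P a ⊓ stabilizer G z = TDir G a E := by
        intro z hz
        refine le_antisymm (fun τ hτ => ?_)
          (le_inf (tdir_le_elat hE) fun τ hτ => hτ.2 z hz.1)
        by_cases h1 : τ = 1
        · rw [h1]; exact one_mem _
        · obtain ⟨hτa, F, hF, hτF⟩ := hτ.1
          have hFz := centre_on_fixed_line hτa hτF h1 hτ.2 hz.2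
          exact ⟨hτa, point_unique (Ne.symm hz.2) hF hFz hE hz.1 ▸ hτF⟩
      have hdvd := orbit_dvd_of_const_stab (Elat G P a) (TDir G a E) st (fun g hg z hz =>
        ⟨mem_smul_of_fixed (hg.1 E hE) hz.1,
          fun e => hz.2 (MulAction.injective g (e.trans (axial_line hg.1).symm))⟩)
        hstab (x := m) ⟨hEm, hma⟩
      have horb := ncard_orbit_mul (Elat G P a) m
      rw [hstab m ⟨hEm, hma⟩, hi, he] at horb
      obtain ⟨j, -, hj⟩ := (Nat.dvd_prime_pow hp).1 (Dvd.intro _ horb)
      rw [hj, ← pow_add] at horb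
      rw [hstc, hj, hkk] at hdvd
      have hcop : Nat.Coprime (p ^ j) k' := (hp.coprime_iff_not_dvd.2 hk'p).pow_left j
      have := Nat.pow_dvd_pow_iff_le_right hp.one_lt |>.1 (hcop.dvd_of_dvd_mul_right hdvd)
      have := Nat.pow_right_injective hp.two_le horb
      omega
    -- count the elations
    cases nonempty_fintype G
    have hsum : (k + 1) * (p ^ max 1 (e - s') - 1) + 1 ≤ p ^ e := by
      let D : P → Finset G := fun E =>
        (Finset.univ.filter fun y => y ∈ TDir G a E).erase 1
      set pts := Finset.univ.filter fun E : P => E ∈ a with hpts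
      have hptsc : pts.card = k + 1 := by
        rw [hpts, ← Fintype.card_subtype, ← Nat.card_eq_fintype_card, card_on]
      have hd : (pts : Set P).PairwiseDisjoint D := by
        intro E _ E' _ hne
        simp only [Function.onFun, D]
        rw [Finset.disjoint_left]
        intro y hy hy'
        simp only [Finset.mem_erase, Finset.mem_filter, Finset.mem_univ, true_and] at hy hy'
        exact hy.1 (eq_one_of_two_centres hne hy.2.2 hy'.2.2)
      have hsub : pts.biUnion D ⊆ (Finset.univ.filter fun y => y ∈ Elat G P a).erase 1 := by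
        intro y hy
        simp only [D, Finset.mem_biUnion, Finset.mem_erase, Finset.mem_filter, Finset.mem_univ,
          true_and, hpts] at hy ⊢
        obtain ⟨E, hE, hy1, hyE⟩ := hy
        exact ⟨hy1, tdir_le_elat hE hyE⟩
      have h1 := Finset.card_le_card hsub
      rw [Finset.card_biUnion hd, Finset.card_erase_of_mem (by simp [one_mem]),
        ← Fintype.card_subtype, ← Nat.card_eq_fintype_card, he] at h1
      have h2 : pts.card • (p ^ max 1 (e - s') - 1) ≤ ∑ E ∈ pts, (D E).card := by
        refine Finset.card_nsmul_le_sum _ _ _ fun E hE => ?_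
        rw [hpts, Finset.mem_filter] at hE
        obtain ⟨i, hi, hi1, hie⟩ := hdir E hE.2
        simp only [D]
        rw [Finset.card_erase_of_mem (by simp [one_mem]), ← Fintype.card_subtype,
          ← Nat.card_eq_fintype_card, hi]
        exact Nat.sub_le_sub_right (Nat.pow_le_pow_right hp.pos (by omega)) 1
      rw [hptsc, smul_eq_mul] at h2
      have := pow_pos hp.pos e
      omega
    have hk'2 : 2 ≤ k' := by
      rcases Nat.lt_or_ge k' 2 with hlt | hge
      · exfalso
        interval_cases k'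
        · simp at hk'p
        · rw [mul_one] at hkk
          refine hk (show IsPrimePow k from hkk ▸ hp.isPrimePow.pow ?_)
          rintro rfl
          rw [pow_zero] at hkk
          omega
      · exact hge
    have hX := pow_pos hp.pos s'
    have hk2X : 2 * p ^ s' ≤ k := by
      rw [hkk, mul_comm 2]
      exact Nat.mul_le_mul_left _ hk'2
    rcases le_or_gt e s' with hle | hgt
    · have h1 := Nat.pow_le_pow_right hp.pos hle
      have h2 : k + 1 ≤ (k + 1) * (p ^ max 1 (e - s') - 1) := by
        refine Nat.le_mul_of_pos_right _ (Nat.sub_pos_of_lt ?_)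
        exact Nat.one_lt_pow (by omega) hp.one_lt
      omega
    · rw [max_eq_right (by omega : 1 ≤ e - s')] at hsum
      have hsplit : p ^ e = p ^ s' * p ^ (e - s') := by
        rw [← pow_add]; congr 1; omega
      rw [hsplit] at hsum
      have hZ : 2 ≤ p ^ (e - s') := le_trans hp.two_le (Nat.le_self_pow (by omega) p)
      generalize p ^ (e - s') = Z at hsum hZ
      generalize p ^ s' = X at hsum hk2X hX
      obtain ⟨Y, rfl⟩ : ∃ Y, Z = Y + 2 := ⟨Z - 2, by omega⟩
      rw [show Y + 2 - 1 = Y + 1 by omega] at hsum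
      nlinarith

/-- Planes of odd order with such an involution system have prime power order. -/
theorem InvSys.isPrimePow_order (s : InvSys G P L) : IsPrimePow (order P L) := by
  classical
  by_contra hk
  choose hc π hπ using fun X => s.all_centres hk X
  choose hx κ hκ using fun a => s.all_axes hk a
  have hax : ∀ (h : G) (X : P) (a : L), IsHom h X a → a = π X := by
    intro h X a hh
    by_contra e
    exact InvSys.false_of_two_centres (P := Dual L) (L := Dual P) s.dual
      (by rw [ProjectivePlane.Dual.order]; exact hk) hh.dual (hπ X).dual e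
  have hce : ∀ (h : G) (X : P) (a : L), IsHom h X a → X = κ a := by
    intro h X a hh
    by_contra e
    exact s.false_of_two_centres hk hh (hκ a) e
  have hinj : Function.Injective π := fun X Y e =>
    (hce _ _ _ (hπ X)).trans ((congrArg κ e).trans (hce _ _ _ (hπ Y)).symm)
  refine no_null_polarity (two_le_order (P := P) (L := L)) rfl π
    ⟨hinj, fun a => ⟨κ a, (hax _ _ _ (hκ a)).symm⟩⟩ (fun X => (hπ X).centre_off s.odd) ?_
  intro X Y hXY
  have hX : hc Y • X = X := (hπ Y).axial X hXY
  have h1 : hc Y • π X = π X := by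
    have := hax _ _ _ ((hπ X).conj (g := hc Y))
    rwa [hX] at this
  rcases (hπ Y).line_cases h1 with e | e
  · obtain rfl := hinj e
    exact hXY
  · exact e

end CfsgLib.OstromWagner
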