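import Cfsg.Agent.Lib.OstromWagner.Orbit

/-!
# Sylow subgroups of subgroups, invariant sets
-/

namespace CfsgLib.OstromWagner

open MulAction Pointwise

variable {G : Type*} [Group G] [Finite G]

/-- Two Sylow subgroups of `K` are conjugate in `K`. -/
lemma exists_conj_sylow_in {p : ℕ} [Fact p.Prime] {S S' K : Subgroup G} (hS : S ≤ K)
    (hS' : S' ≤ K) (hp : IsPGroup p S) (hp' : IsPGroup p S') (hm : ¬ p ∣ S.relIndex K)
    (hm' : ¬ p ∣ S'.relIndex K) : ∃ x ∈ K, ∀ y, y ∈ S' ↔ x⁻¹ * y * x ∈ S := by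
  let T : Sylow p K := (hp.comap_subtype (K := K)).toSylow hm
  let T' : Sylow p K := (hp'.comap_subtype (K := K)).toSylow hm'
  obtain ⟨x, hx⟩ := exists_smul_eq K T T'
  refine ⟨x, x.2, fun y => ?_⟩
  have hxs : ∀ w : K, w ∈ S'.subgroupOf K ↔ x⁻¹ * w * x ∈ S.subgroupOf K := by
    intro w
    have : ((T' : Sylow p K) : Subgroup K) = MulAut.conj x • (T : Subgroup K) := by rw [← hx]; rfl
    change w ∈ (T' : Subgroup K) ↔ x⁻¹ * w * x ∈ (T : Subgroup K)
    rw [this, Subgroup.mem_pointwise_smul_iff_inv_smul_mem]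
    simp [MulAut.conj_apply, mul_assoc]
  constructor
  · intro hy
    exact (hxs ⟨y, hS' hy⟩).1 hy
  · intro hy
    have hyK : y ∈ K := by
      have := mul_mem (mul_mem x.2 (hS hy)) (inv_mem x.2)
      simpa [mul_assoc] using this
    exact (hxs ⟨y, hyK⟩).2 hy

/-- Every `p`-element of `K` is conjugate into a Sylow subgroup of `K`. -/
lemma exists_conj_mem_sylow {p : ℕ} [Fact p.Prime] {S K : Subgroup G} (hS : S ≤ K)
    (hp : IsPGroup p S) (hm : ¬ p ∣ S.relIndex K) {g : G} (hg : g ∈ K)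
    (hgp : IsPGroup p (Subgroup.zpowers g)) : ∃ x ∈ K, x * g * x⁻¹ ∈ S := by
  obtain ⟨T, hgT, hTK, hTp, hTm⟩ := exists_sylow_in p hgp (Subgroup.zpowers_le.2 hg)
  obtain ⟨x, hx, hxy⟩ := exists_conj_sylow_in hS hTK hp hTp hm hTm
  refine ⟨x⁻¹, inv_mem hx, ?_⟩
  rw [inv_inv]
  exact (hxy g).1 (hgT (Subgroup.mem_zpowers g))

/-- A `p`-subgroup of `K` is at most as large as a Sylow subgroup of `K`. -/
lemma card_le_sylow_in {p : ℕ} [Fact p.Prime] {S T K : Subgroup G} (hS : S ≤ K) (hT : T ≤ K)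
    (hp : IsPGroup p S) (hTp : IsPGroup p T) (hm : ¬ p ∣ S.relIndex K) :
    Nat.card T ≤ Nat.card S := by
  obtain ⟨T', hTT', hT'K, hT'p, hT'm⟩ := exists_sylow_in p hTp hT
  obtain ⟨x, -, hxy⟩ := exists_conj_sylow_in hS hT'K hp hT'p hm hT'm
  refine Nat.card_le_card_of_injective
    (fun t : T => (⟨x⁻¹ * t * x, (hxy t).1 (hTT' t.2)⟩ : S)) fun a b e => ?_
  exact Subtype.ext (mul_left_cancel (mul_right_cancel (congrArg Subtype.val e)))

omit [Finite G] in
/-- The fixed points of a `p`-group on an invariant set. -/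
lemma fixed_ncard_modEq {X : Type*} [MulAction G X] [Finite X] {p : ℕ} [Fact p.Prime]
    {U : Subgroup G} (hU : IsPGroup p U) (s : Set X) (hinv : ∀ g ∈ U, ∀ x ∈ s, g • x ∈ s) :
    s.ncard ≡ {x : X | x ∈ s ∧ ∀ g ∈ U, g • x = x}.ncard [MOD p] := by
  let A : MulAction U s :=
    { smul := fun g x => ⟨(g : G) • (x : X), hinv g g.2 x x.2⟩
      one_smul := fun x => Subtype.ext (one_smul G (x : X))
      mul_smul := fun a b x => Subtype.ext (mul_smul (a : G) (b : G) (x : X)) }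
  have h := hU.card_modEq_card_fixedPoints s
  rw [Nat.card_coe_set_eq] at h
  have e : Nat.card (fixedPoints U s) = {x : X | x ∈ s ∧ ∀ g ∈ U, g • x = x}.ncard := by
    rw [← Nat.card_coe_set_eq {x : X | x ∈ s ∧ ∀ g ∈ U, g • x = x}]
    exact Nat.card_congr
      { toFun := fun y => ⟨y.1.1, y.1.2, fun g hg => congrArg Subtype.val (y.2 ⟨g, hg⟩)⟩
        invFun := fun y => ⟨⟨y.1, y.2.1⟩, fun g => Subtype.ext (y.2.2 g g.2)⟩
        left_inv := fun _ => rfl
        right_inv := fun _ => rfl }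
  rwa [e] at h

/-- An invariant set is a union of orbits. -/
lemma dvd_ncard_of_orbits {X : Type*} [MulAction G X] [Finite X] (H : Subgroup G) {d : ℕ}
    (s : Set X) (hinv : ∀ g ∈ H, ∀ x ∈ s, g • x ∈ s)
    (hd : ∀ x ∈ s, d ∣ (orbit H x).ncard) : d ∣ s.ncard := by
  induction h : s.ncard using Nat.strong_induction_on generalizing s with
  | _ N ih =>
  rcases s.eq_empty_or_nonempty with rfl | ⟨x, hx⟩
  · simp [← h]
  have hsub : orbit H x ⊆ s := by
    rintro _ ⟨g, rfl⟩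
    exact hinv g g.2 x hx
  have h1 := Set.ncard_sdiff_add_ncard_of_subset hsub (Set.toFinite s)
  have h2 : 0 < (orbit H x).ncard := (Set.ncard_pos (Set.toFinite _)).2 ⟨x, mem_orbit_self x⟩
  have h3 := ih (s \ orbit H x).ncard (by omega) (s \ orbit H x) (fun g hg y hy =>
    ⟨hinv g hg y hy.1, fun hc => hy.2 (by
      obtain ⟨a, ha⟩ := hc
      refine ⟨(⟨g, hg⟩ : H)⁻¹ * a, ?_⟩
      show ((⟨g, hg⟩ : H)⁻¹ * a) • x = y
      rw [mul_smul, inv_smul_eq_iff]
      exact ha)⟩)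
    (fun y hy => hd y hy.1) rfl
  rw [← h, ← h1]
  exact dvd_add h3 (hd x hx)

end CfsgLib.OstromWagner
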