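import Cfsg.Agent.Lib.OstromWagner.Trans
import Cfsg.Agent.Lib.OstromWagner.SylowTools
import Cfsg.Agent.Lib.OstromWagner.OddOrder

/-!
# A two-transitive plane without central collineations would have odd prime power order
-/

namespace CfsgLib.OstromWagner

open Configuration Configuration.ProjectivePlane MulAction

variable {G P L : Type*} [Group G] [Membership P L] [MulAction G P] [MulAction G L]
  [ProjectivePlane P L] [Finite P] [Finite L] [IsColl G P L] [Finite G]

omit [Finite G] in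
lemma HasConfig.of_dual {U : Subgroup G} (h : HasConfig (Dual L) (Dual P) U) :
    HasConfig P L U := by
  obtain ⟨l₁, l₂, l₃, p₁, p₂, p₃, a, b, c, d, e, f, h₁₂, h₁₃, h₂₁, h₂₂, h₂₃, h₃₁, h₃₂, h₃₃⟩ := h
  exact ⟨p₁, p₂, p₃, l₁, l₂, l₃, d, e, f, a, b, c, h₂₁, h₃₁, h₁₂, h₂₂, h₃₂, h₁₃, h₂₃, h₃₃⟩

omit [Finite G] in
lemma HasConfig.to_dual {U : Subgroup G} (h : HasConfig P L U) :
    HasConfig (Dual L) (Dual P) U :=
  HasConfig.of_dual (P := Dual L) (L := Dual P) h

omit [Finite G] in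
lemma hasConfig_bot : HasConfig P L (⊥ : Subgroup G) := by
  obtain ⟨p₁, p₂, p₃, l₁, l₂, l₃, h⟩ := @ProjectivePlane.exists_config P L _ _
  exact ⟨p₁, p₂, p₃, l₁, l₂, l₃, isFix_bot, isFix_bot, isFix_bot, isFix_bot, isFix_bot,
    isFix_bot, h⟩

variable (G P L) in
/-- No nontrivial collineation fixes a line pointwise. -/
def NoPersp : Prop := ∀ (g : G) (l : L), g ∈ Axial G P l → g = 1

omit [Finite G] in
lemma NoPersp.baer (h : NoPersp G P L) {t : G} (ht : t * t = 1) (h1 : t ≠ 1) :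
    ∃ k, IsFixOrder P L (Subgroup.zpowers t) k ∧ order P L = k ^ 2 := by
  refine baer_involution ht h1 ?_
  by_contra hc
  obtain ⟨l, hl⟩ := involution_axis ht hc
  exact h1 (h t l hl)

/-- Without central collineations the order is odd. -/
lemma odd_order_of_noPersp (h2 : TwoTrans G P) (hno : NoPersp G P L) : Odd (order P L) := by
  classical
  by_contra hodd
  rw [Nat.not_odd_iff_even] at hodd
  have : Fact (Nat.Prime 2) := ⟨Nat.prime_two⟩
  set n := order P L
  obtain ⟨p₀, -⟩ := @ProjectivePlane.exists_config P L _ _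
  obtain ⟨l, hl⟩ := Nondegenerate.exists_line (L := L) p₀
  set K := stabilizer G l
  obtain ⟨S, -, hSK, hSp, hSm⟩ := exists_sylow_in 2 IsPGroup.of_bot (bot_le : ⊥ ≤ K)
  have hdiv : ∀ x : P, x ∉ l → ∀ a, 2 ^ a ∣ n ^ 2 → 2 ^ a ∣ (orbit S x).ncard := fun x hx a ha =>
    sylow_orbit_dvd hSK hSp hSm x (by rw [ncard_orbit_affine h2 hx]; exact ha)
  have hnt : Nontrivial S := by
    refine Finite.one_lt_card_iff_nontrivial.1 ?_
    by_contra hc
    have h1 : 2 ^ 1 ∣ (orbit S p₀).ncard := hdiv p₀ hl 1 (by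
      rw [pow_one, pow_two]; exact Dvd.dvd.mul_right hodd.two_dvd n)
    have h3 := ncard_orbit_mul S p₀
    have h4 : Nat.card S = 1 := by have := Nat.card_pos (α := S); omega
    rw [h4] at h3
    rw [Nat.eq_one_of_mul_eq_one_right h3] at h1
    norm_num at h1
  have := hSp.center_nontrivial
  have hcard : 2 ∣ Nat.card (Subgroup.center S) := by
    obtain ⟨j, hj⟩ := IsPGroup.iff_card.1 (hSp.to_subgroup (Subgroup.center S))
    have := Finite.one_lt_card (α := Subgroup.center S)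
    rw [hj] at this ⊢
    exact dvd_pow_self 2 (by rintro rfl; simp at this)
  obtain ⟨z, hz⟩ := exists_prime_orderOf_dvd_card' 2 hcard
  set t : G := ((z : S) : G) with ht
  have htt : t * t = 1 := by
    have := pow_orderOf_eq_one z
    rw [hz, pow_two] at this
    exact congrArg (fun x : Subgroup.center S => ((x : S) : G)) this
  have ht1 : t ≠ 1 := fun e => by
    have : z = 1 := Subtype.ext (Subtype.ext e)
    rw [this, orderOf_one] at hz
    norm_num at hz
  obtain ⟨k, hk, hnk⟩ := hno.baer htt ht1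
  have htl : t • l = l := hSK (z : S).2
  set s : Set P := {x : P | t • x = x ∧ x ∉ l} with hs
  have hsc : s.ncard = k ^ 2 := by
    have h1 := hk.card_P
    have h3 := hk.card_onLine l (isFix_zpowers.2 htl)
    have h4 : s = {p : P | IsFix (Subgroup.zpowers t) p} \
        {p : P | IsFix (Subgroup.zpowers t) p ∧ p ∈ l} := by
      ext x
      simp only [hs, Set.mem_sdiff, Set.mem_setOf_eq, isFix_zpowers]
      exact ⟨fun h => ⟨h.1, fun h' => h.2 h'.2⟩, fun h => ⟨h.1, fun h' => h.2 ⟨h.1, h'⟩⟩⟩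
    rw [h4, Set.ncard_sdiff (fun x hx => hx.1), h1, h3]
    omega
  obtain ⟨v, u, hu, hkv⟩ := Nat.exists_eq_pow_mul_and_not_dvd
    (show k ≠ 0 by have := hk.two_le; omega) 2 (by norm_num)
  have hd : 2 ^ (4 * v) ∣ s.ncard := by
    refine dvd_ncard_of_orbits S s (fun g hg x hx => ⟨?_, fun hc => hx.2 ?_⟩)
      (fun x hx => hdiv x hx.2 _ ⟨u ^ 4, by rw [show n = k ^ 2 from hnk, hkv]; ring⟩)
    · have hcomm : g * t = t * g :=
        congrArg Subtype.val (Subgroup.mem_center_iff.1 z.2 ⟨g, hg⟩)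
      rw [← mul_smul, ← hcomm, mul_smul, hx.1]
    · exact (smul_mem_iff g x l).1 (by rw [show g • l = l from hSK hg]; exact hc)
  rw [hsc, hkv, mul_pow, ← pow_mul] at hd
  have hv : 1 ≤ v := by
    by_contra hc
    obtain rfl : v = 0 := by omega
    rw [pow_zero, one_mul] at hkv
    subst hkv
    rw [show n = k ^ 2 from hnk] at hodd
    exact hu ((Nat.even_pow.1 hodd).1.two_dvd)
  rw [show 4 * v = v * 2 + v * 2 by ring, pow_add] at hd
  have h5 := Nat.dvd_of_mul_dvd_mul_left (pow_pos two_pos _) hd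
  have h6 : 2 ∣ u ^ 2 := dvd_trans (dvd_pow_self 2 (by omega)) h5
  exact hu (Nat.prime_two.dvd_of_dvd_pow h6)

/-- A `2`-group fixing two points in a maximal way has no configuration. -/
lemma sylow_pair_no_config (h2 : TwoTrans G P) {A B : P} (hAB : A ≠ B) {W : Subgroup G}
    (hW : W ≤ stabilizer G A ⊓ stabilizer G B) (hWp : IsPGroup 2 W)
    (hWm : ¬ 2 ∣ W.relIndex (stabilizer G A ⊓ stabilizer G B)) : ¬ HasConfig P L W := by
  classical
  have : Fact (Nat.Prime 2) := ⟨Nat.prime_two⟩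
  intro hc
  set K := stabilizer G A ⊓ stabilizer G B with hK
  obtain ⟨g₀, hgA, hgB⟩ := h2 A B B A hAB hAB.symm
  have hgK : ∀ y ∈ K, g₀ * y * g₀⁻¹ ∈ K := by
    intro y hy
    refine ⟨?_, ?_⟩ <;> show _ • _ = _ <;> rw [mul_smul, mul_smul]
    · rw [inv_smul_eq_iff.2 hgB.symm, show y • B = B from hy.2, hgB]
    · rw [inv_smul_eq_iff.2 hgA.symm, show y • A = A from hy.1, hgA]
  set W' := W.map (MulAut.conj g₀).toMonoidHom with hW'
  have hW'K : W' ≤ K := by
    rintro _ ⟨y, hy, rfl⟩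
    exact hgK y (hW hy)
  have hW'c : Nat.card W' = Nat.card W :=
    Subgroup.card_map_of_injective (MulAut.conj g₀).injective
  have hW'p : IsPGroup 2 W' := hWp.map _
  have hW'm : ¬ 2 ∣ W'.relIndex K := by
    have e : ∀ V : Subgroup G, V ≤ K → Nat.card V * V.relIndex K = Nat.card K := fun V hV => by
      rw [Subgroup.relIndex, ← Nat.card_congr (Subgroup.subgroupOfEquivOfLe hV).toEquiv,
        Subgroup.card_mul_index]
    have h1 := e W' hW'K
    rw [hW'c, ← e W hW] at h1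
    rw [Nat.eq_of_mul_eq_mul_left Nat.card_pos h1]
    exact hWm
  obtain ⟨x, hx, hxy⟩ := exists_conj_sylow_in hW hW'K hWp hW'p hWm hW'm
  -- an element normalising `W` and interchanging `A` and `B`
  set g := x⁻¹ * g₀ with hg
  have hgA' : g • A = B := by
    rw [hg, mul_smul, hgA, inv_smul_eq_iff]
    exact (show x • B = B from hx.2).symm
  have hgB' : g • B = A := by
    rw [hg, mul_smul, hgB, inv_smul_eq_iff]
    exact (show x • A = A from hx.1).symm
  have hgN : g ∈ Subgroup.normalizer (W : Set G) := by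
    rw [Subgroup.mem_normalizer_iff]
    intro y
    have h1 : g₀ * y * g₀⁻¹ ∈ W' ↔ y ∈ W :=
      Subgroup.mem_map_iff_mem (MulAut.conj g₀).injective
    rw [← h1, hxy, hg, mul_inv_rev, inv_inv]
    simp [mul_assoc]
  obtain ⟨v, u, hu, hv⟩ := Nat.exists_eq_pow_mul_and_not_dvd (orderOf_pos g).ne' 2 (by norm_num)
  set t := g ^ u with ht
  have htN : t ∈ Subgroup.normalizer (W : Set G) := pow_mem hgN u
  have htA : t • A = B := by
    obtain ⟨w, hw⟩ := Nat.odd_iff.2 (Nat.two_dvd_ne_zero.1 hu)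
    have h1 : ∀ w : ℕ, (g ^ (2 * w)) • A = A := by
      intro w
      induction w with
      | zero => simp
      | succ w ih => rw [show 2 * (w + 1) = 2 * w + 2 by ring, pow_add, mul_smul, pow_two, mul_smul,
          hgA', hgB', ih]
    rw [ht, hw, pow_succ', mul_smul, h1, hgA']
  have ht2 : t ^ 2 ^ v = 1 := by rw [ht, ← pow_mul, mul_comm, ← hv, pow_orderOf_eq_one]
  let Triv : ℕ → Prop := fun j => ∀ p : P, IsFix W p → (t ^ 2 ^ j) • p = p
  have hTv : ∃ j, Triv j := ⟨v, fun p _ => by rw [ht2, one_smul]⟩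
  obtain ⟨i, hi⟩ : ∃ i, Nat.find hTv = i + 1 := by
    refine Nat.exists_eq_succ_of_ne_zero fun h0 => ?_
    have := Nat.find_spec hTv A fun y hy => (hW hy).1
    rw [h0, pow_zero, pow_one, htA] at this
    exact hAB this.symm
  set t' := t ^ 2 ^ i with ht'
  have ht'sq : ∀ p : P, IsFix W p → (t' * t') • p = p := by
    intro p hp
    have := Nat.find_spec hTv p hp
    rwa [hi, pow_succ, mul_two, pow_add] at this
  have ht'nt : ¬ Triv i := Nat.find_min hTv (by omega)
  have ht'N : t' ∈ Subgroup.normalizer (W : Set G) := pow_mem htN _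
  letI := fxPlane W hc
  let φ := collHom (P := Fx W P) (L := Fx W L) (Subgroup.normalizer (W : Set G))
    fun a p l => smul_mem_iff (a : G) (p : P) (l : L)
  set τ := φ ⟨t', ht'N⟩ with hτ
  have hτ2 : τ * τ = 1 := by
    refine IsColl.faithful (P := Fx W P) (L := Fx W L) _ fun p => Subtype.ext ?_
    rw [hτ, ← map_mul]
    exact ht'sq p.1 p.2
  obtain ⟨A', B', hA'B', hA', hB'⟩ := exists_two_fixed (P := Fx W P) (Fx W L) hτ2
  have hA'' : t' • (A' : P) = A' := congrArg Subtype.val hA'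
  have hB'' : t' • (B' : P) = B' := congrArg Subtype.val hB'
  set W₂ := W ⊔ Subgroup.zpowers t' with hW₂
  have hzp : IsPGroup 2 (Subgroup.zpowers t') := by
    rintro ⟨y, hy⟩
    obtain ⟨m, rfl⟩ := Subgroup.mem_zpowers_iff.1 hy
    refine ⟨v, Subtype.ext ?_⟩
    push_cast
    rw [← zpow_natCast, zpow_comm, zpow_natCast, ht', ← pow_mul, mul_comm, pow_mul, ht2]
    simp
  have hW₂p : IsPGroup 2 W₂ := by
    rw [hW₂, sup_comm]
    exact hzp.to_sup_of_normal_right' hWp (Subgroup.zpowers_le.2 ht'N)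
  set K' := stabilizer G (A' : P) ⊓ stabilizer G (B' : P) with hK'
  have hW₂K : W₂ ≤ K' := by
    refine sup_le (fun y hy => ⟨A'.2 y hy, B'.2 y hy⟩) ?_
    rw [Subgroup.zpowers_le]
    exact ⟨hA'', hB''⟩
  obtain ⟨h, hhA, hhB⟩ := h2 (A' : P) B' A B (fun e => hA'B' (Subtype.ext e)) hAB
  have hconj : W₂.map (MulAut.conj h).toMonoidHom ≤ K := by
    rintro _ ⟨y, hy, rfl⟩
    obtain ⟨hyA, hyB⟩ := hW₂K hy
    refine ⟨?_, ?_⟩ <;> show (h * y * h⁻¹) • _ = _ <;> rw [mul_smul, mul_smul]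
    · rw [inv_smul_eq_iff.2 hhA.symm, show y • (A' : P) = A' from hyA, hhA]
    · rw [inv_smul_eq_iff.2 hhB.symm, show y • (B' : P) = B' from hyB, hhB]
  have h1 := card_le_sylow_in hW hconj hWp (hW₂p.map _) hWm
  rw [Subgroup.card_map_of_injective (MulAut.conj h).injective] at h1
  have h3 : W = W₂ := Subgroup.eq_of_le_of_card_ge le_sup_left h1
  exact ht'nt fun p hp => hp t' (h3 ▸ Subgroup.mem_sup_right (Subgroup.mem_zpowers t'))

/-- The same for pairs of lines. -/
lemma sylow_line_pair_no_config (h2 : TwoTrans G P) {a b : L} (hab : a ≠ b) {W : Subgroup G}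
    (hW : W ≤ stabilizer G a ⊓ stabilizer G b) (hWp : IsPGroup 2 W)
    (hWm : ¬ 2 ∣ W.relIndex (stabilizer G a ⊓ stabilizer G b)) : ¬ HasConfig P L W :=
  fun hc => sylow_pair_no_config (P := Dual L) (L := Dual P) h2.dual (A := a) (B := b) hab hW hWp
    hWm hc.to_dual

/-- Without central collineations the order is a prime power. -/
lemma isPrimePow_of_noPersp (h2 : TwoTrans G P) (hno : NoPersp G P L) :
    IsPrimePow (order P L) := by
  classical
  have hodd := odd_order_of_noPersp h2 hno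
  have : Fact (Nat.Prime 2) := ⟨Nat.prime_two⟩
  let 𝒲 : Set (Subgroup G) := {W | IsPGroup 2 W ∧ HasConfig P L W}
  obtain ⟨W, ⟨hWp, hWc⟩, hmax⟩ := Set.exists_max_image 𝒲 (fun W => Nat.card W) (Set.toFinite _)
    ⟨⊥, IsPGroup.of_bot, hasConfig_bot⟩
  have hmax' : ∀ V, W ≤ V → IsPGroup 2 V → HasConfig P L V → V = W := fun V hle hp hc =>
    (Subgroup.eq_of_le_of_card_ge hle (hmax V ⟨hp, hc⟩)).symm
  obtain ⟨k, hk⟩ := hWc.exists_order
  obtain ⟨j, hj⟩ := twoGroup_config_order hWp hk hWc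
  letI := fxPlane W hWc
  let N := Subgroup.normalizer (W : Set G)
  let φ := collHom (P := Fx W P) (L := Fx W L) N
    fun a p l => smul_mem_iff (a : G) (p : P) (l : L)
  let H₀ := φ.range
  have hord : order (Fx W P) (Fx W L) = k := by
    have h1 := card_pts (P := Fx W P) (L := Fx W L)
    have h3 := hk.card_P
    rw [← Nat.card_coe_set_eq] at h3
    have h4 : Nat.card (Fx W P) = k ^ 2 + k + 1 := h3
    rw [h4] at h1
    nlinarith
  -- an element of `N` outside `W` acts nontrivially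
  have hlift : ∀ t : G, t ∈ N → t ∉ W → IsPGroup 2 (Subgroup.zpowers t) →
      HasConfig P L (W ⊔ Subgroup.zpowers t) → False := by
    intro t htN htW htp hc
    refine htW ?_
    rw [← hmax' _ le_sup_left (by
      rw [sup_comm]
      exact htp.to_sup_of_normal_right' hWp (Subgroup.zpowers_le.2 htN)) hc]
    exact Subgroup.mem_sup_right (Subgroup.mem_zpowers t)
  -- involutions from a stabiliser
  have hinvol : ∀ K : Subgroup G, W ≤ K → (∀ V, V ≤ K → IsPGroup 2 V → ¬ 2 ∣ V.relIndex K →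
      ¬ HasConfig P L V) → ∃ t : G, t ∈ K ∧ ∃ htN : t ∈ N,
        φ ⟨t, htN⟩ * φ ⟨t, htN⟩ = 1 ∧ φ ⟨t, htN⟩ ≠ 1 := by
    intro K hWK hK
    obtain ⟨V, hWV, hVK, hVp, hVm⟩ := exists_sylow_in 2 hWp hWK
    have hne : W ≠ V := fun e => hK V hVK hVp hVm (e ▸ hWc)
    have hnil : Group.IsNilpotent V := hVp.isNilpotent
    have hlt : W.subgroupOf V < ⊤ := by
      rw [lt_top_iff_ne_top, Ne, Subgroup.subgroupOf_eq_top]
      exact fun h => hne (le_antisymm hWV h)
    obtain ⟨t, htN, htW⟩ := SetLike.exists_of_lt (normalizerCondition_of_isNilpotent _ hlt)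
    have htNG : (t : G) ∈ N := by
      rw [Subgroup.mem_normalizer_iff]
      intro y
      constructor
      · intro hy
        exact (Subgroup.mem_normalizer_iff.1 htN ⟨y, hWV hy⟩).1 hy
      · intro hy
        have hyV : y ∈ V := by
          have := mul_mem (mul_mem (inv_mem t.2) (hWV hy)) t.2
          simpa [mul_assoc] using this
        exact (Subgroup.mem_normalizer_iff.1 htN ⟨y, hyV⟩).2 hy
    obtain ⟨v, hv⟩ := hVp t
    have hpow : ∀ i, ((t : G) ^ 2 ^ i) ∈ N := fun i => pow_mem htNG _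
    have hex : ∃ i, φ ⟨_, hpow i⟩ = 1 := by
      refine ⟨v, ?_⟩
      rw [show (⟨_, hpow v⟩ : N) = 1 from Subtype.ext (by
        have := congrArg Subtype.val hv
        simpa using this), map_one]
    obtain ⟨i, hi⟩ : ∃ i, Nat.find hex = i + 1 := by
      refine Nat.exists_eq_succ_of_ne_zero fun h0 => ?_
      have h1 := Nat.find_spec hex
      have hfix : ∀ (p : Fx W P), (t : G) • (p : P) = p := by
        intro p
        have := congrArg (fun c => (c : Coll (Fx W P) (Fx W L)).1.1 p) h1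
        simp only [h0, pow_zero, pow_one, OneMemClass.coe_one, Prod.fst_one, Prod.snd_one,
          Equiv.Perm.coe_one, id_eq] at this
        exact congrArg Subtype.val this
      refine hlift t htNG htW ((hVp.to_le (Subgroup.zpowers_le.2 t.2))) ?_
      obtain ⟨p₁, p₂, p₃, l₁, l₂, l₃, a, b, c, d, e, f, hrest⟩ := hWc
      have hfixL : ∀ (l : Fx W L), (t : G) • (l : L) = l := by
        intro l
        have := congrArg (fun c => (c : Coll (Fx W P) (Fx W L)).1.2 l) h1
        simp only [h0, pow_zero, pow_one, OneMemClass.coe_one, Prod.fst_one, Prod.snd_one,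
          Equiv.Perm.coe_one, id_eq] at this
        exact congrArg Subtype.val this
      exact ⟨p₁, p₂, p₃, l₁, l₂, l₃, isFix_sup.2 ⟨a, isFix_zpowers.2 (hfix ⟨_, a⟩)⟩,
        isFix_sup.2 ⟨b, isFix_zpowers.2 (hfix ⟨_, b⟩)⟩,
        isFix_sup.2 ⟨c, isFix_zpowers.2 (hfix ⟨_, c⟩)⟩,
        isFix_sup.2 ⟨d, isFix_zpowers.2 (hfixL ⟨_, d⟩)⟩,
        isFix_sup.2 ⟨e, isFix_zpowers.2 (hfixL ⟨_, e⟩)⟩,
        isFix_sup.2 ⟨f, isFix_zpowers.2 (hfixL ⟨_, f⟩)⟩, hrest⟩
    refine ⟨(t : G) ^ 2 ^ i, pow_mem (hVK t.2) _, hpow i, ?_, Nat.find_min hex (by omega)⟩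
    rw [← map_mul]
    have h1 := Nat.find_spec hex
    rw [show (⟨_, hpow i⟩ : N) * ⟨_, hpow i⟩ = ⟨_, hpow (Nat.find hex)⟩ from Subtype.ext (by
      show (t : G) ^ 2 ^ i * (t : G) ^ 2 ^ i = (t : G) ^ 2 ^ Nat.find hex
      rw [← pow_add, hi, pow_succ, mul_two])]
    exact h1
  have hsys : InvSys H₀ (Fx W P) (Fx W L) := by
    refine ⟨?_, fun A B hAB => ?_, fun a b hab => ?_, fun y hy2 hy1 => ?_⟩
    · rw [hord]
      rw [hj] at hodd
      exact (Nat.odd_pow_iff (pow_ne_zero j two_ne_zero)).1 hodd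
    · obtain ⟨t, ⟨htA, htB⟩, htN, hsq, hne⟩ := hinvol (stabilizer G A.1 ⊓ stabilizer G B.1)
        (fun w hw => ⟨A.2 w hw, B.2 w hw⟩)
        (fun V => sylow_pair_no_config h2 (fun e => hAB (Subtype.ext e)))
      exact ⟨⟨_, ⟨t, htN⟩, rfl⟩, Subtype.ext hsq, fun e => hne (congrArg Subtype.val e),
        Subtype.ext htA, Subtype.ext htB⟩
    · obtain ⟨t, ⟨htA, htB⟩, htN, hsq, hne⟩ := hinvol (stabilizer G a.1 ⊓ stabilizer G b.1)
        (fun w hw => ⟨a.2 w hw, b.2 w hw⟩)
        (fun V => sylow_line_pair_no_config h2 (fun e => hab (Subtype.ext e)))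
      exact ⟨⟨_, ⟨t, htN⟩, rfl⟩, Subtype.ext hsq, fun e => hne (congrArg Subtype.val e),
        Subtype.ext htA, Subtype.ext htB⟩
    · obtain ⟨⟨x, hxN⟩, hxy⟩ := y.2
      refine involution_axis hy2 fun hc => ?_
      obtain ⟨v, u, hu, hv⟩ := Nat.exists_eq_pow_mul_and_not_dvd (orderOf_pos x).ne' 2
        (by norm_num)
      have himg : φ ⟨x ^ u, pow_mem hxN u⟩ = y.1 := by
        obtain ⟨w, rfl⟩ := Nat.odd_iff.2 (Nat.two_dvd_ne_zero.1 hu)
        rw [show (⟨x ^ (2 * w + 1), pow_mem hxN _⟩ : N) = (⟨x, hxN⟩ : N) ^ (2 * w + 1) from rfl,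
          map_pow, hxy, pow_succ, pow_mul, pow_two]
        have : y.1 * y.1 = 1 := congrArg Subtype.val hy2
        rw [this, one_pow, one_mul]
      refine hlift (x ^ u) (pow_mem hxN u) (fun hW => hy1 (Subtype.ext ?_)) ?_ ?_
      · rw [← himg]
        refine IsColl.faithful (P := Fx W P) (L := Fx W L) _ fun p => Subtype.ext ?_
        exact p.2 _ hW
      · rintro ⟨z, hz⟩
        obtain ⟨m, rfl⟩ := Subgroup.mem_zpowers_iff.1 hz
        refine ⟨v, Subtype.ext ?_⟩
        push_cast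
        rw [← zpow_natCast, zpow_comm, zpow_natCast, ← pow_mul, mul_comm, ← hv, pow_orderOf_eq_one]
        simp
      · obtain ⟨p₁, p₂, p₃, l₁, l₂, l₃, a, b, c, d, e, f, hrest⟩ := hc
        have hP : ∀ p : Fx W P, IsFix (Subgroup.zpowers y) p →
            IsFix (W ⊔ Subgroup.zpowers (x ^ u)) (p : P) := by
          intro p hp
          refine isFix_sup.2 ⟨p.2, isFix_zpowers.2 ?_⟩
          have h1 : y.1 • p = p := (isFix_zpowers (t := y)).1 hp
          rw [← himg] at h1
          exact congrArg Subtype.val h1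
        have hL : ∀ p : Fx W L, IsFix (Subgroup.zpowers y) p →
            IsFix (W ⊔ Subgroup.zpowers (x ^ u)) (p : L) := by
          intro p hp
          refine isFix_sup.2 ⟨p.2, isFix_zpowers.2 ?_⟩
          have h1 : y.1 • p = p := (isFix_zpowers (t := y)).1 hp
          rw [← himg] at h1
          exact congrArg Subtype.val h1
        exact ⟨p₁, p₂, p₃, l₁, l₂, l₃, hP _ a, hP _ b, hP _ c, hL _ d, hL _ e, hL _ f, hrest⟩
  have := hsys.isPrimePow_order
  rw [hord] at this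
  rw [hj]
  exact this.pow (pow_ne_zero j two_ne_zero)

end CfsgLib.OstromWagner
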