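import Cfsg.Agent.Lib.OstromWagner.NoPerspectivity

/-!
# A two-transitive plane has central collineations, indeed all elations
-/

namespace CfsgLib.OstromWagner

open Configuration Configuration.ProjectivePlane MulAction

variable {G P L : Type*} [Group G] [Membership P L] [MulAction G P] [MulAction G L]
  [ProjectivePlane P L] [Finite P] [Finite L] [IsColl G P L] [Finite G]

/-- Prime power order without central collineations is impossible. -/
lemma false_of_noPersp_primePow (h2 : TwoTrans G P) (hno : NoPersp G P L)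
    (hn : IsPrimePow (order P L)) : False := by
  classical
  obtain ⟨p, r, hp, hr, hpr⟩ := (isPrimePow_nat_iff _).1 hn
  have : Fact p.Prime := ⟨hp⟩
  set n := order P L
  have hn2 : 2 ≤ n := two_le_order
  have hpn : p ∣ n := hpr ▸ dvd_pow_self p hr.ne'
  -- a fixed flag of a Sylow subgroup
  obtain ⟨S, -, -, hSp, hSm⟩ := exists_sylow_in p (G := G) IsPGroup.of_bot (bot_le : ⊥ ≤ (⊤ : Subgroup G))
  obtain ⟨C, l, hCl, hSC, hSl⟩ : ∃ (C : P) (l : L), C ∈ l ∧ (∀ g ∈ S, g • C = C) ∧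
      ∀ g ∈ S, g • l = l := by
    let A : MulAction S {x : P × L // x.1 ∈ x.2} :=
      { smul := fun g x => ⟨((g : G) • x.1.1, (g : G) • x.1.2),
          (smul_mem_iff (g : G) x.1.1 x.1.2).2 x.2⟩
        one_smul := fun x => Subtype.ext (Prod.ext (one_smul G x.1.1) (one_smul G x.1.2))
        mul_smul := fun a b x => Subtype.ext
          (Prod.ext (mul_smul (a : G) b x.1.1) (mul_smul (a : G) b x.1.2)) }
    have hc : ¬ p ∣ Nat.card {x : P × L // x.1 ∈ x.2} := by
      have e : Nat.card {x : P × L // x.1 ∈ x.2} = Nat.card (Σ l : L, {q : P // q ∈ l}) :=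
        Nat.card_congr ⟨fun x => ⟨x.1.2, x.1.1, x.2⟩, fun x => ⟨(x.2.1, x.1), x.2.2⟩,
          fun _ => rfl, fun _ => rfl⟩
      cases nonempty_fintype L
      rw [e, Nat.card_sigma, Finset.sum_congr rfl (fun l _ => card_on l), Finset.sum_const,
        Finset.card_univ, ← Nat.card_eq_fintype_card, card_lns (P := P), smul_eq_mul]
      intro hd
      rcases hp.dvd_mul.1 hd with h | h
      · exact hp.not_dvd_one ((Nat.dvd_add_right
          (dvd_add (dvd_pow hpn two_ne_zero) hpn)).1 h)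
      · exact hp.not_dvd_one ((Nat.dvd_add_right hpn).1 h)
    obtain ⟨⟨⟨C, l⟩, hCl⟩, hfix⟩ := hSp.nonempty_fixed_point_of_prime_not_dvd_card _ hc
    exact ⟨C, l, hCl, fun g hg => congrArg Prod.fst (congrArg Subtype.val (hfix ⟨g, hg⟩)),
      fun g hg => congrArg Prod.snd (congrArg Subtype.val (hfix ⟨g, hg⟩))⟩
  set K := stabilizer G l with hK
  set K' := stabilizer G C ⊓ stabilizer G l with hK'
  have hSK : S ≤ K := hSl
  have hSK' : S ≤ K' := fun g hg => ⟨hSC g hg, hSl g hg⟩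
  have hmK : ∀ V : Subgroup G, S ≤ V → ¬ p ∣ S.relIndex V := fun V hV h => hSm (by
    rw [Subgroup.relIndex_top_right]
    exact h.trans (Subgroup.relIndex_dvd_index_of_le hV))
  -- transitivity of `S`
  have haff : ∀ X : P, X ∉ l → orbit S X = {Y : P | Y ∉ l} := by
    intro X hX
    have hd := sylow_orbit_dvd hSK hSp (hmK K hSK) X (a := 2 * r)
      (by rw [ncard_orbit_affine h2 hX]; rw [show order P L = p ^ r from hpr.symm, ← pow_mul, mul_comm])
    refine Set.eq_of_subset_of_ncard_le ?_ ?_ (Set.toFinite _)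
    · rintro _ ⟨g, rfl⟩ hc
      exact hX ((smul_mem_iff (g : G) X l).1 (by rw [hSl g g.2]; exact hc))
    · have h1 : {Y : P | Y ∉ l}.ncard = n ^ 2 := by
        rw [← Nat.card_coe_set_eq]; exact card_off l
      rw [h1, ← hpr, ← pow_mul, mul_comm r 2]
      exact Nat.le_of_dvd ((Set.ncard_pos (Set.toFinite _)).2 ⟨X, mem_orbit_self X⟩) hd
  have hline : ∀ D : P, D ∈ l → D ≠ C → orbit S D = {Y : P | Y ∈ l} \ {C} := by
    intro D hD hDC
    have h1 : ({Y : P | Y ∈ l} \ {C}).ncard = n := by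
      rw [Set.ncard_sdiff_singleton_of_mem (show C ∈ {Y : P | Y ∈ l} from hCl),
        ← Nat.card_coe_set_eq]
      have : Nat.card ↥{Y : P | Y ∈ l} = order P L + 1 := card_on l
      rw [this, Nat.add_sub_cancel]
    have hsub : ∀ V : Subgroup G, V ≤ K' → orbit V D ⊆ {Y : P | Y ∈ l} \ {C} := by
      intro V hV
      rintro _ ⟨g, rfl⟩
      refine ⟨show (g : G) • D ∈ l from smul_mem_of_fixed (hV g.2).2 hD, fun e => hDC ?_⟩
      exact MulAction.injective (g : G) (e.trans (hV g.2).1.symm)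
    have hK'orb : orbit K' D = {Y : P | Y ∈ l} \ {C} := by
      refine Set.Subset.antisymm (hsub K' le_rfl) ?_
      rintro Y ⟨hY, hYC⟩
      obtain ⟨g, hgl, hgC, hgD⟩ :=
        exists_smul_on_line h2 (Ne.symm hDC) (Ne.symm hYC) hCl hD hCl hY
      exact ⟨⟨g, hgC, hgl⟩, hgD⟩
    have hd := sylow_orbit_dvd hSK' hSp (hmK K' hSK') D (a := r) (by rw [hK'orb, h1, hpr])
    refine Set.eq_of_subset_of_ncard_le (hsub S hSK') ?_ (Set.toFinite _)
    rw [h1, ← hpr]
    exact Nat.le_of_dvd ((Set.ncard_pos (Set.toFinite _)).2 ⟨D, mem_orbit_self D⟩) hd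
  -- a central element fixing only `C`
  obtain ⟨X₀, hX₀⟩ := Nondegenerate.exists_point (P := P) l
  obtain ⟨D₀, hD₀, hD₀C⟩ := exists_ne_on C l
  have hSn : Nontrivial S := by
    refine Finite.one_lt_card_iff_nontrivial.1 ?_
    have h1 := ncard_orbit_mul S X₀
    have h3 : {Y : P | Y ∉ l}.ncard = n ^ 2 := by
      rw [← Nat.card_coe_set_eq]; exact card_off l
    rw [haff X₀ hX₀, h3] at h1
    have h4 := Nat.card_pos (α := (S ⊓ stabilizer G X₀ : Subgroup G))
    nlinarith
  have := hSp.center_nontrivial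
  obtain ⟨z', hz'⟩ := exists_ne (1 : Subgroup.center S)
  set z : G := ((z' : S) : G) with hz
  have hz1 : z ≠ 1 := fun e => hz' (Subtype.ext (Subtype.ext e))
  have hzS : z ∈ S := (z' : S).2
  have hzc : ∀ g ∈ S, g * z = z * g := fun g hg =>
    congrArg Subtype.val (Subgroup.mem_center_iff.1 z'.2 ⟨g, hg⟩)
  have hzmove : ∀ (Y : P) (g : S), z • Y = Y → z • ((g : G) • Y) = (g : G) • Y := fun Y g h => by
    rw [← mul_smul, ← hzc g g.2, mul_smul, h]
  have hzline : ∀ D : P, D ∈ l → z • D = D → D = C := by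
    intro D hD hzD
    by_contra hDC
    refine hz1 (hno z l fun Y hY => ?_)
    by_cases e : Y = C
    · exact e ▸ hSC z hzS
    have : Y ∈ orbit S D := by rw [hline D hD hDC]; exact ⟨hY, e⟩
    obtain ⟨g, rfl⟩ := this
    exact hzmove D g hzD
  have hzaff : ∀ X : P, X ∉ l → z • X ≠ X := by
    intro X hX hzX
    have hall : ∀ Y : P, Y ∉ l → z • Y = Y := fun Y hY => by
      have : Y ∈ orbit S X := by rw [haff X hX]; exact hY
      obtain ⟨g, rfl⟩ := this
      exact hzmove X g hzX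
    refine hz1 (eq_one_of_lines (L := L) P fun m => ?_)
    by_cases hm : m = l
    · exact hm ▸ hSl z hzS
    obtain ⟨D, hDm, hDl⟩ := exists_meet (P := P) m l
    obtain ⟨A, hA, hAD⟩ := exists_ne_on D m
    obtain ⟨B, hB, hBD, hBA⟩ := exists_ne_ne_on D A m
    exact line_fixed hBA.symm (hall A fun h => hAD (point_unique hm hA h hDm hDl))
      (hall B fun h => hBD (point_unique hm hB h hDm hDl)) hA hB
  -- elements of `S` with fixed points only on `l` fix only lines through `C`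
  have hkey : ∀ s ∈ S, (∀ X : P, X ∉ l → s • X ≠ X) → ∀ m : L, m ≠ l → s • m = m → C ∈ m := by
    intro s hs hsaff m hml hsm
    obtain ⟨E, hEm, hEl⟩ := exists_meet (P := P) m l
    by_contra hCm
    have hEC : E ≠ C := fun e => hCm (e ▸ hEm)
    have hzE : z • E ≠ E := fun h => hEC (hzline E hEl h)
    have hzm : s • (z • m) = z • m := by rw [← mul_smul, hzc s hs, mul_smul, hsm]
    have hne : m ≠ z • m := fun e => hzE (point_unique hml
      (e ▸ (smul_mem_iff z E m).2 hEm) (smul_mem_of_fixed (hSl z hzS) hEl) hEm hEl)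
    obtain ⟨X, hXm, hXzm⟩ := exists_meet (P := P) m (z • m)
    have hXl : X ∉ l := by
      intro hXl
      have h1 : X = E := point_unique hml hXm hXl hEm hEl
      subst h1
      refine hzE (point_unique (fun e : z • m = l => hml ?_) ((smul_mem_iff z X m).2 hEm)
        (smul_mem_of_fixed (hSl z hzS) hEl) hXzm hEl)
      exact MulAction.injective z (e.trans (hSl z hzS).symm)
    exact hsaff X hXl (point_fixed hne hsm hzm hXm hXzm)
  -- Burnside
  let a : G → ℕ := fun g => {Y : P | Y ∈ orbit S X₀ ∧ g • Y = Y}.ncard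
  let b : G → ℕ := fun g => {Y : P | Y ∈ orbit S D₀ ∧ g • Y = Y}.ncard
  cases nonempty_fintype S
  obtain ⟨g, hgne, hgab⟩ : ∃ g : S, g ≠ 1 ∧ a g < b g := by
    by_contra hc
    push Not at hc
    have h1 : ∑ g : S, b g = Nat.card S := sum_fixed_orbit S D₀
    have h3 : ∑ g : S, a g = Nat.card S := sum_fixed_orbit S X₀
    have hlt : ∑ g : S, b g < ∑ g : S, a g := by
      refine Finset.sum_lt_sum (fun g _ => ?_) ⟨1, Finset.mem_univ _, ?_⟩
      · by_cases e : g = 1
        · subst e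
          simp only [a, b, OneMemClass.coe_one, one_smul, and_true, Set.setOf_mem_eq,
            haff X₀ hX₀, hline D₀ hD₀ hD₀C]
          rw [Set.ncard_sdiff_singleton_of_mem (show C ∈ {Y : P | Y ∈ l} from hCl)]
          have e1 : {Y : P | Y ∈ l}.ncard = n + 1 := by
            rw [← Nat.card_coe_set_eq]; exact card_on l
          have e2 : {Y : P | Y ∉ l}.ncard = n ^ 2 := by
            rw [← Nat.card_coe_set_eq]; exact card_off l
          rw [e1, e2, Nat.add_sub_cancel]
          exact Nat.le_self_pow two_ne_zero n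
        · exact hc g e
      · simp only [a, b, OneMemClass.coe_one, one_smul, and_true, Set.setOf_mem_eq,
          haff X₀ hX₀, hline D₀ hD₀ hD₀C]
        rw [Set.ncard_sdiff_singleton_of_mem (show C ∈ {Y : P | Y ∈ l} from hCl)]
        have e1 : {Y : P | Y ∈ l}.ncard = n + 1 := by
          rw [← Nat.card_coe_set_eq]; exact card_on l
        have e2 : {Y : P | Y ∉ l}.ncard = n ^ 2 := by
          rw [← Nat.card_coe_set_eq]; exact card_off l
        rw [e1, e2, Nat.add_sub_cancel]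
        nlinarith
    omega
  obtain ⟨g, hgS⟩ := g
  simp only [a, b, haff X₀ hX₀, hline D₀ hD₀ hD₀C] at hgab
  set SA := {Y : P | Y ∈ {Y : P | Y ∉ l} ∧ g • Y = Y} with hSA
  set SB := {Y : P | Y ∈ {Y : P | Y ∈ l} \ {C} ∧ g • Y = Y} with hSB
  obtain ⟨D, ⟨hDl, hDC⟩, hgD⟩ := Set.nonempty_of_ncard_ne_zero (show SB.ncard ≠ 0 by omega)
  have hgaff : ∀ X : P, X ∉ l → g • X ≠ X := by
    intro X hX hgX
    -- there is a second fixed affine point
    have hmod := fixed_ncard_modEq (p := p) (U := Subgroup.zpowers g)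
      (hSp.to_le (Subgroup.zpowers_le.2 hgS)) {Y : P | Y ∉ l} (fun u hu Y hY hc =>
        hY ((smul_mem_iff u Y l).1 (by rw [hSl u (Subgroup.zpowers_le.2 hgS hu)]; exact hc)))
    have e : {Y : P | Y ∈ {Y : P | Y ∉ l} ∧ ∀ u ∈ Subgroup.zpowers g, u • Y = Y} = SA := by
      ext Y
      exact and_congr_right fun _ => (isFix_zpowers (t := g) (x := Y))
    rw [e] at hmod
    have hSAp : p ∣ SA.ncard := by
      have h1 : {Y : P | Y ∉ l}.ncard = n ^ 2 := by
        rw [← Nat.card_coe_set_eq]; exact card_off l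
      rw [h1] at hmod
      exact (Nat.ModEq.dvd_iff hmod dvd_rfl).1 (dvd_pow hpn two_ne_zero)
    have hpos : 0 < SA.ncard := (Set.ncard_pos (Set.toFinite _)).2 ⟨X, hX, hgX⟩
    have hge := Nat.le_of_dvd hpos hSAp
    obtain ⟨Y, ⟨hY, hgY⟩, hYX⟩ := Set.exists_ne_of_one_lt_ncard
      (show 1 < SA.ncard by have := hp.two_le; omega) X
    obtain ⟨m, hXm, hYm⟩ := exists_line_through (L := L) X Y
    obtain ⟨E, hEm, hEl⟩ := exists_meet (P := P) m l
    set FX := {Q : P | Q ∈ l ∧ g • Q = Q} with hFX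
    have hins : FX = insert C SB := by
      ext Q
      simp only [hFX, hSB, Set.mem_insert_iff, Set.mem_setOf_eq, Set.mem_sdiff, Set.mem_singleton_iff]
      constructor
      · rintro ⟨h1, h3⟩
        exact (em (Q = C)).imp id fun h => ⟨⟨h1, h⟩, h3⟩
      · rintro (rfl | ⟨⟨h1, -⟩, h3⟩)
        · exact ⟨hCl, hSC g hgS⟩
        · exact ⟨h1, h3⟩
    have hFXc : FX.ncard = SB.ncard + 1 := by
      rw [hins, Set.ncard_insert_of_notMem (fun h => h.1.2 rfl) (Set.toFinite _)]
    obtain ⟨Q₀, ⟨hQ₀l, hgQ₀⟩, hQ₀E⟩ := Set.exists_ne_of_one_lt_ncard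
      (show 1 < FX.ncard by omega) E
    obtain ⟨u, hXu, hQ₀u⟩ := exists_line_through (L := L) X Q₀
    have hXQ₀ : X ≠ Q₀ := fun e => hX (e ▸ hQ₀l)
    have hu : g • u = u := line_fixed hXQ₀ hgX hgQ₀ hXu hQ₀u
    have hml : m ≠ l := fun e => hX (e ▸ hXm)
    have hul : u ≠ l := fun e => hX (e ▸ hXu)
    have hYu : Y ∉ u := fun h => hQ₀E (point_unique hml
      (line_unique hYX.symm hXu h hXm hYm ▸ hQ₀u) hQ₀l hEm hEl)
    choose v hvQ hvY using fun Q : P => exists_line_through (L := L) Q Y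
    choose π hπ1 hπ2 using fun Q : P => exists_meet (P := P) (v Q) u
    have hmaps : ∀ Q ∈ FX \ {Q₀}, π Q ∈ SA := by
      rintro Q ⟨⟨hQl, hgQ⟩, hQ⟩
      have hQY : Q ≠ Y := fun e => hY (e ▸ hQl)
      have hv : g • v Q = v Q := line_fixed hQY hgQ hgY (hvQ Q) (hvY Q)
      have hvu : v Q ≠ u := fun e => hYu (e ▸ hvY Q)
      refine ⟨fun hc => ?_, point_fixed hvu hv hu (hπ1 Q) (hπ2 Q)⟩
      have h3 : π Q = Q₀ := point_unique hul (hπ2 Q) hc hQ₀u hQ₀l
      have hvl : v Q ≠ l := fun e => hY (e ▸ hvY Q)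
      exact hQ (point_unique hvl (hvQ Q) hQl (h3 ▸ hπ1 Q) hQ₀l)
    have hinj : Set.InjOn π (FX \ {Q₀}) := by
      rintro Q ⟨⟨hQl, -⟩, -⟩ Q' ⟨⟨hQ'l, -⟩, -⟩ e
      have hvl : v Q ≠ l := fun e => hY (e ▸ hvY Q)
      have hne : π Q ≠ Y := fun e' => hYu (e' ▸ hπ2 Q)
      have hvv : v Q = v Q' := line_unique hne (hπ1 Q) (hvY Q) (e ▸ hπ1 Q') (hvY Q')
      exact point_unique hvl (hvQ Q) hQl (hvv ▸ hvQ Q') hQ'l
    have h3 := Set.ncard_le_ncard_of_injOn π hmaps hinj (Set.toFinite _)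
    rw [Set.ncard_sdiff_singleton_of_mem (show Q₀ ∈ FX from ⟨hQ₀l, hgQ₀⟩)] at h3
    omega
  -- a fixed affine line passes through `C`
  have hfixcard := fix_card_eq (P := P) (L := L) g
  have hnontriv : Nontrivial {Y : P // g • Y = Y} :=
    ⟨⟨C, hSC g hgS⟩, ⟨D, hgD⟩, fun e => hDC (congrArg Subtype.val e).symm⟩
  have hlt := Finite.one_lt_card_iff_nontrivial.2 hnontriv
  rw [hfixcard] at hlt
  have := Finite.one_lt_card_iff_nontrivial.1 hlt
  obtain ⟨⟨m, hgm⟩, hne⟩ := exists_ne (⟨l, hSl g hgS⟩ : {k : L // g • k = k})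
  have hml : m ≠ l := fun e => hne (Subtype.ext e)
  have hCm := hkey g hgS hgaff m hml hgm
  -- the same, with `D` in the place of `C`
  obtain ⟨h, hhC, hhl⟩ := exists_smul_flag h2 hCl hDl
  have hinvl : h⁻¹ • l = l := by rw [inv_smul_eq_iff, hhl]
  have hs₀ : h⁻¹ * g * h ∈ K' := by
    refine ⟨?_, ?_⟩ <;> show _ • _ = _
    · rw [mul_smul, mul_smul, hhC, hgD, inv_smul_eq_iff, hhC]
    · rw [mul_smul, mul_smul, hhl, hSl g hgS, hinvl]
  have hpg : IsPGroup p (Subgroup.zpowers (h⁻¹ * g * h)) := by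
    have h1 : IsPGroup p ((Subgroup.zpowers g).map (MulAut.conj h⁻¹).toMonoidHom) :=
      (hSp.to_le (Subgroup.zpowers_le.2 hgS)).map _
    rw [MonoidHom.map_zpowers] at h1
    rwa [show (MulAut.conj h⁻¹).toMonoidHom g = h⁻¹ * g * h from by simp] at h1
  obtain ⟨x, hx, hxs⟩ := exists_conj_mem_sylow hSK' hSp (hmK K' hSK') hs₀ hpg
  set u := x * h⁻¹ with hu
  have hus : u * g * u⁻¹ ∈ S := by
    simpa [hu, mul_assoc] using hxs
  have hul : u • l = l := by rw [hu, mul_smul, hinvl]; exact hx.2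
  have huD : u • D = C := by
    rw [hu, mul_smul, inv_smul_eq_iff.2 hhC.symm]
    exact hx.1
  have hCum := hkey _ hus (fun X hX e => hgaff (u⁻¹ • X)
      (fun hc => hX (by
        have := (smul_mem_iff u (u⁻¹ • X) l).2 hc
        rwa [smul_inv_smul, hul] at this))
      (by rwa [mul_smul, mul_smul, ← eq_inv_smul_iff] at e))
    (u • m) (fun e => hml (MulAction.injective u (e.trans hul.symm)))
    (by rw [mul_smul, mul_smul, inv_smul_smul, hgm])
  rw [← huD, smul_mem_iff] at hCum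
  exact hml (line_unique (Ne.symm hDC) hCm hCum hCl hDl)

/-- A two-transitive plane has a nontrivial central collineation. -/
lemma exists_perspectivity (h2 : TwoTrans G P) :
    ∃ (g : G) (l : L), g ∈ Axial G P l ∧ g ≠ 1 := by
  by_contra hc
  push Not at hc
  exact false_of_noPersp_primePow h2 hc (isPrimePow_of_noPersp h2 hc)

/-- Every line has a nontrivial elation. -/
lemma exists_elation (h2 : TwoTrans G P) (l : L) : ∃ g ∈ Elat G P l, g ≠ 1 := by
  classical
  obtain ⟨g, m, hg, hg1⟩ := exists_perspectivity (G := G) (L := L) h2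
  obtain ⟨a, ha⟩ := exists_smul_lines (P := P) h2 m l
  have hl := conj_mem_axial (g := a) hg
  rw [ha] at hl
  have h1 : a * g * a⁻¹ ≠ 1 := fun e => hg1 (conj_eq_one_iff.1 e)
  generalize a * g * a⁻¹ = f at hl h1
  obtain ⟨C, hC⟩ := exists_centre hl
  by_cases hCl : C ∈ l
  · exact ⟨f, mem_elat hl hCl hC, h1⟩
  obtain ⟨Z, hZl, hZC⟩ : ∃ Z : P, Z ∉ l ∧ Z ≠ C := by
    by_contra hc
    push Not at hc
    have : Subsingleton {Z : P // Z ∉ l} :=
      ⟨fun a b => Subtype.ext ((hc _ a.2).trans (hc _ b.2).symm)⟩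
    have h3 := Finite.card_le_one_iff_subsingleton.2 this
    rw [card_off] at h3
    have := two_le_order (P := P) (L := L)
    nlinarith
  obtain ⟨b, hbC, hbl⟩ := exists_smul_antiflag h2 hCl hZl
  have hf' := conj_mem_axial (g := b) hl
  rw [hbl] at hf'
  obtain ⟨τ, hτ, hτC⟩ := exists_elat_smul_centre hCl hZl hl h1 (cen_fix hC) hf'
    (fun e => h1 (conj_eq_one_iff.1 e))
    (by rw [mul_smul, mul_smul, inv_smul_eq_iff.2 hbC.symm, cen_fix hC, hbC])
  exact ⟨τ, hτ, fun e => hZC (by rw [← hτC, e, one_smul])⟩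

/-- For every flag the elations with that centre and axis form a group of order `n`, and `n` is a
prime power; all elations with a given axis form an elementary abelian group of order `n²`. -/
lemma elat_full (h2 : TwoTrans G P) (l : L) :
    ∃ p : ℕ, p.Prime ∧ (∀ C, C ∈ l → Nat.card (TDir G l C) = order P L) ∧
      Nat.card (Elat G P l) = order P L ^ 2 ∧ (∀ x ∈ Elat G P l, x ^ p = 1) ∧
      ∀ x ∈ Elat G P l, ∀ y ∈ Elat G P l, Commute x y := by
  classical
  cases nonempty_fintype P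
  cases nonempty_fintype G
  set n := order P L
  obtain ⟨g, hg, hg1⟩ := exists_elation h2 l
  obtain ⟨hga, C₀, hC₀, hgC⟩ := hg
  have hconst : ∀ C, C ∈ l → Nat.card (TDir G l C) = Nat.card (TDir G l C₀) := by
    intro C hC
    obtain ⟨a, haC, hal⟩ := exists_smul_flag h2 hC₀ hC
    have e : TDir G l C₀ ≃ TDir G l C :=
      { toFun := fun x => ⟨a * x * a⁻¹, by
          have := conj_mem_tdir (g := a) x.2; rwa [haC, hal] at this⟩
        invFun := fun x => ⟨a⁻¹ * x * a⁻¹⁻¹, by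
          have := conj_mem_tdir (g := a⁻¹) x.2
          rwa [inv_smul_eq_iff.2 haC.symm, inv_smul_eq_iff.2 hal.symm] at this⟩
        left_inv := fun x => Subtype.ext (by simp [mul_assoc])
        right_inv := fun x => Subtype.ext (by simp [mul_assoc]) }
    exact (Nat.card_congr e).symm
  set h := Nat.card (TDir G l C₀) with hh
  have hh2 : 2 ≤ h := by
    have : Nontrivial (TDir G l C₀) :=
      ⟨⟨g, hga, hgC⟩, 1, fun e => hg1 (congrArg Subtype.val e)⟩
    exact Finite.one_lt_card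
  obtain ⟨C₁, hC₁, hC₁₀⟩ := exists_ne_on C₀ l
  obtain ⟨g₁, hg₁1⟩ : ∃ g₁ : TDir G l C₁, g₁ ≠ 1 := by
    have : Nontrivial (TDir G l C₁) :=
      Finite.one_lt_card_iff_nontrivial.1 (by rw [hconst C₁ hC₁]; omega)
    exact exists_ne 1
  obtain ⟨p, hp, hexp, hpg, hcomm⟩ := elat_elementary (C := C₀) (C' := C₁) hC₁₀.symm hC₀ hC₁
    (g := g) ⟨hga, hgC⟩ hg1 (h := g₁) g₁.2 (fun e => hg₁1 (Subtype.ext e))
  have : Fact p.Prime := ⟨hp⟩
  obtain ⟨e, he⟩ := IsPGroup.iff_card.1 hpg
  obtain ⟨s, hs⟩ := IsPGroup.iff_card.1 (hpg.to_le (tdir_le_elat hC₀))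
  have hs' : h = p ^ s := hs
  have hpart : p ^ e = 1 + (n + 1) * (h - 1) := by
    let D : P → Finset G := fun E => (Finset.univ.filter fun y => y ∈ TDir G l E).erase 1
    set pts := Finset.univ.filter fun E : P => E ∈ l with hpts
    have hptsc : pts.card = n + 1 := by
      rw [hpts, ← Fintype.card_subtype, ← Nat.card_eq_fintype_card, card_on]
    have hd : (pts : Set P).PairwiseDisjoint D := by
      intro E _ E' _ hne
      simp only [Function.onFun, D]
      rw [Finset.disjoint_left]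
      intro y hy hy'
      simp only [Finset.mem_erase, Finset.mem_filter, Finset.mem_univ, true_and] at hy hy'
      exact hy.1 (eq_one_of_two_centres hne hy.2.2 hy'.2.2)
    have heq : pts.biUnion D = (Finset.univ.filter fun y => y ∈ Elat G P l).erase 1 := by
      ext y
      simp only [D, Finset.mem_biUnion, Finset.mem_erase, Finset.mem_filter, Finset.mem_univ,
        true_and, hpts]
      exact ⟨fun ⟨E, hE, hy1, hyE⟩ => ⟨hy1, tdir_le_elat hE hyE⟩,
        fun ⟨hy1, hya, E, hE, hyE⟩ => ⟨E, hE, hy1, hya, hyE⟩⟩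
    have h1 := congrArg Finset.card heq
    rw [Finset.card_biUnion hd, Finset.card_erase_of_mem (by simp [one_mem]),
      ← Fintype.card_subtype, ← Nat.card_eq_fintype_card, he] at h1
    rw [Finset.sum_congr rfl (g := fun _ => h - 1) (fun E hE => ?_), Finset.sum_const, hptsc,
      smul_eq_mul] at h1
    · have := pow_pos hp.pos e
      omega
    · rw [hpts, Finset.mem_filter] at hE
      simp only [D]
      rw [Finset.card_erase_of_mem (by simp [one_mem]), ← Fintype.card_subtype,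
        ← Nat.card_eq_fintype_card, hconst E hE.2]
  have hhn : h ∣ n := hh ▸ tdir_card_dvd hC₀
  have hen : p ^ e ∣ n ^ 2 := he ▸ elat_card_dvd l
  obtain ⟨m, hm⟩ := hhn
  have hn0 : 2 ≤ n := two_le_order
  have hm0 : 1 ≤ m := Nat.pos_of_ne_zero (by rintro rfl; rw [mul_zero] at hm; omega)
  obtain ⟨j, hj⟩ : ∃ j, h = j + 1 := ⟨h - 1, by omega⟩
  rw [hj, Nat.add_sub_cancel] at hpart
  rw [hj] at hm
  -- `p ^ e = h * (1 + m * (h - 1))`
  have hfac : p ^ e = (j + 1) * (1 + m * j) := by rw [hpart, hm]; ring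
  have hmp : ¬ p ∣ m := by
    intro hd
    have h1 : (1 + m * j) ∣ p ^ e := Dvd.intro_left _ hfac.symm
    obtain ⟨i, -, hi⟩ := (Nat.dvd_prime_pow hp).1 h1
    rcases Nat.eq_zero_or_pos i with rfl | hi0
    · rw [pow_zero] at hi
      nlinarith
    · have h3 : p ∣ 1 + m * j := hi ▸ dvd_pow_self p hi0.ne'
      exact hp.not_dvd_one ((Nat.dvd_add_left (Dvd.dvd.mul_right hd j)).1 h3)
  have hdle : p ^ e ∣ (j + 1) ^ 2 := by
    rw [hm, mul_pow] at hen
    exact ((hp.coprime_iff_not_dvd.2 hmp).pow e 2).dvd_of_dvd_mul_right hen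
  have hle := Nat.le_of_dvd (by positivity) hdle
  rw [hfac, pow_two] at hle
  have hm1 : m = 1 := by
    have h1 : 1 + m * j ≤ j + 1 := Nat.le_of_mul_le_mul_left hle (by omega)
    nlinarith
  refine ⟨p, hp, fun C hC => by rw [hconst C hC, hm, hm1, mul_one, hj], ?_, hexp, hcomm⟩
  rw [he, hfac, hm, hm1]
  ring

end CfsgLib.OstromWagner
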