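import Mathlib

/-!
# Spread sets closed under inversion are closed under `a b a`
-/

namespace CfsgLib.OstromWagner

/-- An additive group of bijections, with the additive group of their inverses. -/
structure Spread (A : Type*) [Ring A] (p : ℕ) where
  S : AddSubgroup A
  S' : AddSubgroup A
  one_mem : (1 : A) ∈ S
  isUnit : ∀ a ∈ S, a ≠ 0 → IsUnit a
  isUnit' : ∀ a ∈ S', a ≠ 0 → IsUnit a
  inv_mem : ∀ u : Aˣ, (u : A) ∈ S ↔ ((u⁻¹ : Aˣ) : A) ∈ S'
  prime : p.Prime
  char : (p : A) = 0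

variable {A : Type*} [Ring A] [Nontrivial A] {p : ℕ} (D : Spread A p)

namespace Spread

/-- Hua's identity. -/
lemma hua {a b : A} (ha : a ∈ D.S) (hb : b ∈ D.S') : a * b * a ∈ D.S := by
  by_cases ha0 : a = 0
  · simp [ha0, D.S.zero_mem]
  by_cases hb0 : b = 0
  · simp [hb0, D.S.zero_mem]
  obtain ⟨ua, hua⟩ := D.isUnit a ha ha0
  obtain ⟨ub, hub⟩ := D.isUnit' b hb hb0
  have hb' : ((ub⁻¹ : Aˣ) : A) ∈ D.S := (D.inv_mem ub⁻¹).2 (by rw [inv_inv, hub]; exact hb)
  by_cases hs : a + ((ub⁻¹ : Aˣ) : A) = 0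
  · have e : a * b = -1 := by
      rw [eq_neg_of_add_eq_zero_left hs, ← hub, neg_mul, ub.inv_mul]
    rw [e, neg_one_mul]
    exact D.S.neg_mem ha
  obtain ⟨uc, huc⟩ := D.isUnit _ (D.S.add_mem ha hb') hs
  set w := ua⁻¹ * ub⁻¹ * uc⁻¹ with hw
  have hw' : (w : A) = ((ua⁻¹ : Aˣ) : A) - ((uc⁻¹ : Aˣ) : A) := by
    have h1 : ((ub⁻¹ : Aˣ) : A) = (uc : A) - (ua : A) := by rw [huc, hua]; abel
    rw [hw, Units.val_mul, Units.val_mul, h1, mul_sub, sub_mul, mul_assoc, Units.mul_inv,
      mul_one, Units.inv_mul, one_mul]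
  have hmem : (w : A) ∈ D.S' := by
    rw [hw']
    exact D.S'.sub_mem ((D.inv_mem ua).1 (by rw [hua]; exact ha))
      ((D.inv_mem uc).1 (by rw [huc]; exact D.S.add_mem ha hb'))
  have h2 : ((w⁻¹ : Aˣ) : A) ∈ D.S := (D.inv_mem w⁻¹).2 (by rwa [inv_inv])
  have h3 : ((w⁻¹ : Aˣ) : A) = a * b * a + a := by
    rw [hw, mul_inv_rev, mul_inv_rev, inv_inv, inv_inv, inv_inv, Units.val_mul, Units.val_mul,
      huc, hua, hub, add_mul, ← hub, ← mul_assoc, Units.inv_mul_cancel_left]
  rw [h3] at h2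
  have := D.S.sub_mem h2 ha
  rwa [add_sub_cancel_right] at this

lemma mem_iff_mem' (a : A) : a ∈ D.S' ↔ a ∈ D.S := by
  have key : ∀ b ∈ D.S', b ∈ D.S := fun b hb => by
    simpa using D.hua D.one_mem hb
  refine ⟨key a, fun ha => ?_⟩
  by_cases h : a = 0
  · rw [h]; exact D.S'.zero_mem
  obtain ⟨u, rfl⟩ := D.isUnit a ha h
  have := key _ ((D.inv_mem u).1 ha)
  simpa using (D.inv_mem u⁻¹).1 this

lemma aba {a b : A} (ha : a ∈ D.S) (hb : b ∈ D.S) : a * b * a ∈ D.S :=
  D.hua ha ((D.mem_iff_mem' b).2 hb)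

lemma abc_cba {a b c : A} (ha : a ∈ D.S) (hb : b ∈ D.S) (hc : c ∈ D.S) :
    a * b * c + c * b * a ∈ D.S := by
  have h := D.S.sub_mem (D.S.sub_mem (D.aba (D.S.add_mem ha hc) hb) (D.aba ha hb)) (D.aba hc hb)
  convert h using 1
  simp only [add_mul, mul_add]
  abel

lemma pow_mem {a : A} (ha : a ∈ D.S) : ∀ m : ℕ, a ^ m ∈ D.S
  | 0 => by rw [pow_zero]; exact D.one_mem
  | 1 => by rwa [pow_one]
  | m + 2 => by
    rw [show a ^ (m + 2) = a * a ^ m * a by rw [← pow_succ', ← pow_succ]]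
    exact D.aba ha (pow_mem ha m)

lemma zsmul_half (hp2 : p ≠ 2) {x : A} (hx : x + x ∈ D.S) : x ∈ D.S := by
  have hodd := D.prime.odd_of_ne_two hp2
  obtain ⟨j, hj⟩ := hodd
  have := D.S.nsmul_mem hx (j + 1)
  rwa [← two_nsmul, ← mul_nsmul', show (j + 1) * 2 = p + 1 by omega, add_nsmul, one_nsmul,
    nsmul_eq_mul, D.char, zero_mul, zero_add] at this

/-- A commutative subring contained in `S`. -/
def InS (R : Subring A) : Prop :=
  (R : Set A) ⊆ D.S ∧ ∀ a ∈ R, ∀ b ∈ R, a * b = b * a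

lemma inS_bot : D.InS ⊥ := by
  refine ⟨fun a ha => ?_, fun a ha b hb => ?_⟩
  · obtain ⟨n, rfl⟩ := Subring.mem_bot.1 ha
    simpa using D.S.zsmul_mem D.one_mem n
  · obtain ⟨n, rfl⟩ := Subring.mem_bot.1 ha
    exact (Int.cast_commute n b).eq

/-- Nonzero elements of a subring inside `S` cancel. -/
lemma inS_mul_eq_zero {R : Subring A} (hR : D.InS R) {a b : A} (ha : a ∈ R) (hab : a * b = 0) :
    a = 0 ∨ b = 0 := by
  by_cases h : a = 0
  · exact Or.inl h
  · obtain ⟨u, rfl⟩ := D.isUnit a (hR.1 ha) h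
    exact Or.inr ((Units.mul_right_eq_zero u).1 hab)

/-- In characteristic two every element of a subring inside `S` is a square. -/
lemma inS_sqrt [Finite A] {R : Subring A} (hR : D.InS R) (hp2 : p = 2) {f : A} (hf : f ∈ R) :
    ∃ h ∈ R, h * h = f := by
  let q : R → R := fun h => h * h
  have hq : Function.Injective q := by
    intro x y e
    have e' : (x : A) * x = y * y := congrArg Subtype.val e
    have h2 : (2 : A) = 0 := by have := D.char; rw [hp2] at this; exact_mod_cast this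
    have hsub : ((x : A) - y) * ((x : A) - y) = 0 := by
      rw [sub_mul, mul_sub, mul_sub, hR.2 _ y.2 _ x.2, e']
      have : (y : A) * y + y * y = 0 := by rw [← two_mul, h2, zero_mul]
      have h3 : (x : A) * y + x * y = 0 := by rw [← two_mul, h2, zero_mul]
      calc (y : A) * y - x * y - (x * y - y * y) = (y * y + y * y) - (x * y + x * y) := by abel
        _ = 0 := by rw [this, h3, sub_zero]
    rcases D.inS_mul_eq_zero hR (R.sub_mem x.2 y.2) hsub with h | h <;>
      exact Subtype.ext (sub_eq_zero.1 h)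
  obtain ⟨h, hh⟩ := (Finite.injective_iff_surjective.1 hq) ⟨f, hf⟩
  exact ⟨h, h.2, congrArg Subtype.val hh⟩

/-- An element of `S` centralising a subring inside `S` generates one with it. -/
lemma inS_closure [Finite A] {R : Subring A} (hR : D.InS R) {y : A} (hy : y ∈ D.S)
    (hc : ∀ f ∈ R, f * y = y * f) :
    D.InS (Subring.closure ((R : Set A) ∪ {y})) := by
  have hfy : ∀ f ∈ R, ∀ z ∈ D.S, (∀ r ∈ R, r * z = z * r) → f * z ∈ D.S := by
    intro f hf z hz hrz
    by_cases hp2 : p = 2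
    · obtain ⟨h, hh, rfl⟩ := D.inS_sqrt hR hp2 hf
      rw [mul_assoc, hrz h hh, ← mul_assoc]
      exact D.aba (hR.1 hh) hz
    · refine D.zsmul_half hp2 ?_
      have := D.abc_cba (hR.1 hf) D.one_mem hz
      rwa [mul_one, mul_one, ← hrz f hf] at this
  have hcm : ∀ (f : A), f ∈ R → ∀ m : ℕ, f * y ^ m = y ^ m * f := fun f hf m =>
    (show Commute f y from hc f hf).pow_right m
  refine ⟨fun a ha => ?_, ?_⟩
  · rw [SetLike.mem_coe, Subring.mem_closure_iff] at ha
    induction ha using AddSubgroup.closure_induction with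
    | mem a ha =>
      obtain ⟨f, hf, m, rfl⟩ : ∃ f ∈ R, ∃ m : ℕ, a = f * y ^ m := by
        induction ha using Submonoid.closure_induction with
        | mem a ha =>
          rcases ha with ha | rfl
          · exact ⟨a, ha, 0, by simp⟩
          · exact ⟨1, R.one_mem, 1, by simp⟩
        | one => exact ⟨1, R.one_mem, 0, by simp⟩
        | mul a b _ _ iha ihb =>
          obtain ⟨f, hf, m, rfl⟩ := iha
          obtain ⟨f', hf', m', rfl⟩ := ihb
          refine ⟨f * f', R.mul_mem hf hf', m + m', ?_⟩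
          rw [mul_assoc, ← mul_assoc (y ^ m) f', ← hcm f' hf' m, pow_add]
          simp only [mul_assoc]
      exact hfy f hf _ (D.pow_mem hy m) fun r hr => hcm r hr m
    | zero => exact D.S.zero_mem
    | add a b _ _ iha ihb => exact D.S.add_mem iha ihb
    | neg a _ iha => exact D.S.neg_mem iha
  · intro a ha b hb
    induction ha, hb using Subring.closure_induction₂ with
    | mem_mem a b ha hb =>
      rcases ha with ha | rfl <;> rcases hb with hb | rfl
      · exact hR.2 a ha b hb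
      · exact hc a ha
      · exact (hc b hb).symm
      · rfl
    | zero_left => simp
    | zero_right => simp
    | one_left => simp
    | one_right => simp
    | add_left a b c _ _ _ h1 h2 => rw [add_mul, mul_add, h1, h2]
    | add_right a b c _ _ _ h1 h2 => rw [add_mul, mul_add, h1, h2]
    | neg_left a b _ _ h1 => rw [neg_mul, mul_neg, h1]
    | neg_right a b _ _ h1 => rw [neg_mul, mul_neg, h1]
    | mul_left a b c _ _ _ h1 h2 => rw [mul_assoc, h2, ← mul_assoc, h1, mul_assoc]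
    | mul_right a b c _ _ _ h1 h2 => rw [← mul_assoc, h1, mul_assoc, h2, ← mul_assoc]

/-- A maximal commutative subring inside `S`, its generator, and its centraliser in `S`. -/
lemma exists_maximal [Finite A] :
    ∃ R : Subring A, D.InS R ∧
      (∀ y ∈ D.S, (∀ f ∈ R, f * y = y * f) → y ∈ R) := by
  obtain ⟨R, hR, hmax⟩ := Set.exists_max_image {R : Subring A | D.InS R} (fun R => Nat.card R)
    (Set.toFinite _) ⟨⊥, D.inS_bot⟩
  refine ⟨R, hR, fun y hy hc => ?_⟩
  have h1 := D.inS_closure hR hy hc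
  have hle : R ≤ Subring.closure ((R : Set A) ∪ {y}) := fun r hr =>
    Subring.subset_closure (Or.inl hr)
  have h2 := Set.eq_of_subset_of_ncard_le (s := (R : Set A)) hle (by
    rw [← Nat.card_coe_set_eq, ← Nat.card_coe_set_eq]
    exact hmax _ h1) (Set.toFinite _)
  rw [← SetLike.mem_coe, h2]
  exact Subring.subset_closure (Or.inr rfl)

end Spread

end CfsgLib.OstromWagner
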