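import Cfsg.Agent.Lib.OstromWagner.SpreadJordan
import Cfsg.Agent.Lib.OstromWagner.Grading
import Cfsg.Agent.Lib.OstromWagner.FieldTools

/-!
# Components of a spread set under a maximal field
-/

namespace CfsgLib.OstromWagner

variable {A K : Type*} [Ring A] [Nontrivial A] [Finite A] [Field K] [Finite K]
  [Fintype (RingAut K)] [DecidableEq (RingAut K)] {p : ℕ} [Fact p.Prime] [CharP K p]

/-- A field inside the spread set, equal to its centraliser there. -/
structure MaxField (D : Spread A p) (ι : K →+* A) (g : K) : Prop where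
  mem : ∀ f, ι f ∈ D.S
  cent : ∀ y ∈ D.S, y ∈ compSub ι 1 → ∃ f, ι f = y
  gen : IsGen g

omit [Nontrivial A] [Finite A] [Finite K] [Fintype (RingAut K)] [DecidableEq (RingAut K)]
  [CharP K p] [Fact p.Prime] in
lemma scal_pow {ι : K →+* A} {σ : RingAut K} {u : A} (hu : u ∈ compSub ι σ) (ν : K) :
    ∀ m : ℕ, (ι ν * u) ^ m = ι (normAlong σ m ν) * u ^ m
  | 0 => by simp [normAlong]
  | m + 1 => by
    rw [pow_succ, scal_pow hu ν m, normAlong, normAlong, Finset.prod_range_succ, map_mul, pow_succ]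
    calc ι (∏ j ∈ Finset.range m, (σ ^ j) ν) * u ^ m * (ι ν * u)
        = ι (∏ j ∈ Finset.range m, (σ ^ j) ν) * (u ^ m * ι ν) * u := by simp only [mul_assoc]
      _ = _ := by rw [compSub_pow ι hu m ν]; simp only [mul_assoc]

variable {D : Spread A p} {ι : K →+* A} {g : K} (M : MaxField D ι g)

include M

omit [Finite A] [Finite K] [Fintype (RingAut K)] [DecidableEq (RingAut K)] [CharP K p] in
lemma MaxField.sandwich {x : A} (hx : x ∈ D.S) (a b : K) :
    ι a * x * ι b + ι b * x * ι a ∈ D.S :=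
  D.abc_cba (M.mem a) hx (M.mem b)

omit [Finite A] in
/-- Symmetrised components lie in the spread set. -/
lemma MaxField.pair_mem {x : A} (hx : x ∈ D.S) (σ : RingAut K) (ν : K) :
    ι ν * proj ι g σ x + ι (σ⁻¹ ν) * proj ι g σ⁻¹ x ∈ D.S := by
  rw [← pair_eq_sum ι (p := p) M.gen σ ν x]
  exact D.S.sum_mem fun k _ => M.sandwich hx _ _

omit [Finite A] in
/-- The component of degree one is a scalar. -/
lemma MaxField.proj_one_mem {x : A} (hx : x ∈ D.S) : ∃ f, ι f = proj ι g 1 x := by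
  refine M.cent _ ?_ (proj_mem ι (p := p) M.gen 1 x)
  have hinvol : ∀ σ : RingAut K, σ ≠ 1 → σ⁻¹ = σ → proj ι g σ x ∈ D.S := by
    intro σ h1 h2
    obtain ⟨ν, hν⟩ : ∃ ν : K, ν + σ ν ≠ 0 := by
      by_contra hc
      push Not at hc
      refine h1 (RingEquiv.ext fun ν => ?_)
      show σ ν = ν
      have e1 := hc 1
      rw [map_one] at e1
      have e2 : ν + ν = 0 := by rw [← two_mul, ← one_add_one_eq_two, e1, zero_mul]
      rw [eq_neg_of_add_eq_zero_right (hc ν)]
      exact (eq_neg_of_add_eq_zero_right e2).symm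
    set t := ν + σ ν with ht
    have hσσ : σ (σ ν) = ν :=
      (congrArg (fun τ : RingAut K => τ (σ ν)) h2).symm.trans (σ.symm_apply_apply ν)
    have hσt : σ t = t := by rw [ht, map_add, hσσ, add_comm]
    have h := M.pair_mem hx σ (ν / t)
    rw [h2, ← add_mul, ← map_add, map_div₀, hσt, ← add_div, div_self hν, map_one, one_mul] at h
    exact h
  have key : ∀ T : Finset (RingAut K), (∀ σ ∈ T, σ⁻¹ ∈ T) → (1 : RingAut K) ∉ T →
      ∑ σ ∈ T, proj ι g σ x ∈ D.S := by
    intro T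
    induction T using Finset.strongInduction with
    | _ T ih =>
      intro hinv h1
      rcases T.eq_empty_or_nonempty with rfl | ⟨σ, hσ⟩
      · simp [D.S.zero_mem]
      have hσ1 : σ ≠ 1 := fun e => h1 (e ▸ hσ)
      by_cases h2 : σ⁻¹ = σ
      · rw [← Finset.add_sum_erase T _ hσ]
        refine D.S.add_mem (hinvol σ hσ1 h2) (ih _ (Finset.erase_ssubset hσ) (fun τ hτ => ?_)
          (fun h => h1 (Finset.mem_of_mem_erase h)))
        obtain ⟨hτσ, hτ⟩ := Finset.mem_erase.1 hτ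
        exact Finset.mem_erase.2 ⟨fun e => hτσ (by rw [← inv_inv τ, e, h2]), hinv τ hτ⟩
      · rw [← Finset.add_sum_erase T _ hσ,
          ← Finset.add_sum_erase _ _ (Finset.mem_erase.2 ⟨h2, hinv σ hσ⟩), ← add_assoc]
        have h := M.pair_mem hx σ 1
        rw [map_one σ⁻¹, map_one ι, one_mul, one_mul] at h
        refine D.S.add_mem h (ih _ ((Finset.erase_subset _ _).trans_ssubset
          (Finset.erase_ssubset hσ)) (fun τ hτ => ?_)
          (fun h => h1 (Finset.mem_of_mem_erase (Finset.mem_of_mem_erase h))))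
        obtain ⟨hτσ', hτ⟩ := Finset.mem_erase.1 hτ
        obtain ⟨hτσ, hτ⟩ := Finset.mem_erase.1 hτ
        exact Finset.mem_erase.2 ⟨fun e => hτσ (inv_injective e),
          Finset.mem_erase.2 ⟨fun e => hτσ' (by rw [← e, inv_inv]), hinv τ hτ⟩⟩
  have h := key (Finset.univ.erase 1) (fun σ hσ => Finset.mem_erase.2
    ⟨fun e => (Finset.mem_erase.1 hσ).1 (inv_eq_one.1 e), Finset.mem_univ _⟩)
    (Finset.notMem_erase _ _)
  have h2 := sum_proj ι M.gen x
  rw [← Finset.add_sum_erase _ _ (Finset.mem_univ (1 : RingAut K))] at h2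
  rw [eq_sub_of_add_eq h2]
  exact D.S.sub_mem hx h

omit [Finite A] in
/-- There are no pure elements of nontrivial degree. -/
lemma MaxField.pure_eq_zero {σ : RingAut K} (hσ : σ ≠ 1) {y : A} (hy : y ∈ D.S)
    (hyc : y ∈ compSub ι σ) : y = 0 := by
  by_contra hy0
  have hd := AutOrder.of_orderOf (σ := σ)
  set d := orderOf σ
  obtain ⟨c, hc⟩ := M.cent _ (D.pow_mem hy d) (by
    have := compSub_pow ι hyc d
    rwa [hd.pow_eq] at this)
  obtain ⟨uy, huy⟩ := D.isUnit y hy hy0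
  have hc0 : c ≠ 0 := by
    rintro rfl
    rw [map_zero, ← huy, ← Units.val_pow_eq_pow_val] at hc
    exact (uy ^ d).ne_zero hc.symm
  have hσc : σ c = c := by
    have h1 : ι (σ c) * y = ι c * y := by
      rw [← hyc c, hc, ← pow_succ', pow_succ]
    rw [← huy, Units.mul_left_inj] at h1
    exact ι.injective h1
  obtain ⟨l, hl0, hl⟩ := norm_surjective hd (inv_ne_zero hc0) (by rw [map_inv₀, hσc])
  set z := ι l * y with hz
  have hzd : z ^ d = 1 := by
    rw [hz, scal_pow hyc, hl, ← hc, ← map_mul, inv_mul_cancel₀ hc0, map_one]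
  have h1z : 1 - z ≠ 0 := by
    intro e
    have h1 : proj ι g 1 (1 - z) = 0 := by rw [e, map_zero]
    rw [map_sub, ← map_one ι, proj_of_comp ι M.gen (compSub_scalar_one ι 1),
      proj_of_comp ι M.gen (compSub_scalar ι hyc l), if_pos rfl, if_neg (Ne.symm hσ), sub_zero,
      map_one] at h1
    exact one_ne_zero h1
  have hzu : IsUnit (1 - z) := by
    have h1 : ι l⁻¹ - y = ι l⁻¹ * (1 - z) := by
      rw [mul_sub, mul_one, hz, ← mul_assoc, ← map_mul, inv_mul_cancel₀ hl0, map_one, one_mul]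
    have h2 : ι l⁻¹ - y ≠ 0 := fun e => h1z (by
      rw [h1] at e
      calc 1 - z = ι l * (ι l⁻¹ * (1 - z)) := by
            rw [← mul_assoc, ← map_mul, mul_inv_cancel₀ hl0, map_one, one_mul]
        _ = 0 := by rw [e, mul_zero])
    have h3 := D.isUnit _ (D.S.sub_mem (M.mem _) hy) h2
    rw [h1] at h3
    have h4 : IsUnit (ι l) := (IsUnit.mk0 l hl0).map ι
    have h5 := h4.mul h3
    rwa [← mul_assoc, ← map_mul, mul_inv_cancel₀ hl0, map_one, one_mul] at h5
  have hsum : ∑ j ∈ Finset.range d, z ^ j = 0 := by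
    rw [← hzu.mul_right_eq_zero, mul_neg_geom_sum, hzd, sub_self]
  have h1 : proj ι g 1 (∑ j ∈ Finset.range d, z ^ j) = 1 := by
    rw [map_sum, Finset.sum_eq_single 0 (fun j hj hj0 => ?_)
      (fun h => absurd (Finset.mem_range.2 hd.pos) h)]
    · rw [pow_zero, ← map_one ι, proj_of_comp ι M.gen (compSub_scalar_one ι 1), if_pos rfl]
    · rw [proj_of_comp ι M.gen (compSub_pow ι (compSub_scalar ι hyc l) j), if_neg]
      intro e
      exact hj0 (hd.injOn j (Finset.mem_range.1 hj) 0 hd.pos (by rw [pow_zero]; exact e.symm))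
  rw [hsum, map_zero] at h1
  exact zero_ne_one h1

omit [Finite A] in
/-- In a symmetric pair the product of the two parts is a scalar. -/
lemma MaxField.pair_products {σ : RingAut K} (hσ : σ⁻¹ ≠ σ) {u w : A} (hu : u ∈ compSub ι σ)
    (hw : w ∈ compSub ι σ⁻¹) (hpair : ∀ ν : K, ι ν * u + ι (σ⁻¹ ν) * w ∈ D.S) :
    ∃ a b : K, ι a = u * w ∧ ι b = w * u := by
  have hx : u + w ∈ D.S := by simpa using hpair 1
  set x := u + w with hxdef
  have hsq : σ * σ ≠ 1 := fun e => hσ (inv_eq_of_mul_eq_one_right e)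
  have hsq' : σ⁻¹ * σ⁻¹ ≠ 1 := fun e => hsq (by
    rw [← mul_inv_rev, inv_eq_one] at e
    exact e)
  obtain ⟨c₁, hc₁⟩ := M.proj_one_mem (D.pow_mem hx 2)
  obtain ⟨c₂, hc₂⟩ := M.proj_one_mem (D.aba hx (M.mem g))
  have huw : u * w ∈ compSub ι 1 := by
    have := compSub_mul ι hu hw
    rwa [mul_inv_cancel] at this
  have hwu : w * u ∈ compSub ι 1 := by
    have := compSub_mul ι hw hu
    rwa [inv_mul_cancel] at this
  have e1 : proj ι g 1 (x ^ 2) = u * w + w * u := by
    rw [hxdef, pow_two, add_mul, mul_add, mul_add, map_add, map_add, map_add,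
      proj_of_comp ι M.gen (compSub_mul ι hu hu), proj_of_comp ι M.gen huw,
      proj_of_comp ι M.gen hwu, proj_of_comp ι M.gen (compSub_mul ι hw hw),
      if_neg (Ne.symm hsq), if_neg (Ne.symm hsq'), if_pos rfl, if_pos rfl]
    abel
  have e2 : proj ι g 1 (x * ι g * x) = ι (σ g) * (u * w) + ι (σ⁻¹ g) * (w * u) := by
    have h : x * ι g * x = ι (σ g) * (u * u) + ι (σ g) * (u * w) + (ι (σ⁻¹ g) * (w * u)
        + ι (σ⁻¹ g) * (w * w)) := by
      rw [hxdef, add_mul u w (ι g), hu g, hw g, add_mul, mul_add, mul_add]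
      simp only [mul_assoc]
    rw [h, map_add, map_add, map_add,
      proj_of_comp ι M.gen (compSub_scalar ι (compSub_mul ι hu hu) _),
      proj_of_comp ι M.gen (compSub_scalar ι huw _), proj_of_comp ι M.gen (compSub_scalar ι hwu _),
      proj_of_comp ι M.gen (compSub_scalar ι (compSub_mul ι hw hw) _),
      if_neg (Ne.symm hsq), if_neg (Ne.symm hsq'), if_pos rfl, if_pos rfl]
    abel
  rw [e1] at hc₁
  rw [e2] at hc₂
  have hne : σ g - σ⁻¹ g ≠ 0 := sub_ne_zero.2 fun e => hσ (M.gen.aut_ext e).symm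
  have e3 : (ι (σ g) * (u * w) + ι (σ⁻¹ g) * (w * u)) - ι (σ⁻¹ g) * (u * w + w * u)
      = ι (σ g - σ⁻¹ g) * (u * w) := by
    rw [map_sub, sub_mul, mul_add]
    abel
  have ha : ι ((σ g - σ⁻¹ g)⁻¹ * (c₂ - σ⁻¹ g * c₁)) = u * w := by
    rw [map_mul, map_sub, map_mul, hc₁, hc₂, e3, ← mul_assoc, ← map_mul, inv_mul_cancel₀ hne,
      map_one, one_mul]
  refine ⟨(σ g - σ⁻¹ g)⁻¹ * (c₂ - σ⁻¹ g * c₁), c₁ - (σ g - σ⁻¹ g)⁻¹ * (c₂ - σ⁻¹ g * c₁),
    ha, ?_⟩
  rw [map_sub, hc₁, ha]
  abel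

omit [Finite A] in
/-- A symmetric pair with vanishing products is trivial. -/
lemma MaxField.pair_orth {σ : RingAut K} (hσ : σ⁻¹ ≠ σ) {u w : A} (hu : u ∈ compSub ι σ)
    (hw : w ∈ compSub ι σ⁻¹) (hpair : ∀ ν : K, ι ν * u + ι (σ⁻¹ ν) * w ∈ D.S)
    (huw : u * w = 0) (hwu : w * u = 0) : u = 0 := by
  by_contra hu0
  have hσ1 : σ ≠ 1 := fun e => hσ (by rw [e, inv_one])
  have hd := AutOrder.of_orderOf (σ := σ)
  set d := orderOf σ
  have hpow : ∀ (u' w' : A), u' * w' = 0 → w' * u' = 0 → ∀ j : ℕ, 1 ≤ j →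
      (u' + w') ^ j = u' ^ j + w' ^ j := by
    intro u' w' h h' j hj
    induction j, hj using Nat.le_induction with
    | base => rw [pow_one, pow_one, pow_one]
    | succ j hj ih =>
      obtain ⟨i, rfl⟩ := Nat.exists_eq_succ_of_ne_zero (show j ≠ 0 by omega)
      rw [pow_succ' (u' + w'), ih, add_mul, mul_add, mul_add, pow_succ' u', pow_succ' w',
        show u' * (w' * w' ^ i) = 0 by rw [← mul_assoc, h, zero_mul],
        show w' * (u' * u' ^ i) = 0 by rw [← mul_assoc, h', zero_mul], ← pow_succ' u',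
        ← pow_succ' w', ← pow_succ' u', ← pow_succ' w', add_zero, zero_add]
  have hx : u + w ∈ D.S := by simpa using hpair 1
  have hxd := hpow u w huw hwu d hd.pos
  have hu1 : u ^ d ∈ compSub ι 1 := by
    have := compSub_pow ι hu d; rwa [hd.pow_eq] at this
  have hw1 : w ^ d ∈ compSub ι 1 := by
    have := compSub_pow ι hw d; rwa [inv_pow, hd.pow_eq, inv_one] at this
  obtain ⟨c, hc⟩ := M.cent _ (D.pow_mem hx d) (hxd ▸ AddSubgroup.add_mem _ hu1 hw1)
  have hproj : proj ι g σ (u + w) = u := by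
    rw [map_add, proj_of_comp ι M.gen hu, proj_of_comp ι M.gen hw, if_pos rfl,
      if_neg (Ne.symm hσ), add_zero]
  have hx0 : u + w ≠ 0 := fun e => hu0 (by rw [← hproj, e, map_zero])
  obtain ⟨ux, hux⟩ := D.isUnit _ hx hx0
  have hc0 : c ≠ 0 := by
    rintro rfl
    rw [map_zero, ← hux, ← Units.val_pow_eq_pow_val] at hc
    exact (ux ^ d).ne_zero hc.symm
  have hσc : σ c = c := by
    have h1 : (u + w) * ι c = ι c * (u + w) := by rw [hc, ← pow_succ', pow_succ]
    have h2 := congrArg (proj ι g σ) h1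
    rw [add_mul, hu c, hw c, mul_add, map_add, map_add,
      proj_of_comp ι M.gen (compSub_scalar ι hu _), proj_of_comp ι M.gen (compSub_scalar ι hw _),
      proj_of_comp ι M.gen (compSub_scalar ι hu _), proj_of_comp ι M.gen (compSub_scalar ι hw _),
      if_pos rfl, if_neg (Ne.symm hσ), add_zero, if_pos rfl, if_neg (Ne.symm hσ), add_zero] at h2
    by_contra hne
    refine hu0 ?_
    have h3 : ι (σ c - c) * u = 0 := by rw [map_sub, sub_mul, h2, sub_self]
    exact (((IsUnit.mk0 _ (sub_ne_zero.2 hne)).map ι).mul_right_eq_zero).1 h3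
  obtain ⟨ν, hν0, hν⟩ := norm_surjective hd (inv_ne_zero hc0) (by rw [map_inv₀, hσc])
  set y := ι ν * u + ι (σ⁻¹ ν) * w with hy
  have hzero : ι ν * u * (ι (σ⁻¹ ν) * w) = 0 := by
    rw [mul_assoc, ← mul_assoc u, hu, mul_assoc, huw, mul_zero, mul_zero]
  have hzero' : ι (σ⁻¹ ν) * w * (ι ν * u) = 0 := by
    rw [mul_assoc, ← mul_assoc w, hw, mul_assoc, hwu, mul_zero, mul_zero]
  have hyj := hpow _ _ hzero hzero'
  have hN : normAlong σ⁻¹ d (σ⁻¹ ν) = c⁻¹ := by
    rw [normAlong_inv σ hd.pow_eq, normAlong_map σ σ⁻¹ d ((Commute.refl σ).inv_right), hν,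
      map_inv₀, show σ⁻¹ c = c by conv_lhs => rw [← hσc]; exact (σ.symm_apply_apply c)]
  have hyd : y ^ d = 1 := by
    rw [hy, hyj d hd.pos, scal_pow hu, scal_pow hw, hν, hN, ← mul_add, ← hxd, ← hc, ← map_mul,
      inv_mul_cancel₀ hc0, map_one]
  have hy1 : 1 - y ≠ 0 := by
    intro e
    have h1 : proj ι g 1 (1 - y) = 0 := by rw [e, map_zero]
    rw [map_sub, hy, map_add, ← map_one ι, proj_of_comp ι M.gen (compSub_scalar_one ι 1),
      proj_of_comp ι M.gen (compSub_scalar ι hu _), proj_of_comp ι M.gen (compSub_scalar ι hw _),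
      if_pos rfl, if_neg (Ne.symm hσ1), if_neg (Ne.symm (inv_ne_one.2 hσ1)), add_zero, sub_zero,
      map_one] at h1
    exact one_ne_zero h1
  have hunit := D.isUnit _ (D.S.sub_mem D.one_mem (hpair ν)) hy1
  have hsum : ∑ j ∈ Finset.range d, y ^ j = 0 := by
    rw [← hunit.mul_right_eq_zero, mul_neg_geom_sum, hyd, sub_self]
  have h1 : proj ι g 1 (∑ j ∈ Finset.range d, y ^ j) = 1 := by
    rw [map_sum, Finset.sum_eq_single 0 (fun j hj hj0 => ?_)
      (fun h => absurd (Finset.mem_range.2 hd.pos) h)]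
    · rw [pow_zero, ← map_one ι, proj_of_comp ι M.gen (compSub_scalar_one ι 1), if_pos rfl]
    · have hne : σ ^ j ≠ 1 := fun e =>
        hj0 (hd.injOn j (Finset.mem_range.1 hj) 0 hd.pos (by rw [pow_zero]; exact e))
      rw [hy, hyj j (by omega), map_add,
        proj_of_comp ι M.gen (compSub_pow ι (compSub_scalar ι hu _) j),
        proj_of_comp ι M.gen (compSub_pow ι (compSub_scalar ι hw _) j),
        if_neg (Ne.symm hne), if_neg, add_zero]
      rw [inv_pow]
      exact Ne.symm (inv_ne_one.2 hne)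
  rw [hsum, map_zero] at h1
  exact zero_ne_one h1

end CfsgLib.OstromWagner
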