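import Cfsg.Agent.Lib.OstromWagner.SpreadPairs

/-!
# Excluding skew pairs in a spread set
-/

namespace CfsgLib.OstromWagner

variable {A K : Type*} [Ring A] [Field K]

lemma compSub_zpow {ι : K →+* A} {σ : RingAut K} {U : Aˣ} (hU : (U : A) ∈ compSub ι σ) :
    ∀ m : ℤ, ((U ^ m : Aˣ) : A) ∈ compSub ι (σ ^ m)
  | Int.ofNat n => by
    rw [Int.ofNat_eq_natCast, zpow_natCast, zpow_natCast, Units.val_pow_eq_pow_val]
    exact compSub_pow ι hU n
  | Int.negSucc n => by
    rw [zpow_negSucc, zpow_negSucc]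
    refine compSub_inv ι ?_
    rw [Units.val_pow_eq_pow_val]
    exact compSub_pow ι hU _

lemma normAlong_neg (σ : RingAut K) (d : ℕ) (f : K) :
    normAlong σ d (-f) = (-1) ^ d * normAlong σ d f := by
  rw [normAlong, normAlong, Finset.prod_congr rfl (fun j _ => map_neg (σ ^ j) f), Finset.prod_neg,
    Finset.card_range]

lemma normAlong_double (σ : RingAut K) (e : ℕ) (f : K) :
    normAlong σ (2 * e) f = normAlong (σ * σ) e f * σ (normAlong (σ * σ) e f) := by
  induction e with
  | zero => simp [normAlong]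
  | succ e ih =>
    have h1 : ((σ * σ) ^ e) f = (σ ^ (2 * e)) f := by rw [pow_mul, pow_two]
    rw [show 2 * (e + 1) = 2 * e + 1 + 1 by ring, normAlong, Finset.prod_range_succ,
      Finset.prod_range_succ, ← normAlong, ih, normAlong, normAlong, Finset.prod_range_succ,
      map_mul, h1, show (σ ^ (2 * e + 1)) f = σ ((σ ^ (2 * e)) f) by rw [pow_succ']; rfl]
    ring

lemma iterate_scal_mul {ι : K →+* A} (ν : K) (u : A) (j : ℕ) (v : A) :
    (AddMonoidHom.mulLeft (ι ν * u))^[j] v = (ι ν * u) ^ j * v := by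
  induction j with
  | zero => simp
  | succ j ih =>
    rw [Function.iterate_succ_apply', ih, AddMonoidHom.coe_mulLeft, ← mul_assoc, ← pow_succ']

/-- A fixed vector for a semilinear multiplication. -/
lemma exists_eigen {ι : K →+* A} {σ : RingAut K} {d : ℕ} (hd : AutOrder σ d) {u v₀ : A}
    (hu : u ∈ compSub ι σ) {μ r : K} (hμ0 : μ ≠ 0) (hμ : normAlong σ d μ = r) (hv₀ : v₀ ≠ 0)
    (hZ : u ^ d * v₀ = ι r * v₀) : ∃ v : A, v ≠ 0 ∧ u * v = ι μ * v := by
  letI : Module K A := Module.compHom A ι
  have hsmul : ∀ (f : K) (v : A), f • v = ι f * v := fun f v => rfl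
  have hr0 : r ≠ 0 := hμ ▸ normAlong_ne_zero σ d hμ0
  have hN : normAlong σ d μ⁻¹ = r⁻¹ := by
    refine eq_inv_of_mul_eq_one_left ?_
    rw [← hμ, ← normAlong_mul, inv_mul_cancel₀ hμ0, normAlong_one]
  obtain ⟨v, hv, hzv⟩ := exists_fixed_semilinear hd (AddMonoidHom.mulLeft (ι μ⁻¹ * u))
    (fun f v => by
      rw [hsmul, hsmul, AddMonoidHom.coe_mulLeft, ← mul_assoc, mul_assoc (ι μ⁻¹), hu, ← mul_assoc,
        ← mul_assoc, ← map_mul, mul_comm μ⁻¹, map_mul]
      simp only [mul_assoc])
    hv₀ (by
      rw [iterate_scal_mul, scal_pow hu, hN, mul_assoc, hZ, ← mul_assoc, ← map_mul,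
        inv_mul_cancel₀ hr0, map_one, one_mul])
  refine ⟨v, hv, ?_⟩
  rw [AddMonoidHom.coe_mulLeft] at hzv
  calc u * v = ι μ * (ι μ⁻¹ * u * v) := by
        rw [← mul_assoc, ← mul_assoc, ← map_mul, mul_inv_cancel₀ hμ0, map_one, one_mul]
    _ = ι μ * v := by rw [hzv]

variable [Nontrivial A] [Finite A] [Finite K] [Fintype (RingAut K)] [DecidableEq (RingAut K)]
  {p : ℕ} [Fact p.Prime] [CharP K p] {D : Spread A p} {ι : K →+* A} {g : K}

omit [Finite A] [Finite K] [CharP K p] in
lemma MaxField.pair_ne_zero (M : MaxField D ι g) {σ : RingAut K} (hσ : σ⁻¹ ≠ σ) {u : Aˣ} {w : A}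
    (hu : (u : A) ∈ compSub ι σ) (hw : w ∈ compSub ι σ⁻¹) (e : K) {ν : K} (hν : ν ≠ 0) :
    ι e + (ι ν * (u : A) + ι (σ⁻¹ ν) * w) ≠ 0 := by
  have hσ1 : σ ≠ 1 := fun e => hσ (by rw [e, inv_one])
  intro h
  have h1 := congrArg (proj ι g σ) h
  rw [map_zero, map_add, map_add, proj_of_comp ι M.gen (compSub_scalar_one ι e),
    proj_of_comp ι M.gen (compSub_scalar ι hu _), proj_of_comp ι M.gen (compSub_scalar ι hw _),
    if_neg hσ1, if_pos rfl, if_neg (Ne.symm hσ), zero_add, add_zero, Units.mul_left_eq_zero] at h1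
  exact hν (ι.injective (h1.trans (map_zero ι).symm))

/-- No skew pair has an invertible part. -/
lemma MaxField.no_skew (M : MaxField D ι g) {σ : RingAut K} (hσ : σ⁻¹ ≠ σ) {u : Aˣ} {b : K}
    (hb : b ≠ 0) (hu : (u : A) ∈ compSub ι σ)
    (hpair : ∀ ν : K, ι ν * (u : A) + ι (σ⁻¹ ν) * (ι b * ((u⁻¹ : Aˣ) : A)) ∈ D.S) : False := by
  classical
  set w := ι b * ((u⁻¹ : Aˣ) : A) with hwdef
  have hui : ((u⁻¹ : Aˣ) : A) ∈ compSub ι σ⁻¹ := compSub_inv ι hu
  have hw : w ∈ compSub ι σ⁻¹ := compSub_scalar ι hui b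
  have hwu : w * u = ι b := by rw [hwdef, mul_assoc, Units.inv_mul, mul_one]
  have huw : (u : A) * w = ι (σ b) := by
    rw [hwdef, ← mul_assoc, hu, mul_assoc, Units.mul_inv, mul_one]
  have hd := AutOrder.of_orderOf (σ := σ)
  set d := orderOf σ with hddef
  set τ := σ⁻¹ with hτdef
  have hστ : ∀ f, σ (τ f) = f := fun f => σ.apply_symm_apply f
  have hτσ : ∀ f, τ (σ f) = f := fun f => σ.symm_apply_apply f
  -- the two final contradictions
  have fin1 : ∀ (v : A) (μ : K), μ ≠ 0 → v ≠ 0 → (u : A) * v = ι μ * v → False := by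
    intro v μ hμ hv huv
    have hτμ : τ μ ≠ 0 := (map_ne_zero τ).2 hμ
    have hx := hpair 1
    rw [map_one τ, map_one ι, one_mul, one_mul] at hx
    set e := -(μ + b / τ μ)
    have hS : ι e + ((u : A) + w) ∈ D.S := D.S.add_mem (M.mem e) hx
    have hne : ι e + ((u : A) + w) ≠ 0 := by
      simpa [map_one τ] using M.pair_ne_zero hσ hu hw e (one_ne_zero (α := K))
    have h1 : v = ι (τ μ) * (((u⁻¹ : Aˣ) : A) * v) := by
      conv_lhs => rw [← Units.inv_mul_cancel_left u v, huv, ← mul_assoc, hui μ, mul_assoc]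
    have hwv : w * v = ι (b / τ μ) * v := by
      conv_rhs => rw [h1, ← mul_assoc, ← map_mul, div_mul_cancel₀ _ hτμ]
      rw [hwdef, mul_assoc]
    have h2 : (ι e + ((u : A) + w)) * v = 0 := by
      rw [add_mul, add_mul, huv, hwv, ← add_mul, ← add_mul, ← map_add, ← map_add,
        show e + (μ + b / τ μ) = 0 from neg_add_cancel _, map_zero, zero_mul]
    exact hv ((D.isUnit _ hS hne).mul_right_eq_zero.1 h2)
  have fin2 : ∀ (v : A) (α β : K), v ≠ 0 → normAlong σ d (-α) = normAlong σ d b →
      (u : A) * ((u : A) * v) = ι α * v + ι β * ((u : A) * v) → False := by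
    intro v α β hv hN huv
    have hbN : normAlong σ d b ≠ 0 := normAlong_ne_zero σ d hb
    obtain ⟨h, hh0, hh⟩ := hilbert90 hd (f := -α / b) (by
      have h1 := normAlong_mul σ d (-α / b) b
      rw [div_mul_cancel₀ _ hb, hN] at h1
      exact mul_right_cancel₀ hbN (h1.symm.trans (one_mul _).symm))
    set lam := σ h with hlam
    have hlam0 : lam ≠ 0 := (map_ne_zero σ).2 hh0
    have hτlam : τ lam = h := hτσ h
    have hlb : τ lam * b = -α * lam := by
      rw [hτlam, ← hh]
      field_simp
    set e := -(lam * β)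
    have hS : ι e + (ι lam * (u : A) + ι (τ lam) * w) ∈ D.S := D.S.add_mem (M.mem e) (hpair lam)
    have hne := M.pair_ne_zero hσ hu hw e hlam0
    have h2 : (ι e + (ι lam * (u : A) + ι (τ lam) * w)) * ((u : A) * v) = 0 := by
      rw [add_mul, add_mul, mul_assoc (ι lam), huv, mul_assoc (ι (τ lam)), ← mul_assoc w, hwu,
        mul_add, ← mul_assoc (ι lam), ← mul_assoc (ι lam), ← mul_assoc (ι (τ lam)), ← map_mul,
        ← map_mul, ← map_mul, hlb]
      rw [neg_mul, map_neg, map_neg, mul_comm α lam, neg_mul, neg_mul]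
      abel
    have h3 := (D.isUnit _ hS hne).mul_right_eq_zero.1 h2
    exact hv ((Units.mul_right_eq_zero u).1 h3)
  -- the quadratic equation of `u ^ d`
  have hx : (u : A) + w ∈ D.S := by simpa [map_one τ] using hpair 1
  let V : ℕ → AddSubgroup A := fun k => AddSubgroup.closure
    {a | ∃ (f : K) (m : ℤ), m.natAbs < k ∧ a = ι f * ((u ^ m : Aˣ) : A)}
  have hVmem : ∀ (k : ℕ) (f : K) (m : ℤ), m.natAbs < k → ι f * ((u ^ m : Aˣ) : A) ∈ V k :=
    fun k f m hm => AddSubgroup.subset_closure ⟨f, m, hm, rfl⟩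
  have hwpow : ∀ j : ℕ, w ^ j = ι (normAlong τ j b) * ((u ^ (-(j : ℤ)) : Aˣ) : A) := by
    intro j
    rw [hwdef, scal_pow hui, zpow_neg, zpow_natCast, ← inv_pow, Units.val_pow_eq_pow_val]
  have hstep : ∀ (k : ℕ) (a : A), a ∈ V k → ((u : A) + w) * a ∈ V (k + 1) := by
    intro k a ha
    induction ha using AddSubgroup.closure_induction with
    | mem a ha =>
      obtain ⟨f, m, hm, rfl⟩ := ha
      have e : ((u : A) + w) * (ι f * ((u ^ m : Aˣ) : A)) = ι (σ f) * ((u ^ (m + 1) : Aˣ) : A)
          + ι (τ f * b) * ((u ^ (m - 1) : Aˣ) : A) := by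
        rw [add_mul, ← mul_assoc, ← mul_assoc, hu, hw, mul_assoc, mul_assoc,
          show m + 1 = 1 + m by ring, show m - 1 = -1 + m by ring, zpow_add, zpow_add, zpow_one,
          zpow_neg_one, Units.val_mul, Units.val_mul, map_mul, hwdef, mul_assoc, mul_assoc]
      rw [e]
      exact AddSubgroup.add_mem _ (hVmem _ _ _ (by omega)) (hVmem _ _ _ (by omega))
    | zero => rw [mul_zero]; exact AddSubgroup.zero_mem _
    | add a a' _ _ h h' => rw [mul_add]; exact AddSubgroup.add_mem _ h h'
    | neg a _ h => rw [mul_neg]; exact AddSubgroup.neg_mem _ h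
  have hexp : ∀ k : ℕ, 1 ≤ k → ((u : A) + w) ^ k - (u : A) ^ k - w ^ k ∈ V k := by
    intro k hk
    induction k, hk using Nat.le_induction with
    | base => rw [pow_one, pow_one, pow_one, sub_sub, sub_self]; exact AddSubgroup.zero_mem _
    | succ k hk ih =>
      have e : ((u : A) + w) ^ (k + 1) - (u : A) ^ (k + 1) - w ^ (k + 1)
          = ((u : A) + w) * (((u : A) + w) ^ k - (u : A) ^ k - w ^ k)
            + w * (u : A) ^ k + (u : A) * w ^ k := by
        simp only [pow_succ', mul_sub, add_mul]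
        abel
      rw [e]
      refine AddSubgroup.add_mem _ (AddSubgroup.add_mem _ (hstep k _ ih) ?_) ?_
      · obtain ⟨i, rfl⟩ := Nat.exists_eq_succ_of_ne_zero (show k ≠ 0 by omega)
        rw [pow_succ', ← mul_assoc, hwu, ← Units.val_pow_eq_pow_val, ← zpow_natCast]
        exact hVmem _ _ _ (by omega)
      · obtain ⟨i, rfl⟩ := Nat.exists_eq_succ_of_ne_zero (show k ≠ 0 by omega)
        rw [pow_succ', ← mul_assoc, huw, hwpow, ← mul_assoc, ← map_mul]
        exact hVmem _ _ _ (by omega)
  have hproj : ∀ a ∈ V d, ∃ f, proj ι g 1 a = ι f := by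
    intro a ha
    induction ha using AddSubgroup.closure_induction with
    | mem a ha =>
      obtain ⟨f, m, hm, rfl⟩ := ha
      rw [proj_of_comp ι M.gen (compSub_scalar ι (compSub_zpow hu m) f)]
      split_ifs with h
      · obtain ⟨k, hk⟩ := (orderOf_dvd_iff_zpow_eq_one).2 h.symm
        have hm0 : m = 0 := by
          rw [← hddef] at hk
          have : m.natAbs = d * k.natAbs := by rw [hk, Int.natAbs_mul, Int.natAbs_natCast]
          rcases Nat.eq_zero_or_pos k.natAbs with h0 | h0
          · rw [h0, mul_zero, Int.natAbs_eq_zero] at this; exact this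
          · have := Nat.le_mul_of_pos_right d h0; omega
        exact ⟨f, by rw [hm0, zpow_zero, Units.val_one, mul_one]⟩
      · exact ⟨0, (map_zero ι).symm⟩
    | zero => exact ⟨0, by rw [map_zero, map_zero]⟩
    | add a a' _ _ h h' =>
      obtain ⟨f, hf⟩ := h
      obtain ⟨f', hf'⟩ := h'
      exact ⟨f + f', by rw [map_add, hf, hf', map_add]⟩
    | neg a _ h =>
      obtain ⟨f, hf⟩ := h
      exact ⟨-f, by rw [map_neg, hf, map_neg]⟩
  set Z := (u : A) ^ d with hZ
  have hZ1 : Z ∈ compSub ι 1 := by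
    have := compSub_pow ι hu d; rwa [hd.pow_eq] at this
  set N := normAlong σ d b with hN
  have hN0 : N ≠ 0 := normAlong_ne_zero σ d hb
  have hσN : σ N = N := normAlong_self hd.pow_eq b
  have hwd : w ^ d = ι N * ((u⁻¹ : Aˣ) : A) ^ d := by
    rw [hwdef, scal_pow hui, normAlong_inv σ hd.pow_eq]
  have hwd1 : w ^ d ∈ compSub ι 1 := by
    have := compSub_pow ι hw d
    rwa [hτdef, inv_pow, hd.pow_eq, inv_one] at this
  obtain ⟨c, hc⟩ : ∃ c, ι c = Z + w ^ d := by
    obtain ⟨e, he⟩ := M.proj_one_mem (D.pow_mem hx d)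
    obtain ⟨f, hf⟩ := hproj _ (hexp d hd.pos)
    refine ⟨e - f, ?_⟩
    rw [map_sub, he, ← hf, map_sub, map_sub, ← hZ, proj_of_comp ι M.gen hZ1,
      proj_of_comp ι M.gen hwd1, if_pos rfl, if_pos rfl]
    abel
  have hcancel : ((u⁻¹ : Aˣ) : A) ^ d * Z = 1 := by
    rw [hZ, ← Units.val_pow_eq_pow_val, ← Units.val_pow_eq_pow_val, inv_pow, Units.inv_mul]
  have hquad : Z * Z - ι c * Z + ι N = 0 := by
    rw [hc, add_mul, hwd, mul_assoc, hcancel, mul_one]
    abel
  have huZ : (u : A) * Z = Z * u := by rw [hZ, ← pow_succ', pow_succ]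
  have hσc : σ c = c := by
    have hcomm : (u : A) * ((u⁻¹ : Aˣ) : A) ^ d = ((u⁻¹ : Aˣ) : A) ^ d * u :=
      (Commute.pow_right (show Commute (u : A) ((u⁻¹ : Aˣ) : A) by
        rw [Commute, SemiconjBy, Units.mul_inv, Units.inv_mul]) d).eq
    have h1 : (u : A) * ι c = ι c * u := by
      rw [hc, mul_add, add_mul, huZ, hwd, ← mul_assoc, hu, hσN, mul_assoc, hcomm, ← mul_assoc]
    rw [hu, Units.mul_left_inj] at h1
    exact ι.injective h1
  have hZc : ∀ f : K, Z * ι f = ι f * Z := fun f => by rw [hZ1 f]; rfl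
  by_cases hroot : ∃ r : K, r * r - c * r + N = 0
  · -- a root in the field
    obtain ⟨r, hr⟩ := hroot
    have hrr : r * (c - r) = N := by linear_combination -hr
    have hfac : (Z - ι r) * (Z - ι (c - r)) = 0 := by
      rw [← hquad, sub_mul, mul_sub, mul_sub, hZc (c - r), ← map_mul, hrr, map_sub, sub_mul]
      abel
    obtain ⟨r₀, v₀, hv₀, hr₀, hr₀'⟩ : ∃ (r₀ : K) (v₀ : A), v₀ ≠ 0 ∧ Z * v₀ = ι r₀ * v₀ ∧
        r₀ * r₀ - c * r₀ + N = 0 := by
      by_cases h : Z - ι (c - r) = 0
      · exact ⟨c - r, 1, one_ne_zero, by rw [mul_one, mul_one]; exact sub_eq_zero.1 h,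
          by linear_combination hr⟩
      · exact ⟨r, _, h, sub_eq_zero.1 (by rw [← sub_mul]; exact hfac), hr⟩
    have hr₀0 : r₀ ≠ 0 := fun h => hN0 (by rw [h] at hr₀'; simpa using hr₀')
    have hσr : σ r₀ = r₀ ∨ σ r₀ = c - r₀ := by
      have h1 := congrArg σ hr₀'
      rw [map_add, map_sub, map_mul, map_mul, map_zero, hσc, hσN] at h1
      have h2 : (σ r₀ - r₀) * (σ r₀ - (c - r₀)) = 0 := by linear_combination h1 - hr₀'
      exact (mul_eq_zero.1 h2).imp sub_eq_zero.1 sub_eq_zero.1
    rcases hσr with hfix | hswap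
    · obtain ⟨μ, hμ0, hμ⟩ := norm_surjective hd hr₀0 hfix
      obtain ⟨v, hv, huv⟩ := exists_eigen hd hu hμ0 hμ hv₀ hr₀
      exact fin1 v μ hμ0 hv huv
    · by_cases hfix : σ r₀ = r₀
      · obtain ⟨μ, hμ0, hμ⟩ := norm_surjective hd hr₀0 hfix
        obtain ⟨v, hv, huv⟩ := exists_eigen hd hu hμ0 hμ hv₀ hr₀
        exact fin1 v μ hμ0 hv huv
      have hσσ : (σ * σ) r₀ = r₀ := by
        show σ (σ r₀) = r₀
        rw [hswap, map_sub, hσc, hswap, sub_sub_cancel]
      obtain ⟨e, he⟩ : ∃ e, d = 2 * e := by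
        rcases Nat.even_or_odd d with ⟨e, he⟩ | ⟨e, he⟩
        · exact ⟨e, by omega⟩
        · exfalso
          refine hfix ?_
          have h1 : ∀ i : ℕ, ((σ * σ) ^ i) r₀ = r₀ := by
            intro i
            induction i with
            | zero => rfl
            | succ i ih => rw [pow_succ']; exact (congrArg (σ * σ) ih).trans hσσ
          have h2 : (σ ^ d) r₀ = σ r₀ := by
            rw [he, pow_succ', pow_mul, pow_two]
            exact congrArg σ (h1 e)
          rw [hd.pow_eq] at h2
          exact h2.symm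
      have hd2 : AutOrder (σ * σ) e := by
        refine ⟨by have := hd.pos; omega, by rw [← pow_two, ← pow_mul, ← he, hd.pow_eq], ?_⟩
        intro i hi j hj h
        rw [← pow_two, ← pow_mul, ← pow_mul] at h
        have := hd.injOn (2 * i) (by omega) (2 * j) (by omega) h
        omega
      obtain ⟨μ, hμ0, hμ⟩ := norm_surjective hd2 hr₀0 hσσ
      obtain ⟨v, hv, huv⟩ := exists_eigen hd2 (compSub_mul ι hu hu) hμ0 hμ hv₀
        (by rw [← pow_two, ← pow_mul, ← he]; exact hr₀)
      refine fin2 v μ 0 hv ?_ (by rw [map_zero, zero_mul, add_zero, ← mul_assoc]; exact huv)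
      rw [normAlong_neg, he, pow_mul, neg_one_sq, one_pow, one_mul, normAlong_double, hμ,
        hswap]
      linear_combination -hr₀'
  · -- the quadratic extension
    push Not at hroot
    have hindep : ∀ f f' : K, ι f + ι f' * Z = 0 → f = 0 ∧ f' = 0 := by
      intro f f' h
      by_cases hf' : f' = 0
      · subst hf'
        rw [map_zero, zero_mul, add_zero] at h
        exact ⟨ι.injective (h.trans (map_zero ι).symm), rfl⟩
      exfalso
      have hZr : Z = ι (-f / f') := by
        calc Z = ι f'⁻¹ * (ι f' * Z) := by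
              rw [← mul_assoc, ← map_mul, inv_mul_cancel₀ hf', map_one, one_mul]
          _ = ι (-f / f') := by
              rw [eq_neg_of_add_eq_zero_right h, ← map_neg, ← map_mul, div_eq_inv_mul]
      refine hroot (-f / f') (ι.injective ?_)
      rw [map_zero, map_add, map_sub, map_mul, map_mul, ← hZr, hquad]
    have hmul : ∀ f f' h h' : K, (ι f + ι f' * Z) * (ι h + ι h' * Z)
        = ι (f * h - f' * h' * N) + ι (f * h' + f' * h + f' * h' * c) * Z := by
      intro f f' h h'
      have hZZ : Z * Z = ι c * Z - ι N := by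
        rw [← sub_eq_zero, ← hquad]; abel
      rw [add_mul, mul_add, mul_add, ← mul_assoc (ι f) (ι h'), mul_assoc (ι f') Z (ι h), hZc,
        ← mul_assoc (ι f') (ι h), mul_assoc (ι f') Z (ι h' * Z), ← mul_assoc Z (ι h'), hZc,
        mul_assoc (ι h'), hZZ]
      simp only [map_sub, map_mul, map_add, mul_sub, add_mul, mul_assoc]
      abel
    let E : Subring A :=
      { carrier := {a | ∃ f f' : K, a = ι f + ι f' * Z}
        one_mem' := ⟨1, 0, by simp⟩
        zero_mem' := ⟨0, 0, by simp⟩
        add_mem' := by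
          rintro _ _ ⟨f, f', rfl⟩ ⟨h, h', rfl⟩
          exact ⟨f + h, f' + h', by rw [map_add, map_add, add_mul]; abel⟩
        neg_mem' := by
          rintro _ ⟨f, f', rfl⟩
          exact ⟨-f, -f', by rw [map_neg, map_neg, neg_mul]; abel⟩
        mul_mem' := by
          rintro _ _ ⟨f, f', rfl⟩ ⟨h, h', rfl⟩
          exact ⟨_, _, hmul f f' h h'⟩ }
    let mk : K → K → E := fun f f' => ⟨ι f + ι f' * Z, f, f', rfl⟩
    have hmk : ∀ a : E, ∃ f f', a = mk f f' := fun a => by
      obtain ⟨f, f', h⟩ := a.2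
      exact ⟨f, f', Subtype.ext h⟩
    choose c₀ c₁ hc₀₁ using hmk
    have hmkinj : ∀ {f f' h h' : K}, mk f f' = mk h h' → f = h ∧ f' = h' := by
      intro f f' h h' e
      have e' : ι f + ι f' * Z = ι h + ι h' * Z := congrArg Subtype.val e
      have := hindep (f - h) (f' - h') (by
        rw [map_sub, map_sub, sub_mul]
        calc ι f - ι h + (ι f' * Z - ι h' * Z) = ι f + ι f' * Z - (ι h + ι h' * Z) := by abel
          _ = 0 := sub_eq_zero.2 e')
      exact ⟨sub_eq_zero.1 this.1, sub_eq_zero.1 this.2⟩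
    have hcomm : ∀ a b : E, a * b = b * a := by
      intro a b
      rw [hc₀₁ a, hc₀₁ b]
      refine Subtype.ext ?_
      show (ι (c₀ a) + ι (c₁ a) * Z) * (ι (c₀ b) + ι (c₁ b) * Z)
        = (ι (c₀ b) + ι (c₁ b) * Z) * (ι (c₀ a) + ι (c₁ a) * Z)
      rw [hmul, hmul]
      congr 2
      · ring
      · ring
    letI : CommRing E := { (inferInstance : Ring E) with mul_comm := hcomm }
    have hzero : ∀ a b : E, a * b = 0 → a = 0 ∨ b = 0 := by
      intro a b hab
      by_cases ha : a = 0
      · exact Or.inl ha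
      refine Or.inr ?_
      obtain ⟨f, f', rfl⟩ : ∃ f f', a = mk f f' := ⟨_, _, hc₀₁ a⟩
      have hnorm : mk (f + f' * c) (-f') * mk f f' = mk (f * f + f * f' * c + f' * f' * N) 0 := by
        refine Subtype.ext ?_
        show (ι (f + f' * c) + ι (-f') * Z) * (ι f + ι f' * Z) = _
        rw [hmul]
        show _ = ι (f * f + f * f' * c + f' * f' * N) + ι 0 * Z
        congr 2
        · ring
        · congr 1; ring
      have hn0 : f * f + f * f' * c + f' * f' * N ≠ 0 := by
        intro h
        by_cases hf' : f' = 0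
        · subst hf'
          have hf : f = 0 := by simpa using h
          subst hf
          exact ha (Subtype.ext (by simp [mk]))
        · refine hroot (-f / f') ?_
          field_simp
          linear_combination h
      have h1 : mk (f * f + f * f' * c + f' * f' * N) 0 * b = 0 := by
        rw [← hnorm, mul_assoc, hab, mul_zero]
      have h2 : ι (f * f + f * f' * c + f' * f' * N) * (b : A) = 0 := by
        have := congrArg Subtype.val h1
        simpa [mk] using this
      exact Subtype.ext (((IsUnit.mk0 _ hn0).map ι).mul_right_eq_zero.1 h2)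
    haveI : NoZeroDivisors E := ⟨fun {a b} h => hzero a b h⟩
    haveI : IsDomain E := NoZeroDivisors.to_isDomain E
    letI : Fintype E := Fintype.ofFinite E
    letI : Field E := Fintype.fieldOfDomain E
    let j : E →+* A := E.subtype
    -- conjugation by `u`
    have hconj : ∀ f f', (u : A) * (ι f + ι f' * Z) * ((u⁻¹ : Aˣ) : A)
        = ι (σ f) + ι (σ f') * Z := by
      intro f f'
      rw [mul_add, ← mul_assoc, hu, hu, mul_assoc (ι (σ f')) (u : A), huZ, ← mul_assoc, add_mul,
        mul_assoc, Units.mul_inv, mul_one, mul_assoc _ (u : A), Units.mul_inv, mul_one]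
    let φ : E →+* E :=
      { toFun := fun a => ⟨(u : A) * a * ((u⁻¹ : Aˣ) : A), by
          obtain ⟨f, f', hh⟩ := a.2
          exact ⟨σ f, σ f', by rw [hh]; exact hconj f f'⟩⟩
        map_one' := Subtype.ext (by simp)
        map_mul' := fun a b => Subtype.ext (by simp [mul_assoc])
        map_zero' := Subtype.ext (by simp)
        map_add' := fun a b => Subtype.ext (by simp [mul_add, add_mul]) }
    let σE : RingAut E := RingEquiv.ofBijective φ (Finite.injective_iff_bijective.1 φ.injective)
    have hσmk : ∀ f f', σE (mk f f') = mk (σ f) (σ f') := fun f f' => Subtype.ext (hconj f f')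
    have hσpow : ∀ (i : ℕ) f f', (σE ^ i) (mk f f') = mk ((σ ^ i) f) ((σ ^ i) f') := by
      intro i
      induction i with
      | zero => intro f f'; rfl
      | succ i ih =>
        intro f f'
        rw [pow_succ', pow_succ']
        exact (congrArg σE (ih f f')).trans (hσmk _ _)
    have hdE : AutOrder σE d := by
      refine ⟨hd.pos, RingEquiv.ext fun a => ?_, fun i hi i' hi' h => hd.injOn i hi i' hi' ?_⟩
      · rw [hc₀₁ a, hσpow, hd.pow_eq]; rfl
      · refine M.gen.aut_ext ?_
        have h1 := congrArg (fun t : RingAut E => t (mk g 0)) h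
        simp only [hσpow] at h1
        exact (hmkinj h1).1
    have huE : (u : A) ∈ compSub j σE := fun a => by
      show (u : A) * a = (u : A) * a * ((u⁻¹ : Aˣ) : A) * u
      rw [Units.inv_mul_cancel_right]
    let ZE : E := mk 0 1
    have hZEval : (ZE : A) = Z := by simp [ZE, mk]
    have hZE0 : ZE ≠ 0 := fun h => by
      have e : mk 0 1 = mk 0 0 := h.trans (Subtype.ext (by simp [mk]))
      exact one_ne_zero (hmkinj e).2
    have hσZ : σE ZE = ZE := by
      rw [show ZE = mk 0 1 from rfl, hσmk, map_zero σ, map_one σ]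
    obtain ⟨μ, hμ0, hμ⟩ := norm_surjective hdE hZE0 hσZ
    obtain ⟨v, hv, huv⟩ := exists_eigen hdE huE hμ0 hμ (one_ne_zero (α := A))
      (by rw [mul_one, mul_one]; exact hZEval.symm)
    -- bar automorphism
    let bar : E →+* E :=
      { toFun := fun a => mk (c₀ a + c₁ a * c) (-c₁ a)
        map_one' := by
          obtain ⟨e0, e1⟩ := hmkinj ((hc₀₁ 1).symm.trans
            (Subtype.ext (by simp [mk]) : (1 : E) = mk 1 0))
          exact Subtype.ext (by simp [mk, e0, e1])
        map_mul' := fun a b => by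
          have hab : a * b = mk (c₀ a * c₀ b - c₁ a * c₁ b * N)
              (c₀ a * c₁ b + c₁ a * c₀ b + c₁ a * c₁ b * c) := by
            conv_lhs => rw [hc₀₁ a, hc₀₁ b]
            exact Subtype.ext (hmul _ _ _ _)
          obtain ⟨e0, e1⟩ := hmkinj ((hc₀₁ (a * b)).symm.trans hab)
          refine Subtype.ext ?_
          show ι _ + ι _ * Z = (ι _ + ι _ * Z) * (ι _ + ι _ * Z)
          rw [hmul, e0, e1]
          congr 2
          · ring
          · congr 1; ring
        map_zero' := by
          obtain ⟨e0, e1⟩ := hmkinj ((hc₀₁ 0).symm.trans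
            (Subtype.ext (by simp [mk]) : (0 : E) = mk 0 0))
          exact Subtype.ext (by simp [mk, e0, e1])
        map_add' := fun a b => by
          have hab : a + b = mk (c₀ a + c₀ b) (c₁ a + c₁ b) := by
            conv_lhs => rw [hc₀₁ a, hc₀₁ b]
            exact Subtype.ext (by simp [mk, add_mul]; abel)
          obtain ⟨e0, e1⟩ := hmkinj ((hc₀₁ (a + b)).symm.trans hab)
          refine Subtype.ext ?_
          show ι _ + ι _ * Z = (ι _ + ι _ * Z) + (ι _ + ι _ * Z)
          rw [e0, e1]
          simp only [map_add, map_neg, map_mul, add_mul, neg_mul, neg_add]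
          abel }
    have hbarmk : ∀ f f', bar (mk f f') = mk (f + f' * c) (-f') := fun f f' => by
      obtain ⟨e0, e1⟩ := hmkinj (hc₀₁ (mk f f')).symm
      show mk (c₀ (mk f f') + c₁ (mk f f') * c) (-c₁ (mk f f')) = _
      rw [e0, e1]
    have hbarσ : ∀ a, bar (σE a) = σE (bar a) := fun a => by
      rw [hc₀₁ a, hσmk, hbarmk, hbarmk, hσmk, map_add σ, map_mul σ, hσc, map_neg σ]
    have hZNbar : ZE * bar ZE = mk N 0 := by
      rw [show ZE = mk 0 1 from rfl, hbarmk]
      refine Subtype.ext ?_
      show (ι 0 + ι 1 * Z) * (ι (0 + 1 * c) + ι (-1) * Z) = ι N + ι 0 * Z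
      rw [hmul]
      congr 2
      · ring
      · congr 1; ring
    obtain ⟨f, f', hμmk⟩ : ∃ f f', μ = mk f f' := ⟨_, _, hc₀₁ μ⟩
    have hf' : f' ≠ 0 := by
      rintro rfl
      have h1 : normAlong σE d μ = mk (normAlong σ d f) 0 := by
        rw [hμmk]
        let ιE : K →+* E :=
          { toFun := fun f => mk f 0
            map_one' := Subtype.ext (by simp [mk])
            map_mul' := fun a b => Subtype.ext (by simp [mk])
            map_zero' := Subtype.ext (by simp [mk])
            map_add' := fun a b => Subtype.ext (by simp [mk]) }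
        show normAlong σE d (ιE f) = ιE (normAlong σ d f)
        rw [normAlong, normAlong, map_prod]
        exact Finset.prod_congr rfl fun i _ => by
          show (σE ^ i) (mk f 0) = mk _ 0
          rw [hσpow, map_zero (σ ^ i)]
      rw [hμ] at h1
      exact one_ne_zero (hmkinj h1).2
    obtain ⟨A₀, A₁, hA⟩ : ∃ A₀ A₁, σE μ * μ = mk A₀ A₁ := ⟨_, _, hc₀₁ _⟩
    set β := A₁ / f'
    set α := A₀ - β * f
    have hαβ : σE μ * μ = mk α 0 + mk β 0 * μ := by
      rw [hA, hμmk]
      refine Subtype.ext ?_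
      show ι A₀ + ι A₁ * Z = (ι α + ι 0 * Z) + (ι β + ι 0 * Z) * (ι f + ι f' * Z)
      rw [hmul, map_zero, zero_mul, add_zero]
      simp only [zero_mul, sub_zero, add_zero]
      rw [show A₁ = β * f' from (div_mul_cancel₀ _ hf').symm, ← add_assoc, ← map_add,
        sub_add_cancel]
    refine fin2 v α β hv ?_ ?_
    · -- the norm condition
      have hbar0 : ∀ a : K, bar (mk a 0) = mk a 0 := fun a => by
        rw [hbarmk, zero_mul, add_zero, neg_zero]
      set δ := μ - bar μ with hδ
      have hδ0 : δ ≠ 0 := by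
        intro h
        rw [hδ, sub_eq_zero, hμmk, hbarmk] at h
        obtain ⟨e0, e1⟩ := hmkinj h
        have h2 : (2 : K) = 0 := by
          by_contra h2
          refine hf' ?_
          have : (2 : K) * f' = 0 := by linear_combination e1
          exact (mul_eq_zero.1 this).resolve_left h2
        have hc0 : c = 0 := by
          have : f' * c = 0 := by linear_combination -e0
          exact (mul_eq_zero.1 this).resolve_left hf'
        have hsq : Function.Injective (fun r : K => r * r) := by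
          intro x y e
          have : (x - y) * (x - y) = 0 := by
            linear_combination (e : x * x = y * y) + (y * y - x * y) * h2
          exact sub_eq_zero.1 (mul_self_eq_zero.1 this)
        obtain ⟨r, hr⟩ := Finite.injective_iff_surjective.1 hsq N
        refine hroot r ?_
        rw [hc0]
        linear_combination (hr : r * r = N) + N * h2
      have h3 := congrArg bar hαβ
      rw [map_mul, map_add, map_mul, hbar0, hbar0, hbarσ] at h3
      have hkey : -mk α 0 * δ = μ * bar μ * σE δ := by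
        rw [hδ, map_sub]
        linear_combination -(bar μ) * hαβ + μ * h3
      have h4 := congrArg (normAlong σE d) hkey
      rw [normAlong_mul, normAlong_mul, normAlong_mul, normAlong_apply_self hdE.pow_eq] at h4
      have h5 : normAlong σE d (bar μ) = bar ZE := by
        rw [← hμ, normAlong, normAlong, map_prod]
        refine Finset.prod_congr rfl fun i hi => ?_
        clear hi
        induction i with
        | zero => rfl
        | succ i ih =>
          rw [pow_succ']
          show σE ((σE ^ i) (bar μ)) = bar (σE ((σE ^ i) μ))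
          rw [ih, hbarσ]
      rw [hμ, h5, hZNbar] at h4
      have h6 := mul_right_cancel₀ (normAlong_ne_zero σE d hδ0) h4
      have h7 : normAlong σE d (-mk α 0) = mk (normAlong σ d (-α)) 0 := by
        let ιE : K →+* E :=
          { toFun := fun f => mk f 0
            map_one' := Subtype.ext (by simp [mk])
            map_mul' := fun a b => Subtype.ext (by simp [mk])
            map_zero' := Subtype.ext (by simp [mk])
            map_add' := fun a b => Subtype.ext (by simp [mk]) }
        show normAlong σE d (-ιE α) = ιE (normAlong σ d (-α))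
        rw [← map_neg, normAlong, normAlong, map_prod]
        exact Finset.prod_congr rfl fun i _ => by
          show (σE ^ i) (mk (-α) 0) = mk _ 0
          rw [hσpow, map_zero (σ ^ i)]
      rw [h7] at h6
      exact (hmkinj h6).1
    · have h1 : (u : A) * ((u : A) * v) = ((σE μ * μ : E) : A) * v := by
        rw [huv]
        show (u : A) * ((μ : A) * v) = ((σE μ : A) * (μ : A)) * v
        rw [← mul_assoc, show (u : A) * (μ : A) = (σE μ : A) * u from huE μ, mul_assoc, huv,
          ← mul_assoc]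
        rfl
      rw [h1, hαβ, huv]
      show ((ι α + ι 0 * Z) + (ι β + ι 0 * Z) * (μ : A)) * v = ι α * v + ι β * ((μ : A) * v)
      rw [map_zero, zero_mul, add_zero, add_zero, add_mul, mul_assoc]

end CfsgLib.OstromWagner
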