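import Cfsg.Agent.Lib.OstromWagner.Involution
import Cfsg.Agent.Lib.OstromWagner.Orbit

/-!
# Consequences of two-transitivity
-/

namespace CfsgLib.OstromWagner

open Configuration Configuration.ProjectivePlane MulAction

/-- Two-transitivity on a type. -/
def TwoTrans (G α : Type*) [Group G] [MulAction G α] : Prop :=
  ∀ a b c d : α, a ≠ b → c ≠ d → ∃ g : G, g • a = c ∧ g • b = d

variable {G P L : Type*} [Group G] [Membership P L] [MulAction G P] [MulAction G L]
  [ProjectivePlane P L] [Finite P] [Finite L] [IsColl G P L] [Finite G]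

lemma orbits_card_eq (H : Subgroup G) :
    Nat.card (orbitRel.Quotient H P) = Nat.card (orbitRel.Quotient H L) := by
  cases nonempty_fintype H
  have h1 := sum_fixed_eq (G := H) (X := P)
  have h2 := sum_fixed_eq (G := H) (X := L)
  have : (∑ g : H, Nat.card {x : P // g • x = x}) = ∑ g : H, Nat.card {x : L // g • x = x} :=
    Finset.sum_congr rfl fun g _ => fix_card_eq g
  rw [h1, h2] at this
  exact Nat.eq_of_mul_eq_mul_right Nat.card_pos this

omit [Finite G] in
lemma TwoTrans.trans (L : Type*) [Membership P L] [ProjectivePlane P L] [Finite L]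
    (h : TwoTrans G P) (p q : P) : ∃ g : G, g • p = q := by
  obtain ⟨p', -, hp⟩ := exists_ne_on p (exists_line_through (L := L) p p).choose
  obtain ⟨q', -, hq⟩ := exists_ne_on q (exists_line_through (L := L) q q).choose
  obtain ⟨g, hg, -⟩ := h p p' q q' hp.symm hq.symm
  exact ⟨g, hg⟩

omit [Finite G] in
lemma card_orbits_stabilizer_le_two (L : Type*) [Membership P L] [ProjectivePlane P L]
    [Finite L] (h : TwoTrans G P) (p : P) :
    Nat.card (orbitRel.Quotient (stabilizer G p) P) ≤ 2 := by
  classical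
  obtain ⟨q, -, hq⟩ := exists_ne_on p (exists_line_through (L := L) p p).choose
  let f : Bool → orbitRel.Quotient (stabilizer G p) P :=
    fun b => Quotient.mk'' (if b then p else q)
  refine (Nat.card_le_card_of_surjective f fun z => ?_).trans (by simp)
  induction z using Quotient.inductionOn' with
  | h x =>
    by_cases hx : x = p
    · exact ⟨true, by simp [f, hx]⟩
    · obtain ⟨g, hg1, hg2⟩ := h p x p q (Ne.symm hx) hq.symm
      exact ⟨false, Quotient.sound' ⟨⟨g, hg1⟩, hg2⟩⟩

/-- Flags through a common point are permuted transitively. -/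
lemma exists_smul_thru (h : TwoTrans G P) {p : P} {l m : L} (hl : p ∈ l) (hm : p ∈ m) :
    ∃ g : G, g • p = p ∧ g • l = m := by
  have h2 := orbits_card_eq (P := P) (L := L) (stabilizer G p) ▸
    card_orbits_stabilizer_le_two L h p
  obtain ⟨y, hy⟩ := Nondegenerate.exists_line (L := L) p
  obtain ⟨g, hg⟩ := exists_smul_of_two_orbits h2 (Q := fun l : L => p ∈ l)
    (fun g x hx => mem_smul_of_fixed (g := (g : G)) g.2 hx) hy hl hm
  exact ⟨g, g.2, hg⟩

/-- Anti-flags at a common point are permuted transitively. -/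
lemma exists_smul_not_thru (h : TwoTrans G P) {p : P} {l m : L} (hl : p ∉ l) (hm : p ∉ m) :
    ∃ g : G, g • p = p ∧ g • l = m := by
  have h2 := orbits_card_eq (P := P) (L := L) (stabilizer G p) ▸
    card_orbits_stabilizer_le_two L h p
  obtain ⟨y, hy, -⟩ := exists_line_through (L := L) p p
  obtain ⟨g, hg⟩ := exists_smul_of_two_orbits h2 (Q := fun l : L => p ∉ l)
    (fun g x hx hc => hx (by
      have := (smul_mem_iff (g : G) p x).1 (by
        rw [show (g : G) • p = p from g.2]
        exact hc)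
      exact this)) (y := y) (fun hc => hc hy) hl hm
  exact ⟨g, g.2, hg⟩

/-- Flag transitivity. -/
lemma exists_smul_flag (h : TwoTrans G P) {p q : P} {l m : L} (hl : p ∈ l) (hm : q ∈ m) :
    ∃ g : G, g • p = q ∧ g • l = m := by
  obtain ⟨a, ha⟩ := h.trans L p q
  obtain ⟨b, hb, hb'⟩ := exists_smul_thru h (ha ▸ (smul_mem_iff a p l).2 hl) hm
  exact ⟨b * a, by rw [mul_smul, ha, hb], by rw [mul_smul, hb']⟩

/-- Anti-flag transitivity. -/
lemma exists_smul_antiflag (h : TwoTrans G P) {p q : P} {l m : L} (hl : p ∉ l) (hm : q ∉ m) :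
    ∃ g : G, g • p = q ∧ g • l = m := by
  obtain ⟨a, ha⟩ := h.trans L p q
  obtain ⟨b, hb, hb'⟩ := exists_smul_not_thru h (fun hc => hl ((smul_mem_iff a p l).1 (ha ▸ hc)))
    hm
  exact ⟨b * a, by rw [mul_smul, ha, hb], by rw [mul_smul, hb']⟩

lemma exists_smul_lines (h : TwoTrans G P) (l m : L) : ∃ g : G, g • l = m := by
  obtain ⟨p, hp, -⟩ := exists_meet (P := P) l l
  obtain ⟨q, hq, -⟩ := exists_meet (P := P) m m
  obtain ⟨g, -, hg⟩ := exists_smul_flag h hp hq
  exact ⟨g, hg⟩

omit [Finite G] in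
/-- The stabiliser of a line is two-transitive on its points. -/
lemma exists_smul_on_line (h : TwoTrans G P) {a b c d : P} {l : L} (hab : a ≠ b) (hcd : c ≠ d)
    (ha : a ∈ l) (hb : b ∈ l) (hc : c ∈ l) (hd : d ∈ l) :
    ∃ g : G, g • l = l ∧ g • a = c ∧ g • b = d := by
  obtain ⟨g, hga, hgb⟩ := h a b c d hab hcd
  exact ⟨g, line_unique hcd (hga ▸ (smul_mem_iff g a l).2 ha) (hgb ▸ (smul_mem_iff g b l).2 hb)
    hc hd, hga, hgb⟩

/-- The group is also two-transitive on lines. -/
lemma TwoTrans.lines (h : TwoTrans G P) : TwoTrans G L := by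
  have key : ∀ l m m' : L, m ≠ l → m' ≠ l → ∃ g : G, g • l = l ∧ g • m = m' := by
    intro l m m' hm hm'
    have h2 : Nat.card (orbitRel.Quotient (stabilizer G l) L) ≤ 2 := by
      rw [← orbits_card_eq (P := P) (L := L) (stabilizer G l)]
      classical
      obtain ⟨p, hp, -⟩ := exists_meet (P := P) l l
      obtain ⟨q, hq⟩ := Nondegenerate.exists_point (P := P) l
      let f : Bool → orbitRel.Quotient (stabilizer G l) P :=
        fun b => Quotient.mk'' (if b then p else q)
      refine (Nat.card_le_card_of_surjective f fun z => ?_).trans (by simp)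
      induction z using Quotient.inductionOn' with
      | h x =>
        by_cases hx : x ∈ l
        · obtain ⟨g, hg1, hg2⟩ := exists_smul_flag h hx hp
          exact ⟨true, Quotient.sound' ⟨⟨g, hg2⟩, hg1⟩⟩
        · obtain ⟨g, hg1, hg2⟩ := exists_smul_antiflag h hx hq
          exact ⟨false, Quotient.sound' ⟨⟨g, hg2⟩, hg1⟩⟩
    obtain ⟨g, hg⟩ := exists_smul_of_two_orbits h2 (Q := fun m : L => m ≠ l)
      (fun g x hx hc => hx (MulAction.injective (g : G) (hc.trans g.2.symm))) (y := l)
      (fun hc => hc rfl) hm hm'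
    exact ⟨g, g.2, hg⟩
  intro a b c d hab hcd
  obtain ⟨u, hu⟩ := exists_smul_lines h a c
  obtain ⟨v, hv, hv'⟩ := key c (u • b) d
    (fun e => hab (MulAction.injective u (hu.trans e.symm))) hcd.symm
  exact ⟨v * u, by rw [mul_smul, hu, hv], by rw [mul_smul, hv']⟩

lemma TwoTrans.dual (h : TwoTrans G P) : TwoTrans G (Dual L) :=
  (TwoTrans.lines (P := P) (L := L) h : TwoTrans G L)

/-- Orbit of an affine point under the stabiliser of its line. -/
lemma ncard_orbit_affine (h : TwoTrans G P) {p : P} {l : L} (hp : p ∉ l) :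
    (orbit (stabilizer G l) p).ncard = order P L ^ 2 := by
  rw [← card_off (P := P) l, ← Nat.card_coe_set_eq]
  refine Nat.card_congr (Equiv.subtypeEquivRight fun x => ⟨?_, fun hx => ?_⟩)
  · rintro ⟨g, rfl⟩ hc
    exact hp ((smul_mem_iff (g : G) p l).1 (by
      rw [show (g : G) • l = l from g.2]
      exact hc))
  · obtain ⟨g, hg1, hg2⟩ := exists_smul_antiflag h hp hx
    exact ⟨⟨g, hg2⟩, hg1⟩

end CfsgLib.OstromWagner
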